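import Cfsg.Agent.HeldUniq.Model
import Cfsg.Agent.HeldUniq.FusionData
import Mathlib.Data.List.Nodup

/-!
Finite checks on the tables of the model `2^(1+6):L3(2)`, for the fusion of its central involution.
-/

set_option autoImplicit false
set_option maxRecDepth 100000
set_option maxHeartbeats 0

namespace CfsgLib.HeldUniq.Mdl

/-- The inverse matrices, nine bits each. -/
def invTab : Nat := 10917923680927888706888049557473473384599485241734876393804252578545819149360102717975275706039517133754120982307849413025538703271502501893782844134080470862332112873009720998261353670662165718297118989135336490523916519833422809254886205478809246766331613849333218214828036703261474731440857574399136676266165761172256086503121152329171583740481931851916138320837237152674916679652392594871248004922336237367535317127399151392121915449266745399450138437668208910993219969668852075365688961821241178792514715096831533659656258117639614316535083992798869774833787121048773266114639956928072259658861663498313232971786270715397205796357414103894542193714490262327038428199483493873705811133374270603152152047508416419053093194037141100970344203657527081274524195948764412033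753928468173453882278854700346125424267328410786292664442728413940671085889697227198345903551456143679478154051208294898933697472116760165231041482124068481123327273926810951513522893283995640438011904125995647539099786582450283202994671798457531059848902301322626725837779245315466871368712562856434192339229468596042695408690857126905403711422750551766606960458933718302158303653437434930409728632565308153714229370706637023344319632462844146239811598834040296344974489512359681506802234082273471239440310860813194913710470235297687446939837421120699591028051145427274459606362026409984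

/-- The tabulated inverse. -/
def invAt (g : Nat) : Nat := Nat.land (Nat.shiftRight invTab (9 * g)) 511

/-- Whether two codes commute. -/
def commN (a b : Nat) : Bool := Nat.beq (mulN a b) (mulN b a)

/-- The code with matrix pair `x` and lower bits `q`. -/
def atPair (x : Nat × Nat) (q : Nat) : Nat := q + 128 * x.1 + 65536 * x.2

/-- All codes over a list of matrix pairs. -/
def codesOf (P : List (Nat × Nat)) : List Nat := P.flatMap fun x => (List.range 128).map (atPair x)

/-- Whether the lower bits are fixed by a matrix. -/
def qFix (x : Nat × Nat) (q : Nat) : Bool :=
  Nat.beq (app x.1 (vOf q)) (vOf q) && Nat.beq (rapp (pOf q) x.2) (pOf q)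

/-- The elements of the normal 2-subgroup fixed by given matrices. -/
def fixOf (E : List (Nat × Nat)) : List Nat :=
  ((List.range 128).filter fun q => E.all fun x => qFix x q).map (atPair (mone, mone))

/-- The matrices of the first elementary subgroup. -/
def e0Pairs : List (Nat × Nat) := [(273,273), (277,277), (305,305), (309,309)]
/-- The matrices of the second elementary subgroup. -/
def e3Pairs : List (Nat × Nat) := [(273,273), (275,275), (277,277), (279,279)]
/-- The involutions among the matrices of the Sylow subgroup. -/
def eInv : List (Nat × Nat) := [(275,275), (277,277), (279,279), (305,305), (309,309)]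

/-- The elements with one nonzero basic coordinate, first pair. -/
def qx0 : Nat := mk 1 0 0 mone mone
/-- Its partner. -/
def qy0 : Nat := mk 0 1 0 mone mone
/-- The second pair. -/
def qx1 : Nat := mk 2 0 0 mone mone
/-- Its partner. -/
def qy1 : Nat := mk 0 2 0 mone mone

theorem complete_chk : ((List.range 512).all fun g =>
    ((List.range 8).filter fun a => Nat.beq (app g a) 1).all fun a =>
    ((List.range 8).filter fun b => Nat.beq (app g b) 2).all fun b =>
    ((List.range 8).filter fun c => Nat.beq (app g c) 4).all fun c =>
    slPairs.contains (g, a + 8 * b + 64 * c)) = true := by decide +kernel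

theorem pairs_chk : (slPairs.all fun x => Nat.beq (mmul x.1 x.2) mone && Nat.beq (mmul x.2 x.1) mone &&
    Nat.blt x.1 512 && Nat.blt x.2 512 && Nat.beq (invAt x.1) x.2 && Nat.beq (mmul mone x.1) x.1 &&
    Nat.beq (mmul x.2 mone) x.2) = true := by decide +kernel

theorem invAt_chk : ((List.range 512).all fun g => Nat.beq (invAt g) 0 || slPairs.contains (g, invAt g)) = true := by
  decide +kernel

theorem mul_chk : (slPairs.all fun x => slPairs.all fun y =>
    Nat.beq (invAt (mmul x.1 y.1)) (mmul y.2 x.2) && !Nat.beq (mmul y.2 x.2) 0) = true := by
  decide +kernel

/-- The checks on a list of matrices of a subgroup. -/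
def subOk (P : List (Nat × Nat)) : Bool :=
  P.all (fun x => slPairs.contains x) && P.contains (mone, mone) &&
    (P.all fun x => P.all fun y => P.contains (mmul x.1 y.1, mmul y.2 x.2)) && decide P.Nodup

theorem u_ok : subOk uPairs = true := by decide +kernel
theorem p0_ok : subOk p0Pairs = true := by decide +kernel
theorem p3_ok : subOk p3Pairs = true := by decide +kernel
theorem r1_ok : subOk r1Pairs = true := by decide +kernel
theorem r2_ok : subOk r2Pairs = true := by decide +kernel
theorem q_ok : subOk [(mone, mone)] = true := by decide +kernel
theorem sl_nodup : slPairs.Nodup := by decide +kernel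
theorem u_sub : (uPairs.all fun x => p0Pairs.contains x && p3Pairs.contains x) = true := by decide +kernel

theorem qsplit_chk : ((List.range 128).all fun q => Nat.beq (atPair (mone, mone) q)
    (mulN (mk (vOf q) 0 0 mone mone) (mulN (mk 0 (pOf q) 0 mone mone) (mk 0 0 (cOf q) mone mone)))) = true := by
  decide +kernel

theorem uNorm_chk : (slPairs.all fun x => uPairs.contains x ||
    uPairs.any fun u => uPairs.all fun w => !Nat.beq (mmul x.1 u.1) (mmul w.1 x.1)) = true := by decide +kernel

theorem uCenter_chk : ((codesOf uPairs).all fun a => Nat.beq a one || Nat.beq a tN ||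
    (codesOf uPairs).any fun b => !commN a b) = true := by decide +kernel

/-- The generators used for normalisers. -/
def normGens (P : List (Nat × Nat)) : List Nat :=
  ((List.range 8).map fun v => mk v 0 0 mone mone) ++ ((List.range 8).map fun p => mk 0 p 0 mone mone) ++
    [mk 0 0 0 mone mone, mk 0 0 1 mone mone] ++ P.map (fun x => atPair x 0)

/-- Whether generators normalise a list. -/
def normOk (P : List (Nat × Nat)) (W : List Nat) : Bool :=
  (normGens P).all fun n => W.all fun w =>
    W.contains (conjN n w) && Nat.beq (mulN n w) (mulN (conjN n w) n)

/-- The checks on an elementary list. -/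
def elemOk (P E : List (Nat × Nat)) (W : List Nat) : Bool :=
  Nat.beq W.length 64 && decide W.Nodup && W.contains one && W.contains tN &&
    (W.all fun a => mem a && Nat.beq (mulN a a) one && E.contains (gOf a, hOf a) &&
      uPairs.contains (gOf a, hOf a)) &&
    (E.all fun x => W.any fun a => Nat.beq (gOf a) x.1) &&
    (slPairs.all fun x => P.contains x || E.any fun e => E.all fun f => !Nat.beq (mmul x.1 e.1) (mmul f.1 x.1))

theorem w0_elem : elemOk p0Pairs e0Pairs w0List = true := by decide +kernel
theorem w3_elem : elemOk p3Pairs e3Pairs w3List = true := by decide +kernel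
theorem w_ne : (w0List.any fun a => !w3List.contains a) = true := by decide +kernel

/-- A fibre of involutions centralising the fixed part. -/
def fibreOk (E : List (Nat × Nat)) (W : List Nat) : Bool :=
  decide (fixOf E = W.take 16) && E.all fun x => (List.range 128).all fun q =>
    !(Nat.beq (mulN (atPair x q) (atPair x q)) one && (W.take 16).all fun f => commN (atPair x q) f) ||
      W.contains (atPair x q)

theorem fibre0 : fibreOk e0Pairs w0List = true := by decide +kernel
theorem fibre3 : fibreOk e3Pairs w3List = true := by decide +kernel

theorem inv_chk : (uPairs.all fun x => x == (mone, mone) || !Nat.beq (mmul x.1 x.1) mone ||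
    eInv.contains x) = true := by decide +kernel

theorem single_chk : (eInv.all fun x => Nat.ble (fixOf [x]).length 32 &&
    (fixOf [x]).any fun a => (fixOf [x]).any fun b => !commN a b) = true := by decide +kernel

theorem triple_chk : (eInv.all fun x => eInv.all fun y => eInv.all fun z => x == y ||
    !Nat.beq (mmul x.1 y.1) (mmul y.1 x.1) || !Nat.beq (mmul x.1 z.1) (mmul z.1 x.1) ||
    !Nat.beq (mmul y.1 z.1) (mmul z.1 y.1) ||
    (e0Pairs.contains x && e0Pairs.contains y && e0Pairs.contains z &&
      decide (fixOf [x, y] = fixOf e0Pairs)) ||
    (e3Pairs.contains x && e3Pairs.contains y && e3Pairs.contains z &&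
      decide (fixOf [x, y] = fixOf e3Pairs))) = true := by decide +kernel

theorem basic_chk : ([qx0, qy0, qx1, qy1].all fun a => mem a && (qFix (mone, mone) (a % 128))) = true ∧
    commN qx0 qy0 = false ∧ commN qx1 qy1 = false ∧
    mulN (mulN qx0 qy0) (mulN qx0 qy0) ≠ one ∧ mulN (mulN qx1 qy1) (mulN qx1 qy1) ≠ one ∧
    commN (mulN qx0 qx1) qy0 = false ∧ commN (mulN qx0 qy1) qy0 = false ∧
    commN (mulN qy0 qx1) qx0 = false ∧ commN (mulN qy0 qy1) qx0 = false := by decide +kernel

/-- The checks on the orbits of a list. -/
def orbOk (P : List (Nat × Nat)) (W : List Nat) (orb : List (List (Nat × Nat))) : Bool :=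
  decide ((orb.flatMap fun o => o.map Prod.fst).Nodup) &&
    (W.all fun a => Nat.beq a one || (orb.flatMap fun o => o.map Prod.fst).contains a) &&
    (orb.flatMap fun o => o.map Prod.fst).all (fun a => W.contains a && !Nat.beq a one) &&
    orb.all fun o => o.all fun y => mem y.2 && P.contains (gOf y.2, hOf y.2) &&
      Nat.beq (mulN y.2 (o.headD (0, 0)).1) (mulN y.1 y.2)

theorem orb0_ok : orbOk p0Pairs w0List orb0 = true := by decide +kernel
theorem orb3_ok : orbOk p3Pairs w3List orb3 = true := by decide +kernel

/-- The matrices squaring to that of `y`. -/
def sqPairs (y : Nat) : List (Nat × Nat) := slPairs.filter fun x => Nat.beq (mmul x.1 x.1) (gOf y)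

/-- The square roots. -/
def rootsOf (y : Nat) : List Nat := (codesOf (sqPairs y)).filter fun a => Nat.beq (mulN a a) y

theorem rootsT_chk : ((rootsOf tN).all fun a => rootsT.contains a) = true ∧
    (rootsT.all fun a => mem a && Nat.beq (mulN a a) tN) = true ∧ rootsT.Nodup := by decide +kernel

theorem witness_chk : ([17926336, 17926276, 17926280, 17926284, 18188928, 18188940, 18188944].all fun y =>
    rootsT.any fun r => commN r y) = true := by decide +kernel

theorem rootsM : (rootsOf 17926284).length = 16 ∧ (rootsT.filter fun r => commN r 17926284).length = 32 := by
  decide +kernel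

theorem rootsZ : (rootsOf 18188940).length = 0 := by decide +kernel

theorem rootsA : (rootsOf 18188928).length = 16 := by decide +kernel

theorem commT : ([17926336, 17926276, 17926280, 17926284, 18188944].all fun y =>
    !Nat.beq (rootsT.filter fun r => commN r y).length 16) = true := by decide +kernel

theorem links_chk : ((linkW.zip [(2,1), (1,2), (3,3), (4,4), (5,5)]).all fun e => mem e.1 &&
    Nat.beq (mulN e.1 ((orb0.getD e.2.1 []).headD (0, 0)).1)
      (mulN ((orb3.getD e.2.2 []).headD (0, 0)).1 e.1)) = true := by decide +kernel

/-- The checks on a subgroup in the centraliser of `x`. -/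
def centOk (x : Nat) (P : List (Nat × Nat)) : Bool :=
  mem x && !Nat.beq x one && !Nat.beq x tN &&
    Nat.beq ((codesOf P).filter fun a => commN a x).length 512 &&
    (codesOf P).all fun a => !commN a x || [one, tN, x, mulN tN x].contains a ||
      (codesOf P).any fun b => commN b x && !commN a b

theorem cent1 : centOk qx0 r1Pairs = true := by decide +kernel
theorem cent2 : centOk qy0 r2Pairs = true := by decide +kernel

theorem linkX_chk : (linkX.length = 2) ∧ mem (linkX.getD 0 0) = true ∧ mem (linkX.getD 1 0) = true ∧
    mulN (linkX.getD 0 0) qx0 = mulN ((orb0.getD 1 []).headD (0, 0)).1 (linkX.getD 0 0) ∧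
    mulN (linkX.getD 1 0) qy0 = mulN ((orb0.getD 2 []).headD (0, 0)).1 (linkX.getD 1 0) := by decide +kernel

end CfsgLib.HeldUniq.Mdl
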