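import Cfsg.Agent.HeldUniq.Model
import Cfsg.Agent.HeldUniq.FusionChecks
import Mathlib.GroupTheory.Index
import Mathlib.GroupTheory.OrderOfElement

/-!
Arithmetic of the packed model `2^(1+6):L3(2)` and the subgroups given by lists of codes.
-/

set_option autoImplicit false
set_option linter.unusedSectionVars false
set_option maxRecDepth 10000

namespace CfsgLib.HeldUniq

namespace Mdl

theorem beq_of_eq {a b : Nat} (h : a = b) : Nat.beq a b = true := by rw [Nat.beq_eq]; exact h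

theorem bit_eq (w i : Nat) : bit w i = w / 2 ^ i % 2 := by
  show (w >>> i) &&& (2 ^ 1 - 1) = _
  rw [Nat.and_two_pow_sub_one_eq_mod, Nat.shiftRight_eq_div_pow]

theorem bit_lt (w i : Nat) : bit w i < 2 := by rw [bit_eq]; omega

theorem col_eq (g i : Nat) : col g i = g / 2 ^ (3 * i) % 8 := by
  show (g >>> (3 * i)) &&& (2 ^ 3 - 1) = _
  rw [Nat.and_two_pow_sub_one_eq_mod, Nat.shiftRight_eq_div_pow]

theorem col_lt (g i : Nat) : col g i < 8 := by rw [col_eq]; omega

theorem vOf_eq (a : Nat) : vOf a = a % 8 := by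
  show a &&& (2 ^ 3 - 1) = _
  rw [Nat.and_two_pow_sub_one_eq_mod]

theorem pOf_eq (a : Nat) : pOf a = a / 8 % 8 := by
  show (a >>> 3) &&& (2 ^ 3 - 1) = _
  rw [Nat.and_two_pow_sub_one_eq_mod, Nat.shiftRight_eq_div_pow]

theorem cOf_eq (a : Nat) : cOf a = a / 64 % 2 := bit_eq a 6

theorem gOf_eq (a : Nat) : gOf a = a / 128 % 512 := by
  show (a >>> 7) &&& (2 ^ 9 - 1) = _
  rw [Nat.and_two_pow_sub_one_eq_mod, Nat.shiftRight_eq_div_pow]

theorem hOf_eq (a : Nat) : hOf a = a / 65536 := by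
  show a >>> 16 = _
  rw [Nat.shiftRight_eq_div_pow]

theorem xor_lt8 {a b : Nat} (ha : a < 8) (hb : b < 8) : Nat.xor a b < 8 :=
  Nat.xor_lt_two_pow (n := 3) ha hb

theorem xor_lt2 {a b : Nat} (ha : a < 2) (hb : b < 2) : Nat.xor a b < 2 :=
  Nat.xor_lt_two_pow (n := 1) ha hb

theorem bit_mul_col_lt (w i g j : Nat) : Nat.mul (bit w i) (col g j) < 8 := by
  show bit w i * col g j < 8
  have h1 := bit_lt w i
  have h2 := col_lt g j
  rcases (show bit w i = 0 ∨ bit w i = 1 by omega) with h | h <;> rw [h] <;> omega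

theorem app_lt (g w : Nat) : app g w < 8 :=
  xor_lt8 (bit_mul_col_lt w 0 g 0) (xor_lt8 (bit_mul_col_lt w 1 g 1) (bit_mul_col_lt w 2 g 2))

theorem dot_lt (p w : Nat) : dot p w < 2 := xor_lt2 (bit_lt _ _) (xor_lt2 (bit_lt _ _) (bit_lt _ _))

theorem rapp_lt (q g : Nat) : rapp q g < 8 := by
  have h0 := dot_lt q (col g 0)
  have h1 := dot_lt q (col g 1)
  have h2 := dot_lt q (col g 2)
  rw [rapp]; omega

theorem mmul_lt (g k : Nat) : mmul g k < 512 := by
  have h0 := app_lt g (col k 0)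
  have h1 := app_lt g (col k 1)
  have h2 := app_lt g (col k 2)
  rw [mmul]; omega

theorem mk_fields {v p c g h : Nat} (hv : v < 8) (hp : p < 8) (hc : c < 2) (hg : g < 512) :
    vOf (mk v p c g h) = v ∧ pOf (mk v p c g h) = p ∧ cOf (mk v p c g h) = c ∧
      gOf (mk v p c g h) = g ∧ hOf (mk v p c g h) = h := by
  simp only [mk, vOf_eq, pOf_eq, cOf_eq, gOf_eq, hOf_eq]
  omega

theorem eq_mk (a : Nat) : a = mk (vOf a) (pOf a) (cOf a) (gOf a) (hOf a) := by
  simp only [mk, vOf_eq, pOf_eq, cOf_eq, gOf_eq, hOf_eq]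
  omega

theorem fields_lt (a : Nat) : vOf a < 8 ∧ pOf a < 8 ∧ cOf a < 2 ∧ gOf a < 512 := by
  simp only [vOf_eq, pOf_eq, cOf_eq, gOf_eq]
  omega

theorem mulN_fields (a b : Nat) :
    vOf (mulN a b) = Nat.xor (vOf a) (app (gOf a) (vOf b)) ∧
      pOf (mulN a b) = Nat.xor (pOf a) (rapp (pOf b) (hOf a)) ∧
      gOf (mulN a b) = mmul (gOf a) (gOf b) ∧ hOf (mulN a b) = mmul (hOf b) (hOf a) := by
  obtain ⟨hv, hp, hc, -⟩ := fields_lt a
  obtain ⟨-, -, hc', -⟩ := fields_lt b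
  have h := mk_fields (h := mmul (hOf b) (hOf a)) (xor_lt8 hv (app_lt (gOf a) (vOf b)))
    (xor_lt8 hp (rapp_lt (pOf b) (hOf a)))
    (xor_lt2 (xor_lt2 hc hc') (dot_lt (pOf a) (app (gOf a) (vOf b)))) (mmul_lt (gOf a) (gOf b))
  exact ⟨h.1, h.2.1, h.2.2.2.1, h.2.2.2.2⟩

theorem pair_facts {g h : Nat} (hx : (g, h) ∈ slPairs) :
    mmul g h = mone ∧ mmul h g = mone ∧ g < 512 ∧ h < 512 ∧ invAt g = h ∧ mmul mone g = g ∧
      mmul h mone = h := by
  have h' := List.all_eq_true.1 pairs_chk _ hx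
  simp only [Bool.and_eq_true, Nat.beq_eq, Nat.blt_eq] at h'
  obtain ⟨⟨⟨⟨⟨⟨h1, h2⟩, h3⟩, h4⟩, h5⟩, h6⟩, h7⟩ := h'
  exact ⟨h1, h2, h3, h4, h5, h6, h7⟩

theorem mem_iff_pair (a : Nat) : mem a = true ↔ (gOf a, hOf a) ∈ slPairs := by
  constructor
  · intro ha
    simp only [mem, Bool.and_eq_true, Nat.beq_eq, Nat.blt_eq] at ha
    obtain ⟨⟨ha, hgh⟩, -⟩ := ha
    have hg := (fields_lt a).2.2.2
    have hh : hOf a < 512 := by rw [hOf_eq]; omega
    have e0 := app_lt (gOf a) (col (hOf a) 0)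
    have e1 := app_lt (gOf a) (col (hOf a) 1)
    have e2 := app_lt (gOf a) (col (hOf a) 2)
    rw [mmul, mone] at hgh
    have c1 := List.all_eq_true.1 complete_chk (gOf a) (List.mem_range.2 hg)
    have c2 := List.all_eq_true.1 c1 (col (hOf a) 0) (List.mem_filter.2
      ⟨List.mem_range.2 (col_lt _ _), beq_of_eq (by omega)⟩)
    have c3 := List.all_eq_true.1 c2 (col (hOf a) 1) (List.mem_filter.2
      ⟨List.mem_range.2 (col_lt _ _), beq_of_eq (by omega)⟩)
    have c4 := List.all_eq_true.1 c3 (col (hOf a) 2) (List.mem_filter.2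
      ⟨List.mem_range.2 (col_lt _ _), beq_of_eq (by omega)⟩)
    have he : col (hOf a) 0 + 8 * col (hOf a) 1 + 64 * col (hOf a) 2 = hOf a := by
      simp only [col_eq]; omega
    rw [he] at c4
    exact List.contains_iff_mem.1 c4
  · intro hx
    obtain ⟨h1, h2, -, h4, -⟩ := pair_facts hx
    simp only [mem, Bool.and_eq_true, Nat.beq_eq, Nat.blt_eq]
    refine ⟨⟨?_, h1⟩, h2⟩
    rw [hOf_eq] at h4
    omega

theorem mem_mulN {a b : Nat} (ha : mem a = true) (hb : mem b = true) : mem (mulN a b) = true := by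
  rw [mem_iff_pair] at ha hb ⊢
  have h := List.all_eq_true.1 (List.all_eq_true.1 mul_chk _ ha) _ hb
  simp only [Bool.and_eq_true, Nat.beq_eq, Bool.not_eq_true'] at h
  obtain ⟨h1, h2⟩ := h
  have hne : mmul (hOf b) (hOf a) ≠ 0 := fun e => by rw [e] at h2; exact Bool.noConfusion h2
  have h3 := List.all_eq_true.1 invAt_chk _ (List.mem_range.2 (mmul_lt (gOf a) (gOf b)))
  rw [Bool.or_eq_true, h1] at h3
  rw [(mulN_fields a b).2.2.1, (mulN_fields a b).2.2.2]
  rcases h3 with h3 | h3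
  · exact absurd (Nat.eq_of_beq_eq_true h3) hne
  · exact List.contains_iff_mem.1 h3

theorem mem_one : mem one = true := by decide +kernel

theorem mem_tN : mem tN = true := by decide +kernel

theorem atPair_fields {x : Nat × Nat} {q : Nat} (hx : x.1 < 512) (hq : q < 128) :
    atPair x q = mk (q % 8) (q / 8 % 8) (q / 64) x.1 x.2 ∧ gOf (atPair x q) = x.1 ∧
      hOf (atPair x q) = x.2 := by
  simp only [atPair, mk, gOf_eq, hOf_eq]
  omega

theorem atPair_self (a : Nat) : atPair (gOf a, hOf a) (a % 128) = a := by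
  simp only [atPair, gOf_eq, hOf_eq]
  omega

theorem mem_codesOf {P : List (Nat × Nat)} (hP : ∀ x ∈ P, x.1 < 512) (a : Nat) :
    a ∈ codesOf P ↔ (gOf a, hOf a) ∈ P := by
  simp only [codesOf, List.mem_flatMap, List.mem_map, List.mem_range]
  constructor
  · rintro ⟨x, hx, q, hq, rfl⟩
    obtain ⟨-, e1, e2⟩ := atPair_fields (hP x hx) hq
    rw [e1, e2]; exact hx
  · exact fun h => ⟨_, h, a % 128, Nat.mod_lt _ (by decide), atPair_self a⟩

theorem nodup_codesOf {P : List (Nat × Nat)} (hP : ∀ x ∈ P, x.1 < 512) (hn : P.Nodup) :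
    (codesOf P).Nodup := by
  rw [codesOf, List.nodup_flatMap]
  refine ⟨fun x _ => List.Nodup.map (fun p q e => ?_) List.nodup_range, ?_⟩
  · simp only [atPair] at e; omega
  · refine hn.imp_of_mem fun {x y} hx hy hne => ?_
    intro a ha hb
    obtain ⟨p, hp, rfl⟩ := List.mem_map.1 ha
    obtain ⟨q, hq, e⟩ := List.mem_map.1 hb
    obtain ⟨-, a1, a2⟩ := atPair_fields (hP x hx) (List.mem_range.1 hp)
    obtain ⟨-, b1, b2⟩ := atPair_fields (hP y hy) (List.mem_range.1 hq)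
    rw [e] at b1 b2
    exact hne (Prod.ext (a1.symm.trans b1) (a2.symm.trans b2))

theorem length_codesOf (P : List (Nat × Nat)) : (codesOf P).length = P.length * 128 := by
  induction P with
  | nil => rfl
  | cons x P ih => simp only [codesOf, List.flatMap_cons, List.length_append, List.length_map,
      List.length_range, List.length_cons] at ih ⊢; omega

theorem subOk_facts {P : List (Nat × Nat)} (h : subOk P = true) :
    (∀ x ∈ P, x ∈ slPairs) ∧ (mone, mone) ∈ P ∧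
      (∀ x ∈ P, ∀ y ∈ P, (mmul x.1 y.1, mmul y.2 x.2) ∈ P) ∧ P.Nodup := by
  simp only [subOk, Bool.and_eq_true, List.all_eq_true, List.contains_iff_mem, decide_eq_true_eq] at h
  exact ⟨h.1.1.1, h.1.1.2, h.1.2, h.2⟩

theorem subOk_lt {P : List (Nat × Nat)} (h : subOk P = true) : ∀ x ∈ P, x.1 < 512 :=
  fun x hx => (pair_facts ((subOk_facts h).1 x hx)).2.2.1

/-- An element is its part in the normal 2-subgroup times its matrix. -/
theorem split_code {a : Nat} (ha : mem a = true) :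
    a = mulN (atPair (mone, mone) (a % 128)) (atPair (gOf a, hOf a) 0) ∧
      atPair (mone, mone) (a % 128) = mulN (mk (vOf a) 0 0 mone mone)
        (mulN (mk 0 (pOf a) 0 mone mone) (mk 0 0 (cOf a) mone mone)) := by
  have hx := (mem_iff_pair a).1 ha
  obtain ⟨-, -, hg, -, -, e6, e7⟩ := pair_facts hx
  obtain ⟨hv, hp, hc, -⟩ := fields_lt a
  have hq : a % 128 < 128 := Nat.mod_lt _ (by decide)
  constructor
  · have hm : mone < 512 := by decide
    rw [(atPair_fields (x := (mone, mone)) hm hq).1, (atPair_fields (x := (gOf a, hOf a)) hg (q := 0) (by decide)).1]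
    simp only [vOf_eq, pOf_eq, cOf_eq] at hv hp hc
    have A := mk_fields (v := a % 128 % 8) (p := a % 128 / 8 % 8) (c := a % 128 / 64) (g := mone)
      (h := mone) (by omega) (by omega) (by omega) hm
    have B := mk_fields (v := 0 % 8) (p := 0 / 8 % 8) (c := 0 / 64) (g := gOf a) (h := hOf a)
      (by omega) (by omega) (by omega) hg
    show a = mulN (mk _ _ _ _ _) (mk _ _ _ _ _)
    rw [mulN]
    dsimp only
    rw [A.1, A.2.1, A.2.2.1, A.2.2.2.1, A.2.2.2.2, B.1, B.2.1, B.2.2.1, B.2.2.2.1, B.2.2.2.2,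
      show app mone (0 % 8) = 0 from rfl, show rapp (0 / 8 % 8) mone = 0 from rfl,
      show dot (a % 128 / 8 % 8) 0 = 0 by
        have : ∀ p < 8, dot p 0 = 0 := by decide
        exact this _ (by omega),
      e6, e7]
    show a = mk (a % 128 % 8 ^^^ 0) (a % 128 / 8 % 8 ^^^ 0) ((a % 128 / 64 ^^^ 0 / 64) ^^^ 0) (gOf a) (hOf a)
    simp only [Nat.xor_zero, Nat.zero_div, mk, gOf_eq, hOf_eq]
    omega
  · have h := List.all_eq_true.1 qsplit_chk _ (List.mem_range.2 hq)
    rw [Nat.beq_eq] at h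
    rw [h]
    simp only [vOf_eq, pOf_eq, cOf_eq]
    rw [show a % 128 % 8 = a % 8 by omega, show a % 128 / 8 % 8 = a / 8 % 8 by omega,
      show a % 128 / 64 % 2 = a / 64 % 2 by omega]

end Mdl

section Elements

variable {G : Type*} [Group G] {t : G} (F : Frame t)

namespace Frame

theorem mem_cent {a : Nat} (ha : Mdl.mem a = true) : F.ev a * t = t * F.ev a := by
  have h := (F.mem_iff (F.ev a)).2 ⟨a, ha, rfl⟩
  exact ((Subgroup.mem_centralizer_singleton_iff).1 h)

theorem exists_code {g : G} (h : g * t = t * g) : ∃ a, Mdl.mem a = true ∧ F.ev a = g :=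
  (F.mem_iff g).1 (Subgroup.mem_centralizer_singleton_iff.2 h)

theorem ev_one : F.ev Mdl.one = 1 := by
  have h := F.map_mul Mdl.one Mdl.one Mdl.mem_one Mdl.mem_one
  rw [show Mdl.mulN Mdl.one Mdl.one = Mdl.one from rfl] at h
  exact mul_eq_left.1 h.symm

include F in
theorem t_ne_one : t ≠ 1 := fun e =>
  absurd (F.inj _ _ Mdl.mem_tN Mdl.mem_one (F.ev_t.trans (e.trans F.ev_one.symm))) (by decide)

include F in
theorem t_mul_t : t * t = 1 := by
  rw [← F.ev_t, ← F.map_mul _ _ Mdl.mem_tN Mdl.mem_tN, show Mdl.mulN Mdl.tN Mdl.tN = Mdl.one from rfl,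
    F.ev_one]

include F in
theorem orderOf_t : orderOf t = 2 :=
  orderOf_eq_prime (by rw [sq, F.t_mul_t]) F.t_ne_one

theorem comm_iff {a b : Nat} (ha : Mdl.mem a = true) (hb : Mdl.mem b = true) :
    F.ev a * F.ev b = F.ev b * F.ev a ↔ Mdl.mulN a b = Mdl.mulN b a := by
  rw [← F.map_mul a b ha hb, ← F.map_mul b a hb ha]
  exact ⟨fun e => F.inj _ _ (Mdl.mem_mulN ha hb) (Mdl.mem_mulN hb ha) e, fun e => by rw [e]⟩

theorem commN_iff {a b : Nat} (ha : Mdl.mem a = true) (hb : Mdl.mem b = true) :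
    Mdl.commN a b = true ↔ F.ev a * F.ev b = F.ev b * F.ev a := by
  rw [Mdl.commN, Nat.beq_eq, F.comm_iff ha hb]

theorem conj_of {n a b : Nat} (hn : Mdl.mem n = true) (ha : Mdl.mem a = true)
    (hb : Mdl.mem b = true) (h : Mdl.mulN n a = Mdl.mulN b n) :
    F.ev n * F.ev a * (F.ev n)⁻¹ = F.ev b := by
  rw [← F.map_mul n a hn ha, h, F.map_mul b n hb hn, mul_inv_cancel_right]

theorem eq_one_iff {a : Nat} (ha : Mdl.mem a = true) : F.ev a = 1 ↔ a = Mdl.one :=
  ⟨fun e => F.inj _ _ ha Mdl.mem_one (e.trans F.ev_one.symm), fun e => by rw [e, F.ev_one]⟩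

theorem eq_t_iff {a : Nat} (ha : Mdl.mem a = true) : F.ev a = t ↔ a = Mdl.tN :=
  ⟨fun e => F.inj _ _ ha Mdl.mem_tN (e.trans F.ev_t.symm), fun e => by rw [e, F.ev_t]⟩

/-- The number of elements of a set given by a list of codes. -/
theorem card_of_codes {X : Set G} (L : List Nat) (hn : L.Nodup) (hm : ∀ a ∈ L, Mdl.mem a = true)
    (h : ∀ g, g ∈ X ↔ ∃ a ∈ L, F.ev a = g) : Nat.card X = L.length := by
  classical
  have e : X = ((L.map F.ev).toFinset : Set G) := by
    ext g; simp [h]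
  rw [e, Nat.card_coe_set_eq, Set.ncard_coe_finset,
    List.toFinset_card_of_nodup (List.Nodup.map_on (fun a ha b hb e => F.inj a b (hm a ha) (hm b hb) e) hn),
    List.length_map]

include F in
theorem card_cent : Nat.card (Subgroup.centralizer ({t} : Set G)) = 21504 := by
  have h : Nat.card (Subgroup.centralizer ({t} : Set G) : Set G) = (Mdl.codesOf Mdl.slPairs).length := by
    have hlt : ∀ x ∈ Mdl.slPairs, x.1 < 512 := fun x hx => (Mdl.pair_facts hx).2.2.1
    refine F.card_of_codes _ (Mdl.nodup_codesOf hlt Mdl.sl_nodup) (fun a ha => ?_) fun g => ?_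
    · exact (Mdl.mem_iff_pair a).2 ((Mdl.mem_codesOf hlt a).1 ha)
    · rw [SetLike.mem_coe, F.mem_iff]
      exact exists_congr fun a => and_congr_left' ((Mdl.mem_iff_pair a).trans (Mdl.mem_codesOf hlt a).symm)
  rw [Mdl.length_codesOf] at h
  exact h.trans rfl

variable [Finite G]

/-- A finite set closed under products and containing the identity, as a subgroup. -/
def ofClosed (X : Set G) (h1 : (1 : G) ∈ X) (hm : ∀ g ∈ X, ∀ k ∈ X, g * k ∈ X) : Subgroup G where
  carrier := X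
  one_mem' := h1
  mul_mem' := fun {g k} hg hk => hm g hg k hk
  inv_mem' := fun {g} hg => by
    have hp : ∀ n : ℕ, g ^ n ∈ X := fun n => by
      induction n with
      | zero => rwa [pow_zero]
      | succ n ih => rw [pow_succ]; exact hm _ ih _ hg
    have h : g ^ (orderOf g - 1) * g = 1 := by
      rw [← pow_succ, Nat.sub_add_cancel (orderOf_pos g), pow_orderOf_eq_one]
    rw [← eq_inv_of_mul_eq_one_left h]
    exact hp _

theorem sub_mul_mem {P : List (Nat × Nat)} (hP : Mdl.subOk P = true) {a b : Nat}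
    (ha : (Mdl.gOf a, Mdl.hOf a) ∈ P) (hb : (Mdl.gOf b, Mdl.hOf b) ∈ P) :
    (Mdl.gOf (Mdl.mulN a b), Mdl.hOf (Mdl.mulN a b)) ∈ P := by
  rw [(Mdl.mulN_fields a b).2.2.1, (Mdl.mulN_fields a b).2.2.2]
  exact (Mdl.subOk_facts hP).2.2.1 _ ha _ hb

/-- The subgroup over a group of matrices. -/
def over (P : List (Nat × Nat)) (hP : Mdl.subOk P = true) : Subgroup G :=
  ofClosed {g | ∃ a, (Mdl.gOf a, Mdl.hOf a) ∈ P ∧ F.ev a = g}
    ⟨Mdl.one, (Mdl.subOk_facts hP).2.1, F.ev_one⟩ fun g hg k hk => by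
      obtain ⟨a, ha, rfl⟩ := hg
      obtain ⟨b, hb, rfl⟩ := hk
      exact ⟨Mdl.mulN a b, sub_mul_mem hP ha hb,
        F.map_mul a b ((Mdl.mem_iff_pair a).2 ((Mdl.subOk_facts hP).1 _ ha))
          ((Mdl.mem_iff_pair b).2 ((Mdl.subOk_facts hP).1 _ hb))⟩

theorem mem_over {P : List (Nat × Nat)} {hP : Mdl.subOk P = true} {g : G} :
    g ∈ F.over P hP ↔ ∃ a, (Mdl.gOf a, Mdl.hOf a) ∈ P ∧ F.ev a = g := Iff.rfl

theorem mem_of_pair {P : List (Nat × Nat)} (hP : Mdl.subOk P = true) {a : Nat}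
    (ha : (Mdl.gOf a, Mdl.hOf a) ∈ P) : Mdl.mem a = true :=
  (Mdl.mem_iff_pair a).2 ((Mdl.subOk_facts hP).1 _ ha)

theorem ev_mem_over {P : List (Nat × Nat)} {hP : Mdl.subOk P = true} {a : Nat}
    (ha : Mdl.mem a = true) : F.ev a ∈ F.over P hP ↔ (Mdl.gOf a, Mdl.hOf a) ∈ P := by
  refine ⟨?_, fun h => ⟨a, h, rfl⟩⟩
  rintro ⟨b, hb, e⟩
  rwa [F.inj b a (mem_of_pair hP hb) ha e] at hb

theorem over_le_cent (P : List (Nat × Nat)) (hP : Mdl.subOk P = true) :
    F.over P hP ≤ Subgroup.centralizer ({t} : Set G) := by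
  rintro g ⟨a, ha, rfl⟩
  exact (F.mem_iff _).2 ⟨a, mem_of_pair hP ha, rfl⟩

theorem card_over (P : List (Nat × Nat)) (hP : Mdl.subOk P = true) :
    Nat.card (F.over P hP) = P.length * 128 := by
  rw [← Mdl.length_codesOf]
  refine F.card_of_codes (X := (F.over P hP : Set G)) _
    (Mdl.nodup_codesOf (Mdl.subOk_lt hP) (Mdl.subOk_facts hP).2.2.2)
    (fun a ha => mem_of_pair hP ((Mdl.mem_codesOf (Mdl.subOk_lt hP) a).1 ha)) fun g => ?_
  rw [SetLike.mem_coe, mem_over]
  exact exists_congr fun a => and_congr_left' (Mdl.mem_codesOf (Mdl.subOk_lt hP) a).symm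

/-- The subgroup given by a closed list of codes. -/
def ofList (W : List Nat) (h1 : Mdl.one ∈ W) (hm : ∀ a ∈ W, Mdl.mem a = true)
    (hc : ∀ a ∈ W, ∀ b ∈ W, Mdl.mulN a b ∈ W) : Subgroup G :=
  ofClosed {g | ∃ a ∈ W, F.ev a = g} ⟨_, h1, F.ev_one⟩ fun g hg k hk => by
    obtain ⟨a, ha, rfl⟩ := hg
    obtain ⟨b, hb, rfl⟩ := hk
    exact ⟨Mdl.mulN a b, hc a ha b hb, F.map_mul a b (hm a ha) (hm b hb)⟩

/-- The Sylow subgroup of the centraliser. -/
def syl : Subgroup G := F.over Mdl.uPairs Mdl.u_ok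

theorem card_syl : Nat.card F.syl = 1024 := F.card_over _ _

theorem syl_le : F.syl ≤ Subgroup.centralizer ({t} : Set G) := F.over_le_cent _ _

end Frame

end Elements

end CfsgLib.HeldUniq
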