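import Mathlib.GroupTheory.Index
import Mathlib.GroupTheory.OrderOfElement

/-!
# The model `2^{1+6}_+ : L₃(2)` of the involution centraliser in the Held group

An element is a number `v + 2^3 p + 2^6 c + 2^7 g + 2^16 h`: `v` a vector of `F₂³`, `p` a row vector,
`c` the central bit, `g` a `3 × 3` matrix given by its three columns and `h` its inverse.
The product is `(v, p, c, g) (w, q, d, k) = (v + g w, p + q g⁻¹, c + d + ⟨p, g w⟩, g k)`.
-/

set_option autoImplicit false

namespace CfsgLib.HeldUniq

namespace Mdl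

/-- The column `i` of a matrix given by nine bits. -/
def col (g i : Nat) : Nat := Nat.land (Nat.shiftRight g (3 * i)) 7

/-- Bit `i`, as `0` or `1`. -/
def bit (w i : Nat) : Nat := Nat.land (Nat.shiftRight w i) 1

/-- Matrix times column vector. -/
def app (g w : Nat) : Nat :=
  Nat.xor (Nat.mul (bit w 0) (col g 0)) (Nat.xor (Nat.mul (bit w 1) (col g 1)) (Nat.mul (bit w 2) (col g 2)))

/-- The pairing. -/
def dot (p w : Nat) : Nat :=
  Nat.xor (bit (Nat.land p w) 0) (Nat.xor (bit (Nat.land p w) 1) (bit (Nat.land p w) 2))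

/-- Row vector times matrix. -/
def rapp (q g : Nat) : Nat := dot q (col g 0) + 2 * dot q (col g 1) + 4 * dot q (col g 2)

/-- Matrix product. -/
def mmul (g k : Nat) : Nat := app g (col k 0) + 8 * app g (col k 1) + 64 * app g (col k 2)

/-- The identity matrix. -/
def mone : Nat := 1 + 8 * 2 + 64 * 4

/-- The vector part. -/
def vOf (a : Nat) : Nat := Nat.land a 7
/-- The row part. -/
def pOf (a : Nat) : Nat := Nat.land (Nat.shiftRight a 3) 7
/-- The central bit. -/
def cOf (a : Nat) : Nat := bit a 6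
/-- The matrix part. -/
def gOf (a : Nat) : Nat := Nat.land (Nat.shiftRight a 7) 511
/-- The inverse matrix part. -/
def hOf (a : Nat) : Nat := Nat.shiftRight a 16

/-- Packing. -/
def mk (v p c g h : Nat) : Nat := v + 8 * p + 64 * c + 128 * g + 65536 * h

/-- The product. -/
def mulN (a b : Nat) : Nat :=
  let gw := app (gOf a) (vOf b)
  mk (Nat.xor (vOf a) gw) (Nat.xor (pOf a) (rapp (pOf b) (hOf a)))
    (Nat.xor (Nat.xor (cOf a) (cOf b)) (dot (pOf a) gw))
    (mmul (gOf a) (gOf b)) (mmul (hOf b) (hOf a))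

/-- The codes of elements. -/
def mem (a : Nat) : Bool :=
  Nat.blt a (2 ^ 25) && Nat.beq (mmul (gOf a) (hOf a)) mone && Nat.beq (mmul (hOf a) (gOf a)) mone

/-- The unit. -/
def one : Nat := mk 0 0 0 mone mone

/-- The central involution. -/
def tN : Nat := mk 0 0 1 mone mone

/-- The inverse. -/
def invN (a : Nat) : Nat :=
  mk (app (hOf a) (vOf a)) (rapp (pOf a) (gOf a)) (Nat.xor (cOf a) (dot (pOf a) (vOf a))) (hOf a) (gOf a)

/-- Conjugation `b a b⁻¹`. -/
def conjN (b a : Nat) : Nat := mulN (mulN b a) (invN b)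

/-- The value of a word. -/
def prodN : List Nat → Nat
  | [] => one
  | a :: l => mulN a (prodN l)

end Mdl

/-- A frame: the centraliser of `t` written as the model. -/
structure Frame {G : Type*} [Group G] (t : G) where
  ev : Nat → G
  map_mul : ∀ a b, Mdl.mem a = true → Mdl.mem b = true → ev (Mdl.mulN a b) = ev a * ev b
  inj : ∀ a b, Mdl.mem a = true → Mdl.mem b = true → ev a = ev b → a = b
  mem_iff : ∀ g, g ∈ Subgroup.centralizer ({t} : Set G) ↔ ∃ a, Mdl.mem a = true ∧ ev a = g
  ev_t : ev Mdl.tN = t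

end CfsgLib.HeldUniq
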