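import Cfsg.Agent.HeldUniq.ActData
import Mathlib.Tactic.Group

/-!
Kernel checks for the automorphisms of the common centraliser of two involutions which exchange them.
-/

set_option autoImplicit false
set_option linter.unusedSectionVars false
set_option maxRecDepth 100000

namespace CfsgLib.HeldUniq

namespace Mdl

/-- The second involution. -/
def swX : Nat := mk 0 1 0 mone mone

/-- The value of a word in given codes. -/
def evalW (b : List Nat) (w : List Nat) : Nat := prodN (w.map fun i => b.getD i one)

/-- The elements of the common centraliser. -/
def dList : List Nat := (codesOf dPairs).filter fun a => commN a swX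

/-- The triviality of the tested words agrees with that on the generators. -/
def sameOn (ws : List (List Nat)) (b : List Nat) : Bool :=
  ws.all fun w => Nat.beq (evalW dGens w) one == Nat.beq (evalW b w) one

/-- The tests on a triple of images. -/
def tripleOk (b : List Nat) : Bool :=
  sameOn flt2 b && Nat.beq (evalW b wordT) swX && Nat.beq (evalW b wordX) tN &&
    Nat.beq (evalW b loopL) (evalW b loopR)

/-- The centraliser of both involutions is covered by the chosen matrices. -/
theorem dPairs_complete : (slPairs.all fun x => dPairs.contains x ||
    (List.range 128).all fun q => !commN (atPair x q) swX) = true := by decide +kernel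

theorem dPairs_sub : (dPairs.all fun x => slPairs.contains x) = true := by decide +kernel

theorem dGens_ok : (dGens.all fun a => mem a && commN a swX) = true ∧ dGens.length = 3 ∧
    evalW dGens wordT = tN ∧ evalW dGens wordX = swX ∧ evalW dGens loopL = evalW dGens loopR := by
  decide +kernel

theorem tau0_ok : mem tau0 = true ∧ mem swX = true ∧ mem (mulN swX tN) = true ∧
    mulN tau0 swX = mulN (mulN swX tN) tau0 ∧ mulN swX tN = mulN tN swX ∧
    mulN swX swX = one ∧ swX ≠ tN := by decide +kernel

theorem codes_ok : ((b0 :: conjB0 ++ stB0 ++ reps1).all fun a => mem a && commN a swX) = true ∧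
    (survivors.all fun s => s.1.length == 3 && match s.2 with
      | some (e, k) => mem e && commN e swX && Nat.blt k 4 && (List.range 3).all fun i =>
          mem ((actTable.getD k []).getD i one) &&
          Nat.beq (mulN e (s.1.getD i one)) (mulN ((actTable.getD k []).getD i one) e)
      | none => imageWords.any fun p => (p.1 == s.1) && p.2.length == 3 &&
          (p.2.all fun w => w.all fun i => Nat.blt i 3) &&
          (List.range 3).all fun i => Nat.beq (evalW dGens (p.2.getD i [])) (s.1.getD i one)) = true := by
  decide +kernel

theorem words_ok :
    ((([0, 0, 0] : List Nat) :: wordT :: wordX :: loopL :: loopR :: flt1 ++ flt2).all fun w =>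
      w.all fun i => Nat.blt i 3) = true ∧ evalW dGens [0, 0, 0] = one ∧ dGens.getD 0 one ≠ one ∧
      (flt1.all fun w => w.all fun i => Nat.blt i 2) = true := by decide +kernel

theorem conj_first : (dList.all fun a => !(Nat.beq (mulN a (mulN a (mulN a one))) one && !Nat.beq a one) ||
    conjB0.any fun e => Nat.beq (mulN e a) (mulN b0 e)) = true := by decide +kernel

theorem conj_second : (dList.all fun a => !sameOn flt1 [b0, a] ||
    stB0.any fun e => Nat.beq (mulN e b0) (mulN b0 e) &&
      reps1.any fun r => Nat.beq (mulN e a) (mulN r e)) = true := by decide +kernel

theorem triples : (reps1.all fun a => dList.all fun c =>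
    !tripleOk [b0, a, c] || survivors.any fun s => s.1 == [b0, a, c]) = true := by decide +kernel

theorem squares : (actTable.all fun r => dList.all fun z =>
    !((List.range 3).all fun i => Nat.beq (mulN z (dGens.getD i one)) (mulN (dGens.getD i one) z)) ||
      [one, tN, swX, mulN swX tN].contains z) = true := by decide +kernel

theorem no_square : (imageWords.all fun p => dList.all fun z =>
    !((List.range 3).all fun i => Nat.beq (mulN z (dGens.getD i one))
        (mulN (evalW p.1 (p.2.getD i [])) z))) = true := by decide +kernel

theorem act_words : ((List.range 4).all fun k => (List.range 3).all fun i =>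
    (((actWords.getD k []).getD i []).all fun j => Nat.blt j 3) &&
      Nat.beq (evalW dGens ((actWords.getD k []).getD i [])) ((actTable.getD k []).getD i one) &&
      Nat.beq (evalW (actTable.getD k []) ((actWords.getD k []).getD i [])) (dGens.getD i one)) = true := by
  decide +kernel

theorem act_mem : (actTable.all fun r => (List.range 3).all fun i =>
    mem (r.getD i one) && commN (r.getD i one) swX) = true := by decide +kernel

theorem mem_swX : mem swX = true := tau0_ok.2.1

theorem mem_dList {a : Nat} : a ∈ dList ↔ mem a = true ∧ commN a swX = true := by
  have hlt : ∀ x ∈ dPairs, x.1 < 512 := fun x hx =>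
    (pair_facts (List.contains_iff_mem.1 (List.all_eq_true.1 dPairs_sub x hx))).2.2.1
  rw [dList, List.mem_filter, mem_codesOf hlt]
  refine and_congr_left fun hc => ⟨fun h => ?_, fun ha => ?_⟩
  · exact (mem_iff_pair a).2 (List.contains_iff_mem.1 (List.all_eq_true.1 dPairs_sub _ h))
  · have h := List.all_eq_true.1 dPairs_complete _ ((mem_iff_pair a).1 ha)
    rw [Bool.or_eq_true, List.contains_iff_mem] at h
    refine h.resolve_right fun h => ?_
    have h' := List.all_eq_true.1 h (a % 128) (List.mem_range.2 (Nat.mod_lt _ (by decide)))
    rw [atPair_self, hc] at h'
    exact Bool.noConfusion h'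

theorem mem_prodN : ∀ l : List Nat, (∀ a ∈ l, mem a = true) → mem (prodN l) = true
  | [], _ => mem_one
  | a :: l, h => mem_mulN (h a List.mem_cons_self) (mem_prodN l fun b hb => h b (List.mem_cons_of_mem _ hb))

end Mdl

end CfsgLib.HeldUniq
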