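import Cfsg.Agent.HeldUniq.ActChecks
import Mathlib.Tactic.Group
import Mathlib.Tactic.IntervalCases
import Mathlib.Data.List.GetD

/-!
An element exchanging `t` and the involution `x` of the second normal elementary subgroup can be
chosen as an involution inducing one of four automorphisms of their common centraliser.
-/

set_option autoImplicit false
set_option linter.unusedSectionVars false
set_option maxRecDepth 100000

namespace CfsgLib.HeldUniq

namespace Frame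

variable {G : Type*} [Group G] {t : G} (F : Frame t)

/-- An element exchanging `t` and the second involution. -/
def Swaps (n : G) : Prop := n * t * n⁻¹ = F.ev Mdl.swX ∧ n * F.ev Mdl.swX * n⁻¹ = t

/-- Conjugation by an element sends the generators to given codes. -/
def ActsBy (n : G) (b : List Nat) : Prop :=
  ∀ i < 3, Mdl.mem (b.getD i Mdl.one) = true ∧ Mdl.commN (b.getD i Mdl.one) Mdl.swX = true ∧
    n * F.ev (Mdl.dGens.getD i Mdl.one) * n⁻¹ = F.ev (b.getD i Mdl.one)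

theorem gens_facts (i : Nat) :
    Mdl.mem (Mdl.dGens.getD i Mdl.one) = true ∧ Mdl.commN (Mdl.dGens.getD i Mdl.one) Mdl.swX = true := by
  by_cases hi : i < Mdl.dGens.length
  · rw [List.getD_eq_getElem _ _ hi]
    have h := List.all_eq_true.1 Mdl.dGens_ok.1 _ (List.getElem_mem hi)
    rwa [Bool.and_eq_true] at h
  · rw [List.getD_eq_default _ _ (Nat.not_lt.1 hi)]
    exact ⟨Mdl.mem_one, by decide +kernel⟩

theorem code_conj {n : G} (hn : F.Swaps n) {a : Nat} (ha : Mdl.mem a = true)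
    (hax : Mdl.commN a Mdl.swX = true) :
    ∃ b, Mdl.mem b = true ∧ Mdl.commN b Mdl.swX = true ∧ n * F.ev a * n⁻¹ = F.ev b := by
  have h1 : Commute (n * F.ev a * n⁻¹) (n * t * n⁻¹) := (Commute.conj_iff n).2 (F.mem_cent ha)
  have h2 : Commute (n * F.ev a * n⁻¹) (n * F.ev Mdl.swX * n⁻¹) :=
    (Commute.conj_iff n).2 ((F.commN_iff ha Mdl.mem_swX).1 hax)
  rw [hn.1] at h1
  rw [hn.2] at h2
  obtain ⟨b, hb, e⟩ := F.exists_code h2
  rw [← e] at h1
  exact ⟨b, hb, (F.commN_iff hb Mdl.mem_swX).2 h1, e.symm⟩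

theorem swaps_mul {n : G} (hn : F.Swaps n) {e : Nat} (he : Mdl.mem e = true)
    (hex : Mdl.commN e Mdl.swX = true) : F.Swaps (F.ev e * n) := by
  have c1 : F.ev e * t * (F.ev e)⁻¹ = t := by rw [F.mem_cent he, mul_inv_cancel_right]
  have c2 : F.ev e * F.ev Mdl.swX * (F.ev e)⁻¹ = F.ev Mdl.swX := by
    rw [(F.commN_iff he Mdl.mem_swX).1 hex, mul_inv_cancel_right]
  refine ⟨?_, ?_⟩
  · rw [← c2, ← hn.1]; group
  · calc F.ev e * n * F.ev Mdl.swX * (F.ev e * n)⁻¹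
        = F.ev e * (n * F.ev Mdl.swX * n⁻¹) * (F.ev e)⁻¹ := by group
      _ = t := by rw [hn.2, c1]

theorem conj_mulN {n : G} {e a b : Nat} (he : Mdl.mem e = true) (ha : Mdl.mem a = true)
    (hb : Mdl.mem b = true) {g : G} (h : n * g * n⁻¹ = F.ev a) (hm : Mdl.mulN e a = Mdl.mulN b e) :
    F.ev e * n * g * (F.ev e * n)⁻¹ = F.ev b := by
  calc F.ev e * n * g * (F.ev e * n)⁻¹ = F.ev e * (n * g * n⁻¹) * (F.ev e)⁻¹ := by group
    _ = _ := by rw [h, F.conj_of he ha hb hm]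

theorem mem_evalW {b : List Nat} (hb : ∀ i < 3, Mdl.mem (b.getD i Mdl.one) = true) {w : List Nat}
    (hw : ∀ i ∈ w, i < 3) : Mdl.mem (Mdl.evalW b w) = true :=
  Mdl.mem_prodN _ fun a ha => by
    obtain ⟨i, hi, rfl⟩ := List.mem_map.1 ha
    exact hb i (hw i hi)

theorem conj_evalW {n : G} {b : List Nat} : ∀ {w : List Nat},
    (∀ i ∈ w, Mdl.mem (b.getD i Mdl.one) = true ∧
      n * F.ev (Mdl.dGens.getD i Mdl.one) * n⁻¹ = F.ev (b.getD i Mdl.one)) →
    n * F.ev (Mdl.evalW Mdl.dGens w) * n⁻¹ = F.ev (Mdl.evalW b w) := by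
  intro w
  induction w with
  | nil =>
    intro _
    show n * F.ev Mdl.one * n⁻¹ = F.ev Mdl.one
    rw [F.ev_one, mul_one, mul_inv_cancel]
  | cons i w ih =>
    intro h
    obtain ⟨hm, he⟩ := h i List.mem_cons_self
    have h' := fun j hj => h j (List.mem_cons_of_mem _ hj)
    have m1 : Mdl.mem (Mdl.prodN (w.map fun j => Mdl.dGens.getD j Mdl.one)) = true :=
      Mdl.mem_prodN _ fun a ha => by
        obtain ⟨j, -, rfl⟩ := List.mem_map.1 ha
        exact (gens_facts j).1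
    have m2 : Mdl.mem (Mdl.prodN (w.map fun j => b.getD j Mdl.one)) = true :=
      Mdl.mem_prodN _ fun a ha => by
        obtain ⟨j, hj, rfl⟩ := List.mem_map.1 ha
        exact (h' j hj).1
    show n * F.ev (Mdl.mulN _ _) * n⁻¹ = F.ev (Mdl.mulN _ _)
    have hi := ih h'
    simp only [Mdl.evalW] at hi
    rw [F.map_mul _ _ (gens_facts i).1 m1, F.map_mul _ _ hm m2, ← he, ← hi]
    group

theorem sameOn_of_conj {n : G} {b : List Nat} {ws : List (List Nat)}
    (h : ∀ w ∈ ws, ∀ i ∈ w, Mdl.mem (b.getD i Mdl.one) = true ∧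
      n * F.ev (Mdl.dGens.getD i Mdl.one) * n⁻¹ = F.ev (b.getD i Mdl.one)) :
    Mdl.sameOn ws b = true := by
  refine List.all_eq_true.2 fun w hw => beq_iff_eq.2 (Bool.eq_iff_iff.2 ?_)
  have he := F.conj_evalW (h w hw)
  have m2 : Mdl.mem (Mdl.evalW b w) = true := Mdl.mem_prodN _ fun a ha => by
    obtain ⟨j, hj, rfl⟩ := List.mem_map.1 ha
    exact (h w hw j hj).1
  have m1 : Mdl.mem (Mdl.evalW Mdl.dGens w) = true := Mdl.mem_prodN _ fun a ha => by
    obtain ⟨j, -, rfl⟩ := List.mem_map.1 ha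
    exact (gens_facts j).1
  rw [Nat.beq_eq, Nat.beq_eq, ← F.eq_one_iff m1, ← F.eq_one_iff m2, ← he, conj_eq_one_iff]

variable {s : G} (hs : s * F.ev Mdl.swX = F.ev Mdl.swX * s) (hst : s * t * s⁻¹ = t * F.ev Mdl.swX)

include hs hst in
theorem exists_swaps : ∃ n, F.Swaps n := by
  obtain ⟨h0, hx, hxt, he, hcomm, hxx, -⟩ := Mdl.tau0_ok
  have hx2 : F.ev Mdl.swX * F.ev Mdl.swX = 1 := by rw [← F.map_mul _ _ hx hx, hxx, F.ev_one]
  have hsx : s * F.ev Mdl.swX * s⁻¹ = F.ev Mdl.swX := by rw [hs, mul_inv_cancel_right]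
  have hxtc : F.ev Mdl.swX * t = t * F.ev Mdl.swX := F.mem_cent hx
  have hτ : F.ev Mdl.tau0 * F.ev Mdl.swX * (F.ev Mdl.tau0)⁻¹ = F.ev Mdl.swX * t := by
    rw [F.conj_of h0 hx hxt he, F.map_mul _ _ hx Mdl.mem_tN, F.ev_t]
  have hτt : F.ev Mdl.tau0 * t * (F.ev Mdl.tau0)⁻¹ = t := by rw [F.mem_cent h0, mul_inv_cancel_right]
  have hsi : s⁻¹ * t * s = t * F.ev Mdl.swX := by
    have h : s * (t * F.ev Mdl.swX) * s⁻¹ = t := by
      calc s * (t * F.ev Mdl.swX) * s⁻¹ = (s * t * s⁻¹) * (s * F.ev Mdl.swX * s⁻¹) := by group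
        _ = t * (F.ev Mdl.swX * F.ev Mdl.swX) := by rw [hst, hsx, mul_assoc]
        _ = t := by rw [hx2, mul_one]
    calc s⁻¹ * t * s = s⁻¹ * (s * (t * F.ev Mdl.swX) * s⁻¹) * s := by rw [h]
      _ = t * F.ev Mdl.swX := by group
  have hτ2 : F.ev Mdl.tau0 * (t * F.ev Mdl.swX) * (F.ev Mdl.tau0)⁻¹ = F.ev Mdl.swX := by
    calc F.ev Mdl.tau0 * (t * F.ev Mdl.swX) * (F.ev Mdl.tau0)⁻¹
        = (F.ev Mdl.tau0 * t * (F.ev Mdl.tau0)⁻¹) * (F.ev Mdl.tau0 * F.ev Mdl.swX * (F.ev Mdl.tau0)⁻¹) := by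
          group
      _ = t * (F.ev Mdl.swX * t) := by rw [hτt, hτ]
      _ = F.ev Mdl.swX := by rw [hxtc, ← mul_assoc, F.t_mul_t, one_mul]
  have hsxi : s⁻¹ * F.ev Mdl.swX * s = F.ev Mdl.swX := by rw [mul_assoc, ← hs, inv_mul_cancel_left]
  refine ⟨s * F.ev Mdl.tau0 * s⁻¹, ?_, ?_⟩
  · calc s * F.ev Mdl.tau0 * s⁻¹ * t * (s * F.ev Mdl.tau0 * s⁻¹)⁻¹
        = s * (F.ev Mdl.tau0 * (s⁻¹ * t * s) * (F.ev Mdl.tau0)⁻¹) * s⁻¹ := by group
      _ = F.ev Mdl.swX := by rw [hsi, hτ2, hsx]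
  · calc s * F.ev Mdl.tau0 * s⁻¹ * F.ev Mdl.swX * (s * F.ev Mdl.tau0 * s⁻¹)⁻¹
        = s * (F.ev Mdl.tau0 * (s⁻¹ * F.ev Mdl.swX * s) * (F.ev Mdl.tau0)⁻¹) * s⁻¹ := by group
      _ = s * (F.ev Mdl.swX * t) * s⁻¹ := by rw [hsxi, hτ]
      _ = (s * F.ev Mdl.swX * s⁻¹) * (s * t * s⁻¹) := by group
      _ = t := by rw [hsx, hst, ← mul_assoc, hxtc, mul_assoc, hx2, mul_one]

include hs hst in
theorem exists_normal : ∃ n b, F.Swaps n ∧ b ∈ Mdl.survivors ∧ F.ActsBy n b.1 := by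
  obtain ⟨n, hn⟩ := F.exists_swaps hs hst
  have hcodes : ∀ a ∈ Mdl.b0 :: Mdl.conjB0 ++ Mdl.stB0 ++ Mdl.reps1,
      Mdl.mem a = true ∧ Mdl.commN a Mdl.swX = true := fun a ha => by
    have h := List.all_eq_true.1 Mdl.codes_ok.1 a ha
    rwa [Bool.and_eq_true] at h
  obtain ⟨hlt, h000, hne, hlt1⟩ := Mdl.words_ok
  have hw3 : ∀ w ∈ ([0, 0, 0] : List Nat) :: Mdl.wordT :: Mdl.wordX :: Mdl.loopL :: Mdl.loopR ::
      Mdl.flt1 ++ Mdl.flt2, ∀ i ∈ w, i < 3 := fun w hw i hi =>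
    Nat.blt_eq.mp (List.all_eq_true.1 (List.all_eq_true.1 hlt w hw) i hi)
  -- the first image
  obtain ⟨a, ha, hax, ea⟩ := F.code_conj hn (gens_facts 0).1 (gens_facts 0).2
  have hord : (Nat.beq (Mdl.mulN a (Mdl.mulN a (Mdl.mulN a Mdl.one))) Mdl.one && !Nat.beq a Mdl.one) = true := by
    have h := F.sameOn_of_conj (n := n) (b := [a]) (ws := [[0, 0, 0], [0]]) (by
      intro w hw i hi
      obtain rfl : i = 0 := by
        simp only [List.mem_cons, List.not_mem_nil, or_false] at hw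
        rcases hw with rfl | rfl <;> simpa using hi
      exact ⟨ha, ea⟩)
    simp only [Mdl.sameOn, List.all_cons, List.all_nil, Bool.and_true, Bool.and_eq_true, beq_iff_eq] at h
    obtain ⟨h1, h2⟩ := h
    rw [h000] at h1
    rw [Bool.and_eq_true, Bool.not_eq_true']
    refine ⟨h1.symm.trans (Mdl.beq_of_eq rfl), ?_⟩
    by_contra hc
    rw [Bool.not_eq_false] at hc
    have ha1 : a = Mdl.one := Nat.eq_of_beq_eq_true hc
    refine hne ((F.eq_one_iff (gens_facts 0).1).1 ?_)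
    rw [ha1, F.ev_one] at ea
    exact conj_eq_one_iff.1 ea
  have h1 := List.all_eq_true.1 Mdl.conj_first a (Mdl.mem_dList.2 ⟨ha, hax⟩)
  rw [hord, Bool.not_true, Bool.false_or, List.any_eq_true] at h1
  obtain ⟨e, he, hea⟩ := h1
  obtain ⟨hem, hex⟩ := hcodes e (by simp [he])
  obtain ⟨hb0m, hb0x⟩ := hcodes Mdl.b0 (by simp)
  have hn1 := F.swaps_mul hn hem hex
  have e0 := F.conj_mulN hem ha hb0m ea (Nat.eq_of_beq_eq_true hea)
  set n1 := F.ev e * n
  -- the second image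
  obtain ⟨c, hc, hcx, ec⟩ := F.code_conj hn1 (gens_facts 1).1 (gens_facts 1).2
  have hsame : Mdl.sameOn Mdl.flt1 [Mdl.b0, c] = true := F.sameOn_of_conj (n := n1) (by
    intro w hw i hi
    have hi' : i < 2 := Nat.blt_eq.mp (List.all_eq_true.1 (List.all_eq_true.1 hlt1 w hw) i hi)
    interval_cases i
    · exact ⟨hb0m, e0⟩
    · exact ⟨hc, ec⟩)
  have h2 := List.all_eq_true.1 Mdl.conj_second c (Mdl.mem_dList.2 ⟨hc, hcx⟩)
  rw [hsame, Bool.not_true, Bool.false_or, List.any_eq_true] at h2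
  obtain ⟨f, hf, hf'⟩ := h2
  rw [Bool.and_eq_true, List.any_eq_true] at hf'
  obtain ⟨hf0, r, hr, hfr⟩ := hf'
  obtain ⟨hfm, hfx⟩ := hcodes f (by simp [hf])
  obtain ⟨hrm, hrx⟩ := hcodes r (by simp [hr])
  have hn2 := F.swaps_mul hn1 hfm hfx
  have f0 := F.conj_mulN hfm hb0m hb0m e0 (Nat.eq_of_beq_eq_true hf0)
  have f1 := F.conj_mulN hfm hc hrm ec (Nat.eq_of_beq_eq_true hfr)
  set n2 := F.ev f * n1
  -- the third image
  obtain ⟨d, hd, hdx, ed⟩ := F.code_conj hn2 (gens_facts 2).1 (gens_facts 2).2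
  have hact : F.ActsBy n2 [Mdl.b0, r, d] := by
    intro i hi
    interval_cases i
    · exact ⟨hb0m, hb0x, f0⟩
    · exact ⟨hrm, hrx, f1⟩
    · exact ⟨hd, hdx, ed⟩
  have hconj : ∀ w ∈ ([0, 0, 0] : List Nat) :: Mdl.wordT :: Mdl.wordX :: Mdl.loopL :: Mdl.loopR ::
      Mdl.flt1 ++ Mdl.flt2, n2 * F.ev (Mdl.evalW Mdl.dGens w) * n2⁻¹ = F.ev (Mdl.evalW [Mdl.b0, r, d] w) ∧
        Mdl.mem (Mdl.evalW [Mdl.b0, r, d] w) = true := fun w hw =>
    ⟨F.conj_evalW fun i hi => ⟨(hact i (hw3 w hw i hi)).1, (hact i (hw3 w hw i hi)).2.2⟩,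
      mem_evalW (fun i hi => (hact i hi).1) (hw3 w hw)⟩
  have hok : Mdl.tripleOk [Mdl.b0, r, d] = true := by
    simp only [Mdl.tripleOk, Bool.and_eq_true, Nat.beq_eq]
    refine ⟨⟨⟨F.sameOn_of_conj (n := n2) fun w hw i hi => ?_, ?_⟩, ?_⟩, ?_⟩
    · have h := hact i (hw3 w (by simp [hw]) i hi)
      exact ⟨h.1, h.2.2⟩
    · obtain ⟨h, hm⟩ := hconj Mdl.wordT (by simp)
      rw [Mdl.dGens_ok.2.2.1, F.ev_t, hn2.1] at h
      exact (F.inj _ _ Mdl.mem_swX hm h).symm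
    · obtain ⟨h, hm⟩ := hconj Mdl.wordX (by simp)
      rw [Mdl.dGens_ok.2.2.2.1, hn2.2] at h
      exact (F.inj _ _ Mdl.mem_tN hm (F.ev_t.trans h)).symm
    · obtain ⟨h, hm⟩ := hconj Mdl.loopL (by simp)
      obtain ⟨h', hm'⟩ := hconj Mdl.loopR (by simp)
      rw [Mdl.dGens_ok.2.2.2.2, h'] at h
      exact (F.inj _ _ hm' hm h).symm
  have h3 := List.all_eq_true.1 (List.all_eq_true.1 Mdl.triples r hr) d (Mdl.mem_dList.2 ⟨hd, hdx⟩)
  rw [hok, Bool.not_true, Bool.false_or, List.any_eq_true] at h3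
  obtain ⟨b, hb, hbe⟩ := h3
  exact ⟨n2, b, hn2, hb, by rw [eq_of_beq hbe]; exact hact⟩

theorem square_fix {m : G} {k : Nat} (hk : k < 4) (hm : F.Swaps m)
    (hmA : ∀ i < 3, m * F.ev (Mdl.dGens.getD i Mdl.one) * m⁻¹ = F.ev ((Mdl.actTable.getD k []).getD i Mdl.one))
    {i : Nat} (hi : i < 3) :
    m * m * F.ev (Mdl.dGens.getD i Mdl.one) = F.ev (Mdl.dGens.getD i Mdl.one) * (m * m) := by
  have h := List.all_eq_true.1 (List.all_eq_true.1 Mdl.act_words k (List.mem_range.2 hk)) i (List.mem_range.2 hi)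
  simp only [Bool.and_eq_true, List.all_eq_true, Nat.blt_eq, Nat.beq_eq] at h
  obtain ⟨⟨hw, h1⟩, h2⟩ := h
  have hr : Mdl.actTable.getD k [] ∈ Mdl.actTable := by
    have hl : k < Mdl.actTable.length := Nat.lt_of_lt_of_eq hk (by decide +kernel)
    rw [List.getD_eq_getElem _ _ hl]
    exact List.getElem_mem hl
  have hmem : ∀ j < 3, Mdl.mem ((Mdl.actTable.getD k []).getD j Mdl.one) = true := fun j hj => by
    have h := List.all_eq_true.1 (List.all_eq_true.1 Mdl.act_mem _ hr) j (List.mem_range.2 hj)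
    rw [Bool.and_eq_true] at h
    exact h.1
  have hc := F.conj_evalW (n := m) (b := Mdl.actTable.getD k [])
    (w := (Mdl.actWords.getD k []).getD i []) fun j hj => ⟨hmem j (hw j hj), hmA j (hw j hj)⟩
  rw [h1, h2, ← hmA i hi] at hc
  calc m * m * F.ev (Mdl.dGens.getD i Mdl.one)
      = m * (m * F.ev (Mdl.dGens.getD i Mdl.one) * m⁻¹) * m⁻¹ * (m * m) := by group
    _ = _ := by rw [hc]

include hs hst in
/-- The four possible actions. -/
theorem exists_act : ∃ k < 4, ∃ n : G, n * n = 1 ∧ F.Swaps n ∧ ∀ i < 3,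
    n * F.ev (Mdl.dGens.getD i Mdl.one) * n = F.ev ((Mdl.actTable.getD k []).getD i Mdl.one) := by
  obtain ⟨n, b, hn, hb, hact⟩ := F.exists_normal hs hst
  have hsq : ∀ m : G, F.Swaps m → ∃ z, z ∈ Mdl.dList ∧ m * m = F.ev z := by
    intro m hm
    have e1 : m * m * t * (m * m)⁻¹ = t := by
      calc m * m * t * (m * m)⁻¹ = m * (m * t * m⁻¹) * m⁻¹ := by group
        _ = t := by rw [hm.1, hm.2]
    have e2 : m * m * F.ev Mdl.swX * (m * m)⁻¹ = F.ev Mdl.swX := by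
      calc m * m * F.ev Mdl.swX * (m * m)⁻¹ = m * (m * F.ev Mdl.swX * m⁻¹) * m⁻¹ := by group
        _ = F.ev Mdl.swX := by rw [hm.2, hm.1]
    obtain ⟨z, hz, e⟩ := F.exists_code (mul_inv_eq_iff_eq_mul.1 e1)
    exact ⟨z, Mdl.mem_dList.2 ⟨hz, (F.commN_iff hz Mdl.mem_swX).2
      (by rw [e]; exact mul_inv_eq_iff_eq_mul.1 e2)⟩, e.symm⟩
  have h := List.all_eq_true.1 Mdl.codes_ok.2 b hb
  rw [Bool.and_eq_true] at h
  obtain ⟨-, h⟩ := h
  obtain ⟨b, o⟩ := b
  cases o with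
  | none =>
    exfalso
    simp only [List.any_eq_true, Bool.and_eq_true] at h
    obtain ⟨p, hp, ⟨⟨hp1, -⟩, hp3⟩, hp4⟩ := h
    obtain ⟨z, hzD, hz⟩ := hsq n hn
    obtain ⟨hzm, -⟩ := Mdl.mem_dList.1 hzD
    have hnz := List.all_eq_true.1 (List.all_eq_true.1 Mdl.no_square p hp) z hzD
    rw [Bool.not_eq_true'] at hnz
    refine Bool.noConfusion (hnz.symm.trans (List.all_eq_true.2 fun i hi => ?_))
    rw [List.mem_range] at hi
    rw [eq_of_beq hp1]
    have hwi : ∀ j ∈ p.2.getD i [], j < 3 := by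
      intro j hj
      by_cases hil : i < p.2.length
      · rw [List.getD_eq_getElem _ _ hil] at hj
        exact Nat.blt_eq.mp (List.all_eq_true.1 (List.all_eq_true.1 hp3 _ (List.getElem_mem hil)) j hj)
      · rw [List.getD_eq_default _ _ (Nat.not_lt.1 hil)] at hj
        exact absurd hj List.not_mem_nil
    have hwv := Nat.eq_of_beq_eq_true (List.all_eq_true.1 hp4 i (List.mem_range.2 hi))
    have hc := F.conj_evalW (n := n) (b := b) fun j hj => ⟨(hact j (hwi j hj)).1, (hact j (hwi j hj)).2.2⟩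
    rw [hwv, ← (hact i hi).2.2] at hc
    have hm : Mdl.mem (Mdl.evalW b (p.2.getD i [])) = true :=
      mem_evalW (fun j hj => (hact j hj).1) hwi
    have hfin : F.ev z * F.ev (Mdl.dGens.getD i Mdl.one) =
        F.ev (Mdl.evalW b (p.2.getD i [])) * F.ev z := by
      rw [← hz, ← hc]; group
    rw [← F.map_mul _ _ hzm (gens_facts i).1, ← F.map_mul _ _ hm hzm] at hfin
    exact Mdl.beq_of_eq (F.inj _ _ (Mdl.mem_mulN hzm (gens_facts i).1) (Mdl.mem_mulN hm hzm) hfin)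
  | some ek =>
    obtain ⟨e, k⟩ := ek
    simp only [Bool.and_eq_true, Nat.blt_eq, List.all_eq_true, List.mem_range, Nat.beq_eq] at h
    obtain ⟨⟨⟨hem, hex⟩, hk⟩, hek⟩ := h
    have hm := F.swaps_mul hn hem hex
    have hmA : ∀ i < 3, F.ev e * n * F.ev (Mdl.dGens.getD i Mdl.one) * (F.ev e * n)⁻¹ =
        F.ev ((Mdl.actTable.getD k []).getD i Mdl.one) := fun i hi =>
      F.conj_mulN hem (hact i hi).1 (hek i hi).1 (hact i hi).2.2 (hek i hi).2
    set m := F.ev e * n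
    refine ⟨k, hk, ?_⟩
    have inv_of : ∀ g : G, g * g = 1 → g⁻¹ = g := fun g hg => inv_eq_of_mul_eq_one_right hg
    -- the square is central in the centraliser
    obtain ⟨z, hzD, hz⟩ := hsq m hm
    obtain ⟨hzm, -⟩ := Mdl.mem_dList.1 hzD
    -- the action of the square
    have hfix : ∀ i < 3, m * m * F.ev (Mdl.dGens.getD i Mdl.one) = F.ev (Mdl.dGens.getD i Mdl.one) * (m * m) :=
      fun i hi => F.square_fix hk hm hmA hi
    have hr : Mdl.actTable.getD k [] ∈ Mdl.actTable := by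
      have hl : k < Mdl.actTable.length := Nat.lt_of_lt_of_eq hk (by decide +kernel)
      rw [List.getD_eq_getElem _ _ hl]
      exact List.getElem_mem hl
    have hzc : z ∈ [Mdl.one, Mdl.tN, Mdl.swX, Mdl.mulN Mdl.swX Mdl.tN] := by
      have h := List.all_eq_true.1 (List.all_eq_true.1 Mdl.squares _ hr) z hzD
      rw [Bool.or_eq_true, Bool.not_eq_true', List.contains_iff_mem] at h
      refine h.resolve_left fun hh => Bool.noConfusion (hh.symm.trans (List.all_eq_true.2 fun i hi => ?_))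
      have e := hfix i (List.mem_range.1 hi)
      rw [hz, ← F.map_mul _ _ hzm (gens_facts i).1, ← F.map_mul _ _ (gens_facts i).1 hzm] at e
      exact Mdl.beq_of_eq (F.inj _ _ (Mdl.mem_mulN hzm (gens_facts i).1)
        (Mdl.mem_mulN (gens_facts i).1 hzm) e)
    have ht_ne : t ≠ F.ev Mdl.swX := fun e =>
      Mdl.tau0_ok.2.2.2.2.2.2 (F.inj _ _ Mdl.mem_swX Mdl.mem_tN (by rw [← e, F.ev_t]))
    have hself : m * (m * m) * m⁻¹ = m * m := by group
    rcases eq_or_ne z Mdl.one with hz1 | hz1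
    · have h1 : m * m = 1 := by rw [hz, hz1, F.ev_one]
      refine ⟨m, h1, hm, fun i hi => ?_⟩
      have h := hmA i hi
      rwa [inv_of m h1] at h
    · have hzc' : m * m = F.ev Mdl.swX * t := by
        simp only [List.mem_cons, List.not_mem_nil, or_false] at hzc
        rcases hzc with e | e | e | e
        · exact absurd e hz1
        · exfalso
          rw [hz, e, F.ev_t, hm.1] at hself
          exact ht_ne hself.symm
        · exfalso
          rw [hz, e, hm.2] at hself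
          exact ht_ne hself
        · rw [hz, e, F.map_mul _ _ Mdl.mem_swX Mdl.mem_tN, F.ev_t]
      have hx2 : F.ev Mdl.swX * F.ev Mdl.swX = 1 := by
        rw [← F.map_mul _ _ Mdl.mem_swX Mdl.mem_swX, Mdl.tau0_ok.2.2.2.2.2.1, F.ev_one]
      have hmt : m * t = F.ev Mdl.swX * m := mul_inv_eq_iff_eq_mul.1 hm.1
      have h1 : m * t * (m * t) = 1 := by
        calc m * t * (m * t) = F.ev Mdl.swX * (m * m) * t := by
              nth_rewrite 1 [hmt]; group
          _ = 1 := by rw [hzc', ← mul_assoc, hx2, one_mul, F.t_mul_t]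
      refine ⟨m * t, h1, ⟨?_, ?_⟩, fun i hi => ?_⟩
      · rw [← hm.1]; group
      · calc m * t * F.ev Mdl.swX * (m * t)⁻¹ = m * (t * F.ev Mdl.swX * t⁻¹) * m⁻¹ := by group
          _ = t := by rw [← F.mem_cent Mdl.mem_swX, mul_inv_cancel_right, hm.2]
      · calc m * t * F.ev (Mdl.dGens.getD i Mdl.one) * (m * t)
            = m * t * F.ev (Mdl.dGens.getD i Mdl.one) * (m * t)⁻¹ := by rw [inv_of _ h1]
          _ = m * (t * F.ev (Mdl.dGens.getD i Mdl.one) * t⁻¹) * m⁻¹ := by group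
          _ = _ := by rw [← F.mem_cent (gens_facts i).1, mul_inv_cancel_right, hmA i hi]

end Frame

end CfsgLib.HeldUniq
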