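import Cfsg.Agent.HeldUniq.FusionElem
import Mathlib.GroupTheory.Sylow

/-!
The Sylow 2-subgroup is self-normalising, and the elementary subgroups of order 64 are weakly closed
in it: their normalisers control their fusion.
-/

set_option autoImplicit false
set_option linter.unusedSectionVars false
set_option maxRecDepth 10000

namespace CfsgLib.HeldUniq

open scoped Pointwise

namespace Frame

variable {G : Type*} [Group G] {t : G} (F : Frame t) [Finite G]

theorem syl_center {c : G} (hc : c ∈ F.syl) (h : ∀ s ∈ F.syl, c * s = s * c) : c = 1 ∨ c = t := by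
  obtain ⟨a, ha, rfl⟩ := hc
  have hm := mem_of_pair Mdl.u_ok ha
  have hlt := Mdl.subOk_lt Mdl.u_ok
  have h' := List.all_eq_true.1 Mdl.uCenter_chk a ((Mdl.mem_codesOf hlt a).2 ha)
  simp only [Bool.or_eq_true, Nat.beq_eq, List.any_eq_true, Bool.not_eq_true'] at h'
  rcases h' with (h' | h') | ⟨b, hb, hab⟩
  · exact Or.inl ((F.eq_one_iff hm).2 h')
  · exact Or.inr ((F.eq_t_iff hm).2 h')
  · have hb' := (Mdl.mem_codesOf hlt b).1 hb
    rw [(F.commN_iff hm (mem_of_pair Mdl.u_ok hb')).2 (h _ ⟨b, hb', rfl⟩)] at hab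
    exact Bool.noConfusion hab

theorem t_mem_syl : t ∈ F.syl := F.w0_data.le_syl F.w0_data.t_mem

theorem mem_syl_of_normalizes_cent {n : G} (hn : n ∈ Subgroup.normalizer (F.syl : Set G))
    (hc : n * t = t * n) : n ∈ F.syl := by
  obtain ⟨a, ha, rfl⟩ := F.exists_code hc
  refine (F.ev_mem_over ha).2 ?_
  have h := List.all_eq_true.1 Mdl.uNorm_chk _ ((Mdl.mem_iff_pair a).1 ha)
  simp only [Bool.or_eq_true, List.contains_iff_mem, List.any_eq_true, List.all_eq_true,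
    Bool.not_eq_true'] at h
  refine h.resolve_right ?_
  rintro ⟨u, hu, hne⟩
  obtain ⟨-, g1, g2⟩ := Mdl.atPair_fields (x := u) (Mdl.subOk_lt Mdl.u_ok u hu) (q := 0) (by decide)
  have hu' : (Mdl.gOf (Mdl.atPair u 0), Mdl.hOf (Mdl.atPair u 0)) ∈ Mdl.uPairs := by rw [g1, g2]; exact hu
  have hum := mem_of_pair Mdl.u_ok hu'
  obtain ⟨b, hb, eb⟩ := (Subgroup.mem_normalizer_iff.1 hn (F.ev (Mdl.atPair u 0))).1 ⟨_, hu', rfl⟩
  have hbm := mem_of_pair Mdl.u_ok hb
  have e1 : F.ev a * F.ev (Mdl.atPair u 0) = F.ev b * F.ev a := by rw [eb, inv_mul_cancel_right]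
  rw [← F.map_mul _ _ ha hum, ← F.map_mul _ _ hbm ha] at e1
  have e2 := congrArg Mdl.gOf (F.inj _ _ (Mdl.mem_mulN ha hum) (Mdl.mem_mulN hbm ha) e1)
  rw [(Mdl.mulN_fields _ _).2.2.1, (Mdl.mulN_fields _ _).2.2.1, g1] at e2
  have h3 := hne _ hb
  rw [Mdl.beq_of_eq e2] at h3
  exact Bool.noConfusion h3

theorem normalizer_syl {n : G} (hn : n ∈ Subgroup.normalizer (F.syl : Set G)) : n ∈ F.syl := by
  have h1 : n * t * n⁻¹ ∈ F.syl := (Subgroup.mem_normalizer_iff.1 hn t).1 F.t_mem_syl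
  have h2 : ∀ s ∈ F.syl, n * t * n⁻¹ * s = s * (n * t * n⁻¹) := by
    intro s hs
    obtain ⟨a, ha, e⟩ := (Subgroup.mem_normalizer_iff''.1 hn s).1 hs
    have e' := F.mem_cent (mem_of_pair Mdl.u_ok ha)
    rw [e] at e'
    calc n * t * n⁻¹ * s = n * (t * (n⁻¹ * s * n)) * n⁻¹ := by group
      _ = n * (n⁻¹ * s * n * t) * n⁻¹ := by rw [e']
      _ = s * (n * t * n⁻¹) := by group
  rcases F.syl_center h1 h2 with h | h
  · exact absurd (conj_eq_one_iff.1 h) F.t_ne_one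
  · exact F.mem_syl_of_normalizes_cent hn (mul_inv_eq_iff_eq_mul.1 h)

theorem syl_le_normalizer {H : Subgroup G} {P E : List (Nat × Nat)} {W : List Nat}
    (d : F.ElemData H P E W) (hu : ∀ x ∈ Mdl.uPairs, x ∈ P) :
    F.syl ≤ Subgroup.normalizer (H : Set G) := by
  rintro g ⟨a, ha, rfl⟩
  exact d.over_le ⟨a, hu _ ha, rfl⟩

theorem u_sub0 : ∀ x ∈ Mdl.uPairs, x ∈ Mdl.p0Pairs := fun x hx => by
  have h := List.all_eq_true.1 Mdl.u_sub x hx
  simp only [Bool.and_eq_true, List.contains_iff_mem] at h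
  exact h.1

theorem u_sub3 : ∀ x ∈ Mdl.uPairs, x ∈ Mdl.p3Pairs := fun x hx => by
  have h := List.all_eq_true.1 Mdl.u_sub x hx
  simp only [Bool.and_eq_true, List.contains_iff_mem] at h
  exact h.2

variable (hG : Nat.card G = 4030387200)

/-- The Sylow 2-subgroup of the whole group. -/
def sylow (hG : Nat.card G = 4030387200) : Sylow 2 G :=
  haveI : Fact (Nat.Prime 2) := ⟨Nat.prime_two⟩
  (IsPGroup.of_card (n := 10) (p := 2) (by rw [F.card_syl]; rfl)).toSylow (by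
    have h := F.syl.card_mul_index
    rw [F.card_syl, hG] at h
    omega)

theorem coe_sylow : (F.sylow hG : Subgroup G) = F.syl := rfl

include F hG in
theorem exists_conj_le {P : Subgroup G} (hP : IsPGroup 2 P) :
    ∃ h : G, ∀ p ∈ P, h * p * h⁻¹ ∈ F.syl := by
  haveI : Fact (Nat.Prime 2) := ⟨Nat.prime_two⟩
  obtain ⟨Q, hQ⟩ := hP.exists_le_sylow
  obtain ⟨h, e⟩ := MulAction.exists_smul_eq G Q (F.sylow hG)
  refine ⟨h, fun p hp => ?_⟩
  rw [← F.coe_sylow hG, ← e, Sylow.coe_subgroup_smul]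
  exact Subgroup.smul_mem_pointwise_smul p (MulAut.conj h) _ (hQ hp)

include F hG in
theorem exists_conj_in {N : Subgroup G} (hS : F.syl ≤ N) {P : Subgroup G} (hP : P ≤ N)
    (hcard : Nat.card P = 1024) : ∃ m ∈ N, ∀ p ∈ P, m * p * m⁻¹ ∈ F.syl := by
  haveI : Fact (Nat.Prime 2) := ⟨Nat.prime_two⟩
  have hdvd : ¬ 2 ∣ P.index := by
    have h := P.card_mul_index
    rw [hcard, hG] at h
    omega
  set Q : Sylow 2 G := (IsPGroup.of_card (n := 10) (p := 2) (by rw [hcard]; rfl)).toSylow hdvd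
  have hQ : (Q : Subgroup G) ≤ N := hP
  obtain ⟨m, e⟩ := MulAction.exists_smul_eq N (Q.subtype hQ)
    ((F.sylow hG).subtype (show (F.sylow hG : Subgroup G) ≤ N from hS))
  rw [Sylow.smul_subtype hQ m] at e
  have e' := Sylow.subtype_injective e
  refine ⟨m, m.2, fun p hp => ?_⟩
  rw [← F.coe_sylow hG, ← e']
  exact Subgroup.smul_mem_pointwise_smul p (MulAut.conj (m : G)) _ hp

theorem map_conj_eq {H K : Subgroup G} {h : G} (hc : Nat.card K = Nat.card H)
    (hm : ∀ x ∈ H, h * x * h⁻¹ ∈ K) : ∀ y ∈ K, ∃ x ∈ H, h * x * h⁻¹ = y := by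
  have e : H.map (MulAut.conj h).toMonoidHom = K := by
    refine Subgroup.eq_of_le_of_card_ge ?_ (le_of_eq ?_)
    · rintro _ ⟨x, hx, rfl⟩
      exact hm x hx
    · rw [hc]; exact (Subgroup.card_map_of_injective (MulEquiv.injective _)).symm
  intro y hy
  rw [← e] at hy
  exact hy

include hG in
theorem not_conj (h : G) : ¬ ∀ x ∈ F.w0, h * x * h⁻¹ ∈ F.w3 := by
  intro hm
  have hsurj := map_conj_eq (F.w3_data.card.trans F.w0_data.card.symm) hm
  have hS0 := F.syl_le_normalizer F.w0_data u_sub0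
  have hS3 := F.syl_le_normalizer F.w3_data u_sub3
  have hconj : F.syl.map (MulAut.conj h).toMonoidHom ≤ Subgroup.normalizer (F.w3 : Set G) := by
    rintro _ ⟨s, hs, rfl⟩
    refine conj_mem_iff_of_le fun y hy => ?_
    obtain ⟨x, hx, rfl⟩ := hsurj y hy
    show h * s * h⁻¹ * (h * x * h⁻¹) * (h * s * h⁻¹)⁻¹ ∈ F.w3
    rw [show h * s * h⁻¹ * (h * x * h⁻¹) * (h * s * h⁻¹)⁻¹ = h * (s * x * s⁻¹) * h⁻¹ by group]
    exact hm _ ((Subgroup.mem_normalizer_iff.1 (hS0 hs) x).1 hx)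
  obtain ⟨m, hmN, hmS⟩ := F.exists_conj_in hG hS3 hconj
    ((Subgroup.card_map_of_injective (MulEquiv.injective _)).trans F.card_syl)
  have hk : m * h ∈ F.syl := by
    refine F.normalizer_syl (conj_mem_iff_of_le fun s hs => ?_)
    rw [show m * h * s * (m * h)⁻¹ = m * (h * s * h⁻¹) * m⁻¹ by group]
    exact hmS _ ⟨s, hs, rfl⟩
  have h1 := Subgroup.mem_normalizer_iff.1 (hS0 hk)
  have h2 := Subgroup.mem_normalizer_iff.1 hmN
  obtain ⟨a, ha, hane⟩ := List.any_eq_true.1 Mdl.w_ne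
  have ham := F.w0_data.mem_code ha
  have hx := (h1 (F.ev a)).1 ((F.w0_data.ev_mem ham).2 ha)
  obtain ⟨x, hx0, ex⟩ : ∃ x ∈ F.w0, m * h * x * (m * h)⁻¹ = F.ev a := by
    refine ⟨(m * h)⁻¹ * F.ev a * (m * h), ?_, by group⟩
    rw [h1]
    rw [show m * h * ((m * h)⁻¹ * F.ev a * (m * h)) * (m * h)⁻¹ = F.ev a by group]
    exact (F.w0_data.ev_mem ham).2 ha
  have h3 : F.ev a ∈ F.w3 := by
    rw [← ex, show m * h * x * (m * h)⁻¹ = m * (h * x * h⁻¹) * m⁻¹ by group]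
    exact (h2 _).1 (hm x hx0)
  rw [F.w3_data.ev_mem ham] at h3
  simp only [Bool.not_eq_true', List.contains_eq_mem, decide_eq_false_iff_not] at hane
  exact hane h3

include hG in
theorem weakly {H : Subgroup G} (hH : H = F.w0 ∨ H = F.w3) {h : G}
    (hh : ∀ x ∈ H, h * x * h⁻¹ ∈ F.syl) : h ∈ Subgroup.normalizer (H : Set G) := by
  have hle : H.map (MulAut.conj h).toMonoidHom ≤ F.syl := by
    rintro _ ⟨x, hx, rfl⟩
    exact hh x hx
  have hsq : ∀ a ∈ H.map (MulAut.conj h).toMonoidHom, a * a = 1 := by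
    rintro _ ⟨x, hx, rfl⟩
    have e : x * x = 1 := by
      rcases hH with rfl | rfl
      exacts [F.w0_data.sq x hx, F.w3_data.sq x hx]
    rw [← _root_.map_mul, e, _root_.map_one]
  have hcard : Nat.card (H.map (MulAut.conj h).toMonoidHom) = 64 := by
    rw [Subgroup.card_map_of_injective (MulEquiv.injective _)]
    rcases hH with rfl | rfl
    exacts [F.w0_data.card, F.w3_data.card]
  have hin : ∀ x ∈ H, h * x * h⁻¹ ∈ H.map (MulAut.conj h).toMonoidHom := fun x hx => ⟨x, hx, rfl⟩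
  rcases hH with rfl | rfl <;> rcases F.elem_eq hle hsq hcard with e | e <;> rw [e] at hin
  · exact conj_mem_iff_of_le hin
  · exact absurd hin (F.not_conj hG h)
  · refine absurd (fun y hy => ?_) (F.not_conj hG h⁻¹)
    obtain ⟨x, hx, rfl⟩ := map_conj_eq (F.w0_data.card.trans F.w3_data.card.symm) hin y hy
    rw [show h⁻¹ * (h * x * h⁻¹) * h⁻¹⁻¹ = x by group]
    exact hx
  · exact conj_mem_iff_of_le hin

include hG in
/-- The normaliser of an elementary subgroup of order 64 controls fusion in it. -/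
theorem control {H : Subgroup G} (hH : H = F.w0 ∨ H = F.w3) {u u' g : G} (hu : u ∈ H) (hu' : u' ∈ H)
    (hg : g * u * g⁻¹ = u') : ∃ n ∈ Subgroup.normalizer (H : Set G), n * u * n⁻¹ = u' := by
  haveI : Fact (Nat.Prime 2) := ⟨Nat.prime_two⟩
  have hsq : ∀ a ∈ H, a * a = 1 := by
    rcases hH with rfl | rfl
    exacts [F.w0_data.sq, F.w3_data.sq]
  set N := Subgroup.centralizer ({u'} : Set G) with hN
  have h1 : H ≤ N := fun x hx => Subgroup.mem_centralizer_singleton_iff.2 (comm_of_sq hsq hx hu')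
  have h2 : H.map (MulAut.conj g).toMonoidHom ≤ N := by
    rintro _ ⟨x, hx, rfl⟩
    refine Subgroup.mem_centralizer_singleton_iff.2 ?_
    rw [← hg]
    show g * x * g⁻¹ * (g * u * g⁻¹) = g * u * g⁻¹ * (g * x * g⁻¹)
    calc g * x * g⁻¹ * (g * u * g⁻¹) = g * (x * u) * g⁻¹ := by group
      _ = g * (u * x) * g⁻¹ := by rw [comm_of_sq hsq hx hu]
      _ = _ := by group
  have hp : IsPGroup 2 H := by
    refine IsPGroup.of_card (n := 6) ?_
    rcases hH with rfl | rfl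
    exacts [F.w0_data.card, F.w3_data.card]
  obtain ⟨T1, hT1⟩ := (hp.of_equiv (Subgroup.subgroupOfEquivOfLe h1).symm).exists_le_sylow
  obtain ⟨T2, hT2⟩ := ((hp.map (MulAut.conj g).toMonoidHom).of_equiv
    (Subgroup.subgroupOfEquivOfLe h2).symm).exists_le_sylow
  obtain ⟨c, hc⟩ := MulAction.exists_smul_eq N T2 T1
  obtain ⟨h, hh⟩ := F.exists_conj_le hG (T1.isPGroup'.map N.subtype)
  have hA : h ∈ Subgroup.normalizer (H : Set G) :=
    F.weakly hG hH fun x hx => hh x ⟨⟨x, h1 hx⟩, hT1 (show (⟨x, h1 hx⟩ : N) ∈ H.subgroupOf N from hx), rfl⟩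
  have hB : h * ((c : G) * g) ∈ Subgroup.normalizer (H : Set G) := by
    refine F.weakly hG hH fun x hx => ?_
    have hx2 : g * x * g⁻¹ ∈ N := h2 ⟨x, hx, rfl⟩
    have hm : c * (⟨g * x * g⁻¹, hx2⟩ : N) * c⁻¹ ∈ (T1 : Subgroup N) := by
      rw [← hc, Sylow.coe_subgroup_smul]
      exact Subgroup.smul_mem_pointwise_smul (⟨g * x * g⁻¹, hx2⟩ : N) (MulAut.conj c) _
        (hT2 (show (⟨g * x * g⁻¹, hx2⟩ : N) ∈ (H.map _).subgroupOf N from ⟨x, hx, rfl⟩))
    rw [show h * ((c : G) * g) * x * (h * ((c : G) * g))⁻¹ =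
      h * ((c : G) * (g * x * g⁻¹) * (c : G)⁻¹) * h⁻¹ by group]
    exact hh _ ⟨_, hm, rfl⟩
  refine ⟨(c : G) * g, ?_, ?_⟩
  · have := mul_mem (inv_mem hA) hB
    rwa [inv_mul_cancel_left] at this
  · have hcu := Subgroup.mem_centralizer_singleton_iff.1 c.2
    calc (c : G) * g * u * ((c : G) * g)⁻¹ = (c : G) * (g * u * g⁻¹) * (c : G)⁻¹ := by group
      _ = u' := by rw [hg, hcu, mul_inv_cancel_right]

end Frame

end CfsgLib.HeldUniq
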