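import Cfsg.Agent.HeldUniq.ActClass
import Cfsg.Agent.HeldUniq.ActWData
import Cfsg.Agent.HeldUniq.FusionWeak

/-!
Two of the four actions are impossible: with an element of the normaliser they would induce an
automorphism of order eight on the elementary subgroup of order 64, whose normaliser modulo it has
Sylow 2-subgroups of exponent four.
-/

set_option autoImplicit false
set_option linter.unusedSectionVars false
set_option maxRecDepth 100000

namespace CfsgLib.HeldUniq

namespace Mdl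

theorem w0_words : ((List.range 64).all fun j =>
    ((w0Words.getD j []).all fun i => Nat.blt i 3) &&
      Nat.beq (evalW dGens (w0Words.getD j [])) (w0List.getD j one)) = true := by decide +kernel

theorem w0_images : ((List.range 4).all fun k => (List.range 64).all fun j =>
    Nat.beq (evalW (actTable.getD k []) (w0Words.getD j [])) ((w0Images.getD k []).getD j one) &&
      w0List.contains ((w0Images.getD k []).getD j one)) = true := by decide +kernel

/-- The image of a member under the composite of an action and a conjugation. -/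
def stepW (c k a : Nat) : Nat := conjN c ((w0Images.getD k []).getD (w0List.idxOf a) one)

/-- The composite has order eight. -/
def orderEight (c k : Nat) : Bool :=
  mem c && (w0List.all fun a => w0List.contains (stepW c k a) &&
      Nat.beq (mulN c ((w0Images.getD k []).getD (w0List.idxOf a) one)) (mulN (stepW c k a) c) &&
      Nat.beq ((stepW c k)^[8] a) a) &&
    w0List.any fun a => !Nat.beq ((stepW c k)^[4] a) a

theorem order_eight : orderEight 17466656 0 = true ∧ orderEight 17466624 2 = true := by decide +kernel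

theorem u_fourth : ((codesOf uPairs).all fun s => w0List.all fun a =>
    commN (mulN (mulN s s) (mulN s s)) a) = true := by decide +kernel

end Mdl

namespace Frame

variable {G : Type*} [Group G] {t : G} (F : Frame t)

theorem act_w0 [Finite G] {n : G} {k : Nat} (hk : k < 4) (hn : n * n = 1)
    (h : ∀ i < 3, n * F.ev (Mdl.dGens.getD i Mdl.one) * n = F.ev ((Mdl.actTable.getD k []).getD i Mdl.one))
    {j : Nat} (hj : j < 64) :
    n * F.ev (Mdl.w0List.getD j Mdl.one) * n⁻¹ = F.ev ((Mdl.w0Images.getD k []).getD j Mdl.one) ∧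
      (Mdl.w0Images.getD k []).getD j Mdl.one ∈ Mdl.w0List := by
  have hw := List.all_eq_true.1 Mdl.w0_words j (List.mem_range.2 hj)
  have hi := List.all_eq_true.1 (List.all_eq_true.1 Mdl.w0_images k (List.mem_range.2 hk)) j
    (List.mem_range.2 hj)
  simp only [Bool.and_eq_true, List.all_eq_true, Nat.blt_eq, Nat.beq_eq, List.contains_iff_mem] at hw hi
  have hr : Mdl.actTable.getD k [] ∈ Mdl.actTable := by
    have hl : k < Mdl.actTable.length := Nat.lt_of_lt_of_eq hk (by decide +kernel)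
    rw [List.getD_eq_getElem _ _ hl]
    exact List.getElem_mem hl
  refine ⟨?_, hi.2⟩
  rw [← hw.2, ← hi.1]
  refine F.conj_evalW fun i h' => ⟨?_, ?_⟩
  · have e := List.all_eq_true.1 (List.all_eq_true.1 Mdl.act_mem _ hr) i (List.mem_range.2 (hw.1 i h'))
    rw [Bool.and_eq_true] at e
    exact e.1
  · rw [inv_eq_of_mul_eq_one_right hn]; exact h i (hw.1 i h')

theorem conj_stepW [Finite G] {c : Nat} {k : Nat} (hk : k < 4) {n : G} (hn : n * n = 1)
    (h : ∀ i < 3, n * F.ev (Mdl.dGens.getD i Mdl.one) * n = F.ev ((Mdl.actTable.getD k []).getD i Mdl.one))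
    (hc : Mdl.mem c = true) {a : Nat} (ha : a ∈ Mdl.w0List)
    (hs : Mdl.stepW c k a ∈ Mdl.w0List)
    (he : Mdl.mulN c ((Mdl.w0Images.getD k []).getD (Mdl.w0List.idxOf a) Mdl.one) =
      Mdl.mulN (Mdl.stepW c k a) c) :
    F.ev c * n * F.ev a * (F.ev c * n)⁻¹ = F.ev (Mdl.stepW c k a) := by
  have hlt : Mdl.w0List.idxOf a < Mdl.w0List.length := List.idxOf_lt_length_iff.2 ha
  have hlen : Mdl.w0List.length = 64 := (Mdl.elem_facts Mdl.w0_elem).1
  obtain ⟨e1, e2⟩ := F.act_w0 hk hn h (j := Mdl.w0List.idxOf a) (by omega)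
  rw [List.getD_eq_getElem _ _ hlt, List.getElem_idxOf] at e1
  exact F.conj_mulN hc (F.w0_data.mem_code e2) (F.w0_data.mem_code hs) e1 he

theorem false_of_eight [Finite G] (hG : Nat.card G = 4030387200) {c k : Nat} (hk : k < 4) {n : G}
    (hn : n * n = 1)
    (h : ∀ i < 3, n * F.ev (Mdl.dGens.getD i Mdl.one) * n = F.ev ((Mdl.actTable.getD k []).getD i Mdl.one))
    (h8 : Mdl.orderEight c k = true) : False := by
  haveI : Fact (Nat.Prime 2) := ⟨Nat.prime_two⟩
  simp only [Mdl.orderEight, Bool.and_eq_true, List.all_eq_true, List.any_eq_true, List.contains_iff_mem,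
    Nat.beq_eq, Bool.not_eq_true'] at h8
  obtain ⟨⟨hc, hall⟩, a, ha, hne⟩ := h8
  set m := F.ev c * n with hm
  have hpow : ∀ (j : ℕ) (b : ℕ), b ∈ Mdl.w0List →
      (Mdl.stepW c k)^[j] b ∈ Mdl.w0List ∧
        m ^ j * F.ev b * (m ^ j)⁻¹ = F.ev ((Mdl.stepW c k)^[j] b) := by
    intro j
    induction j with
    | zero => intro b hb; simp [hb]
    | succ j ih =>
      intro b hb
      obtain ⟨i1, i2⟩ := ih b hb
      rw [Function.iterate_succ_apply']
      refine ⟨(hall _ i1).1.1, ?_⟩
      rw [← F.conj_stepW hk hn h hc i1 (hall _ i1).1.1 (hall _ i1).1.2, ← i2, pow_succ', ← hm]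
      simp only [mul_inv_rev, mul_assoc]
  have hN : m ∈ Subgroup.normalizer (F.w0 : Set G) := by
    refine conj_mem_iff_of_le fun w hw => ?_
    obtain ⟨b, hb, rfl⟩ := (F.w0_data.mem_iff _).1 hw
    have e := hpow 1 b hb
    rw [pow_one, Function.iterate_one] at e
    rw [e.2]
    exact (F.w0_data.mem_iff _).2 ⟨_, e.1, rfl⟩
  -- split off the 2-part of `m`
  have hord := orderOf_pos m
  obtain ⟨e, b, hb, hab⟩ := Nat.exists_eq_two_pow_mul_odd hord.ne'
  set p := m ^ b with hp
  have hp2 : p ^ 2 ^ e = 1 := by rw [hp, ← pow_mul, mul_comm, ← hab, pow_orderOf_eq_one]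
  have hpN : p ∈ Subgroup.normalizer (F.w0 : Set G) := Subgroup.pow_mem _ hN b
  set N := Subgroup.normalizer (F.w0 : Set G) with hNdef
  have hS : F.syl ≤ N := F.syl_le_normalizer F.w0_data u_sub0
  have hP : IsPGroup 2 (Subgroup.zpowers (⟨p, hpN⟩ : N)) := by
    refine IsPGroup.of_card_dvd_pow (n := e) ?_
    rw [Nat.card_zpowers]
    exact orderOf_dvd_of_pow_eq_one (Subtype.ext (by simpa using hp2))
  obtain ⟨T, hT⟩ := hP.exists_le_sylow
  obtain ⟨q, hq⟩ := MulAction.exists_smul_eq N T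
    ((F.sylow hG).subtype (show (F.sylow hG : Subgroup G) ≤ N from hS))
  have hps : (q : G) * p * (q : G)⁻¹ ∈ F.syl := by
    have h1 : q * (⟨p, hpN⟩ : N) * q⁻¹ ∈
        ((F.sylow hG).subtype (show (F.sylow hG : Subgroup G) ≤ N from hS) : Subgroup N) := by
      rw [← hq, Sylow.coe_subgroup_smul]
      exact Subgroup.smul_mem_pointwise_smul (⟨p, hpN⟩ : N) (MulAut.conj q) _ (hT (Subgroup.mem_zpowers _))
    have h2 : ((q * (⟨p, hpN⟩ : N) * q⁻¹ : N) : G) ∈ (F.sylow hG : Subgroup G) := h1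
    rw [← F.coe_sylow hG]
    simpa using h2
  -- its fourth power is trivial on the elementary subgroup
  obtain ⟨s, hs, hes⟩ := hps
  have hsm := mem_of_pair Mdl.u_ok hs
  have hcentral : ∀ g ∈ F.w0, p ^ 4 * g = g * p ^ 4 := by
    intro g hg
    have hg' : (q : G) * g * (q : G)⁻¹ ∈ F.w0 := (Subgroup.mem_normalizer_iff.1 q.2 g).1 hg
    obtain ⟨b', hb', eb⟩ := (F.w0_data.mem_iff _).1 hg'
    have h4 := List.all_eq_true.1 (List.all_eq_true.1 Mdl.u_fourth s
      ((Mdl.mem_codesOf (Mdl.subOk_lt Mdl.u_ok) s).2 hs)) b' hb'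
    have hs2 := Mdl.mem_mulN hsm hsm
    rw [F.commN_iff (Mdl.mem_mulN hs2 hs2) (F.w0_data.mem_code hb'), F.map_mul _ _ hs2 hs2,
      F.map_mul _ _ hsm hsm, hes, eb] at h4
    have e2 : (q : G) * (p ^ 4 * g) * (q : G)⁻¹ = (q : G) * (g * p ^ 4) * (q : G)⁻¹ := by
      have e : (q : G) * p ^ 4 * (q : G)⁻¹ = (q : G) * p * (q : G)⁻¹ * ((q : G) * p * (q : G)⁻¹) *
          ((q : G) * p * (q : G)⁻¹ * ((q : G) * p * (q : G)⁻¹)) := by
        simp only [show (4 : ℕ) = 1 + 1 + 1 + 1 from rfl, pow_add, pow_one]; group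
      calc (q : G) * (p ^ 4 * g) * (q : G)⁻¹ = ((q : G) * p ^ 4 * (q : G)⁻¹) * ((q : G) * g * (q : G)⁻¹) := by
            group
        _ = ((q : G) * g * (q : G)⁻¹) * ((q : G) * p ^ 4 * (q : G)⁻¹) := by rw [e, h4]
        _ = _ := by group
    exact mul_left_cancel (mul_right_cancel e2)
  -- so is the fourth power of the composite, the odd part being invertible modulo eight
  obtain ⟨i, rfl⟩ := hb
  have h4 : m ^ 4 * F.ev a * (m ^ 4)⁻¹ = F.ev a := by
    have hga : F.ev a ∈ F.w0 := (F.w0_data.mem_iff _).2 ⟨a, ha, rfl⟩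
    have hfix : p ^ 4 * F.ev a * (p ^ 4)⁻¹ = F.ev a := by rw [hcentral _ hga, mul_inv_cancel_right]
    have h8 : ∀ w ∈ Mdl.w0List, m ^ 8 * F.ev w * (m ^ 8)⁻¹ = F.ev w := fun w hw => by
      rw [(hpow 8 w hw).2, (hall w hw).2]
    have h8i : ∀ j, m ^ (8 * j) * F.ev a * (m ^ (8 * j))⁻¹ = F.ev a := by
      intro j
      induction j with
      | zero => simp
      | succ j ih =>
        calc m ^ (8 * (j + 1)) * F.ev a * (m ^ (8 * (j + 1)))⁻¹
            = m ^ 8 * (m ^ (8 * j) * F.ev a * (m ^ (8 * j))⁻¹) * (m ^ 8)⁻¹ := by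
              rw [show 8 * (j + 1) = 8 + 8 * j by ring, pow_add]; group
          _ = F.ev a := by rw [ih, h8 a ha]
    calc m ^ 4 * F.ev a * (m ^ 4)⁻¹ = m ^ 4 * (m ^ (8 * i) * F.ev a * (m ^ (8 * i))⁻¹) * (m ^ 4)⁻¹ := by
          rw [h8i]
      _ = m ^ ((2 * i + 1) * 4) * F.ev a * (m ^ ((2 * i + 1) * 4))⁻¹ := by
          rw [show (2 * i + 1) * 4 = 4 + 8 * i by ring, pow_add]; group
      _ = F.ev a := by rw [pow_mul, ← hp, hfix]
  have hfin := (hpow 4 a ha).2
  rw [h4] at hfin
  have := F.inj _ _ (F.w0_data.mem_code ha) (F.w0_data.mem_code (hpow 4 a ha).1) hfin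
  rw [← this, Mdl.beq_of_eq rfl] at hne
  exact Bool.noConfusion hne

/-- Only two of the four actions occur. -/
theorem act_cases [Finite G] (hG : Nat.card G = 4030387200) {k : Nat} (hk : k < 4) {n : G}
    (hn : n * n = 1)
    (h : ∀ i < 3, n * F.ev (Mdl.dGens.getD i Mdl.one) * n = F.ev ((Mdl.actTable.getD k []).getD i Mdl.one)) :
    k = 1 ∨ k = 3 := by
  interval_cases k
  · exact (F.false_of_eight hG (by decide) hn h Mdl.order_eight.1).elim
  · exact Or.inl rfl
  · exact (F.false_of_eight hG (by decide) hn h Mdl.order_eight.2).elim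
  · exact Or.inr rfl

end Frame

end CfsgLib.HeldUniq
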