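import Cfsg.Agent.HeldU.Frame.ToModel
import Cfsg.Agent.HeldU.Module.Main

/-!
# The involution centraliser of a group of Held type is the model
-/

set_option autoImplicit false

namespace CfsgLib.HeldUniq

/-- In a simple group of the order of the Held group, an involution centralizer `2^(1+6).L3(2)` is the
split extension: there is a frame. -/
theorem exists_frame {G : Type*} [Group G] [Finite G] [IsSimpleGroup G] (t : G) (ht : orderOf t = 2)
    (Q : Subgroup (Subgroup.centralizer ({t} : Set G))) [Q.Normal] (hQ : Cfsg.IsExtraspecial 2 Q)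
    (hcard : Nat.card Q = 2 ^ 7)
    (h2c : Subgroup.centralizer (Q : Set (Subgroup.centralizer ({t} : Set G))) ≤ Q)
    (e : (Subgroup.centralizer ({t} : Set G)) ⧸ Q ≃* Matrix.SpecialLinearGroup (Fin 3) (ZMod 2))
    (hG : Nat.card G = 4030387200) : Nonempty (CfsgLib.HeldUniq.Frame t) := by
  obtain ⟨E₁, E₂, n1, n2, a1, a2, c1, c2, hmeet, hjoin⟩ :=
    CfsgLib.HeldMod.held_module t ht Q hQ hcard h2c e hG
  have sq : ∀ {E : Subgroup (Subgroup.centralizer ({t} : Set G))}, Cfsg.IsElementaryAbelian 2 E →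
      ∀ x ∈ E, x * x = 1 := fun hE x hx => by
    rw [← sq]
    exact hE.2 x hx
  exact CfsgLib.HeldC.frame_of_pieces ht rfl
    (CfsgLib.HeldC.pieces_of ht Q hQ h2c e n1 n2 (sq a1) (sq a2) c1 c2 _ rfl hmeet hjoin)

end CfsgLib.HeldUniq
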