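import Cfsg.Agent.HeldUniq.FusionArith
import Mathlib.GroupTheory.Nilpotent

/-!
Fusion in a simple group with involution centraliser `2^(1+6):L3(2)`: for the two chosen involutions
`x` of the normal 2-subgroup some element centralising `x` maps `t` to `t * x`.
-/

set_option autoImplicit false
set_option linter.unusedSectionVars false
set_option maxRecDepth 10000

namespace CfsgLib.HeldUniq

namespace Frame

variable {G : Type*} [Group G] {t : G} (F : Frame t) [Finite G]

/-- The 2-subgroup over given matrices in the centraliser of an element. -/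
def inCent (x : G) (P : List (Nat × Nat)) (hP : Mdl.subOk P = true) : Subgroup G :=
  F.over P hP ⊓ Subgroup.centralizer ({x} : Set G)

theorem card_inCent {x : Nat} {P : List (Nat × Nat)} (hP : Mdl.subOk P = true)
    (hc : Mdl.centOk x P = true) : Nat.card (F.inCent (F.ev x) P hP) = 512 := by
  simp only [Mdl.centOk, Bool.and_eq_true, Nat.beq_eq] at hc
  obtain ⟨⟨⟨⟨hx, -⟩, -⟩, hl⟩, -⟩ := hc
  rw [← hl]
  have hlt := Mdl.subOk_lt hP
  refine F.card_of_codes (X := (F.inCent (F.ev x) P hP : Set G)) _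
    ((Mdl.nodup_codesOf hlt (Mdl.subOk_facts hP).2.2.2).filter _)
    (fun a ha => mem_of_pair hP ((Mdl.mem_codesOf hlt a).1 (List.mem_filter.1 ha).1)) fun g => ⟨?_, ?_⟩
  · rintro ⟨⟨a, ha, rfl⟩, hg⟩
    exact ⟨a, List.mem_filter.2 ⟨(Mdl.mem_codesOf hlt a).2 ha,
      (F.commN_iff (mem_of_pair hP ha) hx).2 (Subgroup.mem_centralizer_singleton_iff.1 hg)⟩, rfl⟩
  · rintro ⟨a, ha, rfl⟩
    obtain ⟨ha, hg⟩ := List.mem_filter.1 ha
    have ha' := (Mdl.mem_codesOf hlt a).1 ha
    exact ⟨⟨a, ha', rfl⟩, Subgroup.mem_centralizer_singleton_iff.2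
      ((F.commN_iff (mem_of_pair hP ha') hx).1 hg)⟩

theorem center_inCent {x : Nat} {P : List (Nat × Nat)} (hP : Mdl.subOk P = true)
    (hc : Mdl.centOk x P = true) {z : G} (hz : z ∈ F.inCent (F.ev x) P hP)
    (hcomm : ∀ r ∈ F.inCent (F.ev x) P hP, z * r = r * z) :
    z = 1 ∨ z = t ∨ z = F.ev x ∨ z = t * F.ev x := by
  simp only [Mdl.centOk, Bool.and_eq_true] at hc
  obtain ⟨⟨⟨⟨hx, -⟩, -⟩, -⟩, hall⟩ := hc
  obtain ⟨⟨a, ha, rfl⟩, hzx⟩ := hz
  have hlt := Mdl.subOk_lt hP
  have hm := mem_of_pair hP ha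
  have h := List.all_eq_true.1 hall a ((Mdl.mem_codesOf hlt a).2 ha)
  rw [(F.commN_iff hm hx).2 (Subgroup.mem_centralizer_singleton_iff.1 hzx), Bool.not_true,
    Bool.false_or, Bool.or_eq_true, List.contains_iff_mem, List.any_eq_true] at h
  rcases h with h | ⟨b, hb, hab⟩
  · simp only [List.mem_cons, List.not_mem_nil, or_false] at h
    rcases h with rfl | rfl | rfl | rfl
    · exact Or.inl F.ev_one
    · exact Or.inr (Or.inl F.ev_t)
    · exact Or.inr (Or.inr (Or.inl rfl))
    · exact Or.inr (Or.inr (Or.inr (by rw [F.map_mul _ _ Mdl.mem_tN hx, F.ev_t])))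
  · have hb' := (Mdl.mem_codesOf hlt b).1 hb
    simp only [Bool.and_eq_true, Bool.not_eq_true'] at hab
    have hr : F.ev b ∈ F.inCent (F.ev x) P hP := ⟨⟨b, hb', rfl⟩,
      Subgroup.mem_centralizer_singleton_iff.2 ((F.commN_iff (mem_of_pair hP hb') hx).1 hab.1)⟩
    rw [(F.commN_iff hm (mem_of_pair hP hb')).2 (hcomm _ hr)] at hab
    exact Bool.noConfusion hab.2

variable (hG : Nat.card G = 4030387200)

include hG in
theorem exists_swap {x : Nat} {P : List (Nat × Nat)} (hP : Mdl.subOk P = true)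
    (hc : Mdl.centOk x P = true) (hxq : (Mdl.gOf x, Mdl.hOf x) = (Mdl.mone, Mdl.mone))
    (hconj : IsConj t (F.ev x)) :
    ∃ s, s * F.ev x = F.ev x * s ∧ s * t * s⁻¹ = t * F.ev x := by
  haveI : Fact (Nat.Prime 2) := ⟨Nat.prime_two⟩
  have hc' := hc
  simp only [Mdl.centOk, Bool.and_eq_true, Bool.not_eq_true'] at hc'
  obtain ⟨⟨⟨⟨hx, hx1⟩, hxt⟩, -⟩, -⟩ := hc'
  have x_ne_one : F.ev x ≠ 1 := fun e => by
    rw [Mdl.beq_of_eq ((F.eq_one_iff hx).1 e)] at hx1; exact Bool.noConfusion hx1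
  have x_ne_t : F.ev x ≠ t := fun e => by
    rw [Mdl.beq_of_eq ((F.eq_t_iff hx).1 e)] at hxt; exact Bool.noConfusion hxt
  set X := F.ev x with hX
  set R := F.inCent X P hP with hR
  set T := Subgroup.centralizer ({X} : Set G) with hT
  have hRT : R ≤ T := inf_le_right
  have hRC : R ≤ Subgroup.centralizer ({t} : Set G) := inf_le_left.trans (F.over_le_cent _ _)
  have hRcard : Nat.card R = 512 := F.card_inCent hP hc
  have hxR : X ∈ R := ⟨⟨x, by rw [hxq]; exact (Mdl.subOk_facts hP).2.1, rfl⟩,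
    Subgroup.mem_centralizer_singleton_iff.2 rfl⟩
  have htR : t ∈ R := by
    refine ⟨⟨Mdl.tN, ?_, F.ev_t⟩, Subgroup.mem_centralizer_singleton_iff.2 (F.mem_cent hx).symm⟩
    rw [show (Mdl.gOf Mdl.tN, Mdl.hOf Mdl.tN) = (Mdl.mone, Mdl.mone) from rfl]
    exact (Mdl.subOk_facts hP).2.1
  have hTcard : Nat.card T = 21504 := by
    obtain ⟨k, hk⟩ := isConj_iff.1 hconj
    have e : (Subgroup.centralizer ({t} : Set G)).map (MulAut.conj k).toMonoidHom = T := by
      ext g
      constructor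
      · rintro ⟨c, hc, rfl⟩
        refine Subgroup.mem_centralizer_singleton_iff.2 ?_
        rw [← hk]
        show k * c * k⁻¹ * (k * t * k⁻¹) = k * t * k⁻¹ * (k * c * k⁻¹)
        calc k * c * k⁻¹ * (k * t * k⁻¹) = k * (c * t) * k⁻¹ := by group
          _ = k * (t * c) * k⁻¹ := by rw [Subgroup.mem_centralizer_singleton_iff.1 hc]
          _ = _ := by group
      · intro hg
        refine ⟨k⁻¹ * g * k, Subgroup.mem_centralizer_singleton_iff.2 ?_, by
          show k * (k⁻¹ * g * k) * k⁻¹ = g; group⟩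
        have h := Subgroup.mem_centralizer_singleton_iff.1 hg
        rw [← hk] at h
        calc k⁻¹ * g * k * t = k⁻¹ * (g * (k * t * k⁻¹)) * k := by group
          _ = k⁻¹ * (k * t * k⁻¹ * g) * k := by rw [h]
          _ = t * (k⁻¹ * g * k) := by group
    rw [← e, Subgroup.card_map_of_injective (MulEquiv.injective _), F.card_cent]
  obtain ⟨S, hS⟩ := ((IsPGroup.of_card (n := 9) (p := 2) (G := R) (by rw [hRcard]; rfl)).of_equiv
    (Subgroup.subgroupOfEquivOfLe hRT).symm).exists_le_sylow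
  set K := (S : Subgroup T).map T.subtype with hK
  have hKcard : Nat.card K = 1024 := by
    rw [hK, Subgroup.card_map_of_injective T.subtype_injective]
    obtain ⟨n, hn⟩ := IsPGroup.iff_card.1 S.isPGroup'
    have h1 := Subgroup.card_mul_index (S : Subgroup T)
    rw [hTcard, hn] at h1
    have hodd : Nat.Coprime (S : Subgroup T).index 2 :=
      ((Nat.Prime.coprime_iff_not_dvd Nat.prime_two).2 S.not_dvd_index).symm
    rw [hn]
    apply Nat.dvd_antisymm
    · exact (Nat.Coprime.dvd_of_dvd_mul_right (n := 21)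
        (Nat.Coprime.pow_left n (by decide : Nat.Coprime 2 21)) ⟨(S : Subgroup T).index, h1.symm⟩)
    · exact (Nat.Coprime.dvd_of_dvd_mul_right (k := 1024) (n := (S : Subgroup T).index)
        ((Nat.Coprime.pow_right 10 hodd).symm) ⟨21, h1⟩)
  have hKT : K ≤ T := Subgroup.map_subtype_le _
  have hRK : R ≤ K := fun r hr => ⟨⟨r, hRT hr⟩, hS (show (⟨r, hRT hr⟩ : T) ∈ R.subgroupOf T from hr), rfl⟩
  have notC : ¬ K ≤ Subgroup.centralizer ({t} : Set G) := by
    intro hle
    obtain ⟨c, hc, hcK⟩ := F.exists_conj_in hG F.syl_le hle hKcard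
    have hsurj := map_conj_eq (F.card_syl.trans hKcard.symm) hcK
    have hc' := Subgroup.mem_centralizer_singleton_iff.1 hc
    have hct : c * t * c⁻¹ = t := by rw [hc', mul_inv_cancel_right]
    have hcx : c * X * c⁻¹ ∈ F.syl := hcK X (hRK hxR)
    rcases F.syl_center hcx (fun s hs => by
      obtain ⟨k, hk, rfl⟩ := hsurj s hs
      have e := Subgroup.mem_centralizer_singleton_iff.1 (hKT hk)
      calc c * X * c⁻¹ * (c * k * c⁻¹) = c * (X * k) * c⁻¹ := by group
        _ = c * (k * X) * c⁻¹ := by rw [e]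
        _ = _ := by group) with h | h
    · exact x_ne_one (conj_eq_one_iff.1 h)
    · exact x_ne_t (mul_left_cancel (mul_right_cancel (h.trans hct.symm)))
  have hnc : NormalizerCondition K :=
    haveI := ((IsPGroup.of_card (n := 10) (p := 2) (G := K) (by rw [hKcard]; rfl))).isNilpotent
    Group.normalizerCondition_of_isNilpotent
  have hlt : R.subgroupOf K < ⊤ := by
    refine lt_top_iff_ne_top.2 fun e => ?_
    have h := Nat.card_congr (Subgroup.subgroupOfEquivOfLe hRK).toEquiv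
    rw [e, Subgroup.card_top, hKcard, hRcard] at h
    omega
  obtain ⟨⟨n, hnK⟩, hnN, hnR⟩ := SetLike.exists_of_lt (hnc _ hlt)
  have hn : n ∈ Subgroup.normalizer (R : Set G) := by
    refine conj_mem_iff_of_le fun r hr => ?_
    exact (Subgroup.mem_normalizer_iff.1 hnN ⟨r, hRK hr⟩).1 (show (⟨r, hRK hr⟩ : K) ∈ R.subgroupOf K from hr)
  have hnx : n * X = X * n := Subgroup.mem_centralizer_singleton_iff.1 (hKT hnK)
  have hnt : n * t ≠ t * n := by
    intro e
    apply notC
    have hle : R ⊔ Subgroup.zpowers n ≤ K := sup_le hRK ((Subgroup.zpowers_le).2 hnK)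
    have hleC : R ⊔ Subgroup.zpowers n ≤ Subgroup.centralizer ({t} : Set G) :=
      sup_le hRC ((Subgroup.zpowers_le).2 (Subgroup.mem_centralizer_singleton_iff.2 e))
    obtain ⟨m, hm⟩ : Nat.card R ∣ Nat.card (R ⊔ Subgroup.zpowers n : Subgroup G) :=
      Subgroup.card_dvd_of_le le_sup_left
    have hd := Subgroup.card_dvd_of_le hle
    rw [hKcard, hm, hRcard] at hd
    have hm2 : m ∣ 2 := by
      have h2 : 512 * m ∣ 512 * 2 := hd
      exact Nat.dvd_of_mul_dvd_mul_left (by decide) h2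
    rcases (Nat.dvd_prime Nat.prime_two).1 hm2 with rfl | rfl
    · refine absurd ?_ hnR
      have e1 : R = R ⊔ Subgroup.zpowers n :=
        Subgroup.eq_of_le_of_card_ge le_sup_left (le_of_eq (by rw [hm, mul_one]))
      show n ∈ R
      rw [e1]
      exact Subgroup.mem_sup_right (Subgroup.mem_zpowers n)
    · rw [← Subgroup.eq_of_le_of_card_ge hle (le_of_eq (by rw [hm, hKcard, hRcard]))]
      exact hleC
  have hz : n * t * n⁻¹ ∈ R := (Subgroup.mem_normalizer_iff.1 hn t).1 htR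
  have hzc : ∀ r ∈ R, n * t * n⁻¹ * r = r * (n * t * n⁻¹) := by
    intro r hr
    have hr' := (Subgroup.mem_normalizer_iff''.1 hn r).1 hr
    have e := Subgroup.mem_centralizer_singleton_iff.1 (hRC hr')
    calc n * t * n⁻¹ * r = n * (t * (n⁻¹ * r * n)) * n⁻¹ := by group
      _ = n * (n⁻¹ * r * n * t) * n⁻¹ := by rw [e]
      _ = r * (n * t * n⁻¹) := by group
  rcases F.center_inCent hP hc hz hzc with h | h | h | h
  · exact absurd (conj_eq_one_iff.1 h) F.t_ne_one
  · exact absurd (mul_inv_eq_iff_eq_mul.1 h) hnt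
  · refine absurd ?_ x_ne_t
    have e : n * X * n⁻¹ = X := by rw [hnx, mul_inv_cancel_right]
    exact (mul_left_cancel (mul_right_cancel (h.trans e.symm))).symm
  · exact ⟨n, hnx, h⟩

variable (htwo : ∃ x y : G, orderOf x = 2 ∧ orderOf y = 2 ∧ ¬ IsConj x y ∧
    ∀ z : G, orderOf z = 2 → IsConj z x ∨ IsConj z y)

include hG htwo in
/-- For both chosen involutions `x` there is an element centralising `x` which maps `t` to `t * x`. -/
theorem exists_step : ∀ x ∈ [Mdl.mk 1 0 0 Mdl.mone Mdl.mone, Mdl.mk 0 1 0 Mdl.mone Mdl.mone],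
    ∃ s, s * F.ev x = F.ev x * s ∧ s * t * s⁻¹ = t * F.ev x := by
  obtain ⟨h1, h2⟩ := F.isConj_axes hG htwo
  intro x hx
  rcases List.mem_cons.1 hx with rfl | hx
  · exact F.exists_swap hG Mdl.r1_ok Mdl.cent1 (by decide) h1
  · rw [List.mem_singleton.1 hx]
    exact F.exists_swap hG Mdl.r2_ok Mdl.cent2 (by decide) h2

end Frame

end CfsgLib.HeldUniq
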