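import Cfsg.Agent.HeldUniq.FusionKinds
import Mathlib.GroupTheory.GroupAction.Quotient
import Mathlib.GroupTheory.Subgroup.Simple

/-!
The two chosen involutions of the normal 2-subgroup are conjugate to the central involution.
-/

set_option autoImplicit false
set_option linter.unusedSectionVars false
set_option maxRecDepth 10000

namespace CfsgLib.HeldUniq

namespace Mdl

theorem members_length : (members orb0).length = 63 ∧ (members orb3).length = 63 ∧
    p0Pairs.length * 128 = 3072 ∧ p3Pairs.length * 128 = 3072 := by decide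

theorem fusion_arith : ∀ e1 e2 a d d3 : Bool,
    (∀ o, o = 1 + (cond e1 2 0 + (cond e2 6 0 + (cond a 12 0 + cond d 24 0))) →
      4030387200 % (o * 3072) = 0 ∧ (o = 63 ∨ o * 3072 % (63 - o) = 0)) →
    (∀ o, o = 1 + (cond e2 2 0 + (cond e1 6 0 + (cond a 12 0 + cond d3 24 0))) →
      4030387200 % (o * 3072) = 0 ∧ (o = 63 ∨ o * 3072 % (63 - o) = 0)) →
    e1 = true ∧ e2 = true := by
  intro e1 e2 a d d3 h h3
  have h' := h _ rfl
  have h3' := h3 _ rfl
  clear h h3
  revert h' h3'
  revert e1 e2 a d d3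
  decide

end Mdl

namespace Frame

variable {G : Type*} [Group G] {t : G} (F : Frame t) [Finite G]

theorem card_orbit (N : Subgroup G) (y : G) :
    Nat.card N = Nat.card {g : G | ∃ n ∈ N, n * y * n⁻¹ = g} *
      Nat.card (N ⊓ Subgroup.centralizer ({y} : Set G) : Subgroup G) := by
  letI : MulAction N G := MulAction.compHom G ((MulAut.conj : G →* MulAut G).comp N.subtype)
  have hs : ∀ (n : N) (g : G), n • g = (n : G) * g * (n : G)⁻¹ := fun _ _ => rfl
  have h1 : MulAction.orbit N y = {g : G | ∃ n ∈ N, n * y * n⁻¹ = g} := by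
    ext g
    constructor
    · rintro ⟨n, rfl⟩; exact ⟨n, n.2, (hs n y).symm⟩
    · rintro ⟨n, hn, rfl⟩; exact ⟨⟨n, hn⟩, hs _ _⟩
  have h2 : (MulAction.stabilizer N y).map N.subtype = N ⊓ Subgroup.centralizer ({y} : Set G) := by
    ext g
    constructor
    · rintro ⟨n, hn, rfl⟩
      refine ⟨n.2, Subgroup.mem_centralizer_singleton_iff.2 ?_⟩
      have e : (n : G) * y * (n : G)⁻¹ = y := hn
      exact mul_inv_eq_iff_eq_mul.1 e
    · rintro ⟨hg, hc⟩
      refine ⟨⟨g, hg⟩, ?_, rfl⟩
      show g * y * g⁻¹ = y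
      rw [Subgroup.mem_centralizer_singleton_iff.1 hc, mul_inv_cancel_right]
  rw [← h2, Subgroup.card_map_of_injective N.subtype_injective, ← h1, Nat.card_coe_set_eq,
    ← MulAction.index_stabilizer, mul_comm, Subgroup.card_mul_index]

theorem isConj_of_codes (n a b : Nat) (h : (Mdl.mem n && Mdl.mem a && Mdl.mem b &&
    Nat.beq (Mdl.mulN n a) (Mdl.mulN b n)) = true) : IsConj (F.ev a) (F.ev b) := by
  simp only [Bool.and_eq_true, Nat.beq_eq] at h
  exact isConj_iff.2 ⟨F.ev n, F.conj_of h.1.1.1 h.1.1.2 h.1.2 h.2⟩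

open Classical in
/-- The contribution of an orbit. -/
noncomputable def kindCount (r n : ℕ) : ℕ := if IsConj t (F.ev r) then n else 0

theorem kindCount_eq (r n : ℕ) (b : Bool) (h : b = true ↔ IsConj t (F.ev r)) :
    F.kindCount r n = cond b n 0 := by
  unfold kindCount
  cases b with
  | true => rw [if_pos (h.1 rfl)]; rfl
  | false => rw [if_neg fun hc => Bool.noConfusion (h.2 hc)]; rfl

theorem card_classes {H : Subgroup G} {P E : List (Nat × Nat)} {W : List Nat}
    {orb : List (List (Nat × Nat))} (d : F.ElemData H P E W) (ho : Mdl.orbOk P W orb = true)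
    (hlen : (Mdl.members orb).length = 63) :
    Nat.card {g : G | g ∈ H ∧ IsConj t g} =
        ((orb.map fun o => ((o.headD (0, 0)).1, o.length)).map fun e => F.kindCount e.1 e.2).sum ∧
      Nat.card {g : G | g ∈ H ∧ g ≠ 1 ∧ ¬ IsConj t g} + Nat.card {g : G | g ∈ H ∧ IsConj t g} = 63 := by
  classical
  obtain ⟨hnd, hcov, hW, -⟩ := Mdl.orb_facts ho
  set p : ℕ → Bool := fun a => decide (IsConj t (F.ev a)) with hp
  have hm : ∀ a ∈ Mdl.members orb, Mdl.mem a = true := fun a ha => d.mem_code (hW a ha).1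
  have hne : ∀ a ∈ Mdl.members orb, F.ev a ≠ 1 := fun a ha e => (hW a ha).2 ((F.eq_one_iff (hm a ha)).1 e)
  have hcov' : ∀ g ∈ H, g ≠ 1 → ∃ a ∈ Mdl.members orb, F.ev a = g := fun g hg h1 => by
    obtain ⟨a, ha, rfl⟩ := (d.mem_iff g).1 hg
    rcases hcov a ha with rfl | h
    · exact absurd F.ev_one h1
    · exact ⟨a, h, rfl⟩
  have hX : Nat.card {g : G | g ∈ H ∧ IsConj t g} = (Mdl.members orb).countP p := by
    rw [List.countP_eq_length_filter]
    refine F.card_of_codes _ (hnd.filter _) (fun a ha => hm a (List.mem_filter.1 ha).1) fun g => ⟨?_, ?_⟩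
    · rintro ⟨hg, hc⟩
      obtain ⟨a, ha, rfl⟩ := hcov' g hg fun e => F.t_ne_one (isConj_one_left.1 (e ▸ hc))
      exact ⟨a, List.mem_filter.2 ⟨ha, decide_eq_true hc⟩, rfl⟩
    · rintro ⟨a, ha, rfl⟩
      obtain ⟨ha, hc⟩ := List.mem_filter.1 ha
      exact ⟨(d.mem_iff _).2 ⟨a, (hW a ha).1, rfl⟩, of_decide_eq_true hc⟩
  have hY : Nat.card {g : G | g ∈ H ∧ g ≠ 1 ∧ ¬ IsConj t g} =
      (Mdl.members orb).countP fun a => ¬ p a := by
    rw [List.countP_eq_length_filter]
    refine F.card_of_codes _ (hnd.filter _) (fun a ha => hm a (List.mem_filter.1 ha).1) fun g => ⟨?_, ?_⟩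
    · rintro ⟨hg, h1, hc⟩
      obtain ⟨a, ha, rfl⟩ := hcov' g hg h1
      exact ⟨a, List.mem_filter.2 ⟨ha, decide_eq_true (mt of_decide_eq_true hc)⟩, rfl⟩
    · rintro ⟨a, ha, rfl⟩
      obtain ⟨ha, hc⟩ := List.mem_filter.1 ha
      exact ⟨(d.mem_iff _).2 ⟨a, (hW a ha).1, rfl⟩, hne a ha, by simpa [hp] using hc⟩
  refine ⟨?_, ?_⟩
  · rw [hX, Mdl.members, List.countP_flatMap, List.map_map]
    refine congrArg List.sum (List.map_congr_left fun o ho' => ?_)
    show (o.map Prod.fst).countP p = F.kindCount (o.headD (0, 0)).1 o.length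
    have hiff : ∀ y ∈ o, (IsConj t (F.ev y.1) ↔ IsConj t (F.ev (o.headD (0, 0)).1)) := fun y hy => by
      obtain ⟨c, -, hc⟩ := F.isConj_member d ho ho' hy
      have h := isConj_iff.2 ⟨c, hc⟩
      exact ⟨fun hh => hh.trans h.symm, fun hh => hh.trans h⟩
    unfold kindCount
    rw [List.countP_map]
    split_ifs with hc
    · rw [List.countP_eq_length.2 fun y hy => by simpa [hp] using (hiff y hy).2 hc]
    · rw [List.countP_eq_zero.2 fun y hy => by simpa [hp] using fun hh => hc ((hiff y hy).1 hh)]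
  · rw [hX, hY, ← hlen]
    have h := List.length_eq_countP_add_countP p (l := Mdl.members orb)
    omega

variable (hG : Nat.card G = 4030387200)
  (htwo : ∃ x y : G, orderOf x = 2 ∧ orderOf y = 2 ∧ ¬ IsConj x y ∧
    ∀ z : G, orderOf z = 2 → IsConj z x ∨ IsConj z y)

include F htwo in
theorem isConj_other {y z : G} (hy : y * y = 1) (hy1 : y ≠ 1) (hyt : ¬ IsConj t y) (hz : z * z = 1)
    (hz1 : z ≠ 1) (hzt : ¬ IsConj t z) : IsConj y z := by
  obtain ⟨a, b, -, -, -, hab⟩ := htwo
  have oy : orderOf y = 2 := orderOf_eq_prime (by rw [sq, hy]) hy1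
  have oz : orderOf z = 2 := orderOf_eq_prime (by rw [sq, hz]) hz1
  rcases hab t F.orderOf_t with ht | ht <;> rcases hab y oy with hy' | hy' <;>
    rcases hab z oz with hz' | hz' <;>
    first
      | exact hy'.trans hz'.symm
      | exact absurd (ht.trans hy'.symm) hyt
      | exact absurd (ht.trans hz'.symm) hzt

include hG htwo in
theorem card_good {H : Subgroup G} {P E : List (Nat × Nat)} {W : List Nat}
    {orb : List (List (Nat × Nat))} (hH : H = F.w0 ∨ H = F.w3) (d : F.ElemData H P E W)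
    (ho : Mdl.orbOk P W orb = true) (hlen : (Mdl.members orb).length = 63) (hP : P.length * 128 = 3072)
    (o : ℕ)
    (h : ((orb.map fun o => ((o.headD (0, 0)).1, o.length)).map fun e => F.kindCount e.1 e.2).sum = o) :
    4030387200 % (o * 3072) = 0 ∧ (o = 63 ∨ o * 3072 % (63 - o) = 0) := by
  obtain ⟨hX, hXY⟩ := F.card_classes d ho hlen
  rw [h] at hX
  have horb : {g : G | ∃ n ∈ Subgroup.normalizer (H : Set G), n * t * n⁻¹ = g} =
      {g : G | g ∈ H ∧ IsConj t g} := by
    ext g
    constructor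
    · rintro ⟨n, hn, rfl⟩
      exact ⟨(Subgroup.mem_normalizer_iff.1 hn t).1 d.t_mem, isConj_iff.2 ⟨n, rfl⟩⟩
    · rintro ⟨hg, hc⟩
      obtain ⟨k, hk⟩ := isConj_iff.1 hc
      exact F.control hG hH d.t_mem hg hk
  have hN : Nat.card (Subgroup.normalizer (H : Set G)) = o * 3072 := by
    rw [card_orbit _ t, horb, hX, d.card_normalizer_inf, hP]
  refine ⟨Nat.mod_eq_zero_of_dvd (hN ▸ hG ▸ Subgroup.card_subgroup_dvd_card _) , ?_⟩
  by_cases h63 : o = 63
  · exact Or.inl h63
  refine Or.inr (Nat.mod_eq_zero_of_dvd ?_)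
  have hY : Nat.card {g : G | g ∈ H ∧ g ≠ 1 ∧ ¬ IsConj t g} = 63 - o := by omega
  have hpos : 0 < Nat.card {g : G | g ∈ H ∧ g ≠ 1 ∧ ¬ IsConj t g} := by omega
  obtain ⟨⟨y, hy, hy1, hyt⟩⟩ := (Nat.card_pos_iff.1 hpos).1
  have horb' : {g : G | ∃ n ∈ Subgroup.normalizer (H : Set G), n * y * n⁻¹ = g} =
      {g : G | g ∈ H ∧ g ≠ 1 ∧ ¬ IsConj t g} := by
    ext g
    constructor
    · rintro ⟨n, hn, rfl⟩
      exact ⟨(Subgroup.mem_normalizer_iff.1 hn y).1 hy, fun e => hy1 (conj_eq_one_iff.1 e),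
        fun hc => hyt (hc.trans (isConj_iff.2 ⟨n, rfl⟩).symm)⟩
    · rintro ⟨hg, hg1, hgt⟩
      obtain ⟨k, hk⟩ := isConj_iff.1 (F.isConj_other htwo (d.sq y hy) hy1 hyt (d.sq g hg) hg1 hgt)
      exact F.control hG hH hy hg hk
  rw [← hY, ← hN, card_orbit _ y, horb']
  exact dvd_mul_right _ _

include hG htwo in
theorem isConj_axes : IsConj t (F.ev Mdl.qx0) ∧ IsConj t (F.ev Mdl.qy0) := by
  classical
  have l1 : IsConj (F.ev 17926276) (F.ev 17926274) :=
    F.isConj_of_codes 6440448 _ _ (by decide +kernel)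
  have l3 : IsConj (F.ev 17926284) (F.ev 17926282) :=
    F.isConj_of_codes 10571904 _ _ (by decide +kernel)
  have l4 : IsConj (F.ev 18188928) (F.ev 18057600) :=
    F.isConj_of_codes 10571904 _ _ (by decide +kernel)
  have l5 : IsConj (F.ev 18188940) (F.ev 18057610) :=
    F.isConj_of_codes 10571904 _ _ (by decide +kernel)
  have lx : IsConj (F.ev Mdl.qx0) (F.ev 17926276) :=
    F.isConj_of_codes 5515776 _ _ (by decide +kernel)
  have ht : F.kindCount 17926336 1 = 1 := by
    rw [F.kindCount_eq _ _ true]; · rfl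
    rw [show (17926336 : ℕ) = Mdl.tN from rfl, F.ev_t]
    exact iff_of_true rfl (IsConj.refl t)
  have z0 : ∀ r n, ¬ IsConj t (F.ev r) → F.kindCount r n = 0 := fun r n h => by
    rw [F.kindCount_eq r n false ⟨fun e => Bool.noConfusion e, fun e => absurd e h⟩]; rfl
  set e1 := decide (IsConj t (F.ev 17926276)) with he1
  set e2 := decide (IsConj t (F.ev 17926280)) with he2
  set a := decide (IsConj t (F.ev 18188928)) with ha
  have key := Mdl.fusion_arith e1 e2 a (decide (IsConj t (F.ev 18188944)))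
    (decide (IsConj t (F.ev 18057604)))
    (fun o h => F.card_good hG htwo (Or.inl rfl) F.w0_data Mdl.orb0_ok Mdl.members_length.1
      Mdl.members_length.2.2.1 o (by
        rw [Mdl.reps0]
        simp only [List.map_cons, List.map_nil, List.sum_cons, List.sum_nil]
        rw [ht, F.kindCount_eq 17926276 2 e1 decide_eq_true_iff,
          F.kindCount_eq 17926280 6 e2 decide_eq_true_iff, z0 _ _ (F.not_conj_m hG),
          F.kindCount_eq 18188928 12 a decide_eq_true_iff, z0 _ _ (F.not_conj_z hG),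
          F.kindCount_eq 18188944 24 _ decide_eq_true_iff, h]
        omega))
    (fun o h => F.card_good hG htwo (Or.inr rfl) F.w3_data Mdl.orb3_ok Mdl.members_length.2.1
      Mdl.members_length.2.2.2 o (by
        rw [Mdl.reps3]
        simp only [List.map_cons, List.map_nil, List.sum_cons, List.sum_nil]
        rw [ht, F.kindCount_eq 17926280 2 e2 decide_eq_true_iff,
          F.kindCount_eq 17926274 6 e1 (decide_eq_true_iff.trans
            ⟨fun hh => hh.trans l1, fun hh => hh.trans l1.symm⟩),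
          z0 17926282 _ (fun hh => F.not_conj_m hG (hh.trans l3.symm)),
          F.kindCount_eq 18057600 12 a (decide_eq_true_iff.trans
            ⟨fun hh => hh.trans l4, fun hh => hh.trans l4.symm⟩),
          z0 18057610 _ (fun hh => F.not_conj_z hG (hh.trans l5.symm)),
          F.kindCount_eq 18057604 24 _ decide_eq_true_iff, h]
        omega))
  refine ⟨(of_decide_eq_true key.1).trans lx.symm, ?_⟩
  rw [show Mdl.qy0 = 17926280 from rfl]
  exact of_decide_eq_true key.2

end Frame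

end CfsgLib.HeldUniq
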