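import Cfsg.Agent.HeldUniq.FusionChecks

/-!
Closure and normality checks on the two elementary subgroups of order 64 in the model.
-/

set_option autoImplicit false
set_option maxRecDepth 100000
set_option maxHeartbeats 0

namespace CfsgLib.HeldUniq.Mdl

theorem w0_closed : (w0List.all fun a => w0List.all fun b => w0List.contains (mulN a b)) = true := by
  decide +kernel
theorem w3_closed : (w3List.all fun a => w3List.all fun b => w3List.contains (mulN a b)) = true := by
  decide +kernel
theorem w0_norm : normOk p0Pairs w0List = true := by decide +kernel
theorem w3_norm : normOk p3Pairs w3List = true := by decide +kernel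
end CfsgLib.HeldUniq.Mdl
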