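import Cfsg.Agent.HeldUniq.FusionBasic
import Cfsg.Agent.HeldUniq.FusionChecksW

/-!
The two elementary subgroups of order 64 of a Sylow 2-subgroup of `2^(1+6):L3(2)`.
-/

set_option autoImplicit false
set_option linter.unusedSectionVars false
set_option maxRecDepth 10000

namespace CfsgLib.HeldUniq

namespace Mdl

theorem elem_facts {P E : List (Nat × Nat)} {W : List Nat} (h : elemOk P E W = true) :
    W.length = 64 ∧ W.Nodup ∧ one ∈ W ∧ tN ∈ W ∧
      (∀ a ∈ W, mem a = true ∧ mulN a a = one ∧ (gOf a, hOf a) ∈ E ∧ (gOf a, hOf a) ∈ uPairs) ∧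
      (∀ x ∈ E, ∃ a ∈ W, gOf a = x.1) ∧
      (∀ x ∈ slPairs, x ∈ P ∨ ∃ e ∈ E, ∀ f ∈ E, mmul x.1 e.1 ≠ mmul f.1 x.1) := by
  simp only [elemOk, Bool.and_eq_true, List.all_eq_true, List.any_eq_true, List.contains_iff_mem,
    decide_eq_true_eq, Nat.beq_eq, Bool.or_eq_true, Bool.not_eq_true'] at h
  obtain ⟨⟨⟨⟨⟨⟨h1, h2⟩, h3⟩, h4⟩, h5⟩, h6⟩, h7⟩ := h
  refine ⟨h1, h2, h3, h4, fun a ha => ⟨(h5 a ha).1.1.1, (h5 a ha).1.1.2, (h5 a ha).1.2, (h5 a ha).2⟩,
    h6, fun x hx => (h7 x hx).imp_right ?_⟩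
  rintro ⟨e, he, hf⟩
  exact ⟨e, he, fun f hf' eq => by have h := hf f hf'; rw [beq_of_eq eq] at h; exact Bool.noConfusion h⟩

theorem closed_facts {W : List Nat} (h : (W.all fun a => W.all fun b => W.contains (mulN a b)) = true) :
    ∀ a ∈ W, ∀ b ∈ W, mulN a b ∈ W := fun a ha b hb =>
  List.contains_iff_mem.1 (List.all_eq_true.1 (List.all_eq_true.1 h a ha) b hb)

theorem qFix_of_comm {q a : Nat} (hqg : gOf q = mone) (hqh : hOf q = mone) (e : mulN q a = mulN a q) :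
    qFix (gOf a, hOf a) (q % 128) = true := by
  have ev := congrArg vOf e
  have ep := congrArg pOf e
  rw [(mulN_fields q a).1, (mulN_fields a q).1, hqg] at ev
  rw [(mulN_fields q a).2.1, (mulN_fields a q).2.1, hqh] at ep
  have i1 : ∀ w < 8, app mone w = w ∧ rapp w mone = w := by decide
  rw [(i1 _ (fields_lt a).1).1] at ev
  rw [(i1 _ (fields_lt a).2.1).2] at ep
  change vOf q ^^^ vOf a = vOf a ^^^ app (gOf a) (vOf q) at ev
  change pOf q ^^^ pOf a = pOf a ^^^ rapp (pOf q) (hOf a) at ep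
  rw [Nat.xor_comm] at ev ep
  have cancel : ∀ {u v w : Nat}, u ^^^ v = u ^^^ w → v = w := fun {u v w} h => by
    have := congrArg (u ^^^ ·) h
    simpa [← Nat.xor_assoc] using this
  have ev' := cancel ev
  have ep' := cancel ep
  have e1 : vOf (q % 128) = vOf q := by simp only [vOf_eq]; omega
  have e2 : pOf (q % 128) = pOf q := by simp only [pOf_eq]; omega
  rw [qFix, e1, e2, ← ev', ← ep', beq_of_eq rfl, beq_of_eq rfl, Bool.true_and]

theorem mem_fixOf {E : List (Nat × Nat)} {q : Nat} (hqg : gOf q = mone) (hqh : hOf q = mone)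
    (h : ∀ x ∈ E, qFix x (q % 128) = true) : q ∈ fixOf E := by
  refine List.mem_map.2 ⟨q % 128, List.mem_filter.2 ⟨List.mem_range.2 (Nat.mod_lt _ (by decide)),
    List.all_eq_true.2 h⟩, ?_⟩
  conv_rhs => rw [← atPair_self q, hqg, hqh]

theorem fixOf_pair {E : List (Nat × Nat)} {c : Nat} (hc : c ∈ fixOf E) :
    (gOf c, hOf c) = (mone, mone) := by
  obtain ⟨q, hq, rfl⟩ := List.mem_map.1 hc
  obtain ⟨-, e1, e2⟩ := atPair_fields (x := (mone, mone)) (by decide)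
    (List.mem_range.1 (List.mem_filter.1 hq).1)
  rw [e1, e2]

theorem mone_mem : (mone, mone) ∈ slPairs := (subOk_facts u_ok).1 _ (subOk_facts u_ok).2.1

theorem fixOf_mem {E : List (Nat × Nat)} {c : Nat} (hc : c ∈ fixOf E) : mem c = true := by
  rw [mem_iff_pair, fixOf_pair hc]; exact mone_mem

theorem both_chk : ∀ x ∈ eInv, ∀ y ∈ eInv,
    x ∈ e0Pairs → y ∈ e0Pairs → x ∈ e3Pairs → y ∈ e3Pairs → x = y := by decide

theorem eInv_mone : (mone, mone) ∈ e0Pairs ∧ (mone, mone) ∈ e3Pairs ∧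
    e0Pairs.length = 4 ∧ e3Pairs.length = 4 := by decide

theorem qBasic : ([qx0, qy0, qx1, qy1].all fun a =>
    mem a && Nat.beq (gOf a) mone && Nat.beq (hOf a) mone) = true := by decide +kernel

end Mdl

namespace Frame

variable {G : Type*} [Group G] {t : G} (F : Frame t) [Finite G]

/-- The first elementary subgroup of order 64. -/
def w0 : Subgroup G := F.ofList Mdl.w0List (Mdl.elem_facts Mdl.w0_elem).2.2.1
  (fun a ha => ((Mdl.elem_facts Mdl.w0_elem).2.2.2.2.1 a ha).1) (Mdl.closed_facts Mdl.w0_closed)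

/-- The second elementary subgroup of order 64. -/
def w3 : Subgroup G := F.ofList Mdl.w3List (Mdl.elem_facts Mdl.w3_elem).2.2.1
  (fun a ha => ((Mdl.elem_facts Mdl.w3_elem).2.2.2.2.1 a ha).1) (Mdl.closed_facts Mdl.w3_closed)

/-- What is needed of an elementary subgroup given by lists. -/
structure ElemData (H : Subgroup G) (P E : List (Nat × Nat)) (W : List Nat) : Prop where
  mem_iff : ∀ g, g ∈ H ↔ ∃ a ∈ W, F.ev a = g
  elem : Mdl.elemOk P E W = true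
  norm : Mdl.normOk P W = true
  sub : Mdl.subOk P = true

theorem w0_data : F.ElemData F.w0 Mdl.p0Pairs Mdl.e0Pairs Mdl.w0List :=
  ⟨fun _ => Iff.rfl, Mdl.w0_elem, Mdl.w0_norm, Mdl.p0_ok⟩

theorem w3_data : F.ElemData F.w3 Mdl.p3Pairs Mdl.e3Pairs Mdl.w3List :=
  ⟨fun _ => Iff.rfl, Mdl.w3_elem, Mdl.w3_norm, Mdl.p3_ok⟩

variable {F} {H : Subgroup G} {P E : List (Nat × Nat)} {W : List Nat}

theorem ElemData.mem_code (d : F.ElemData H P E W) {a : Nat} (ha : a ∈ W) : Mdl.mem a = true :=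
  ((Mdl.elem_facts d.elem).2.2.2.2.1 a ha).1

theorem ElemData.ev_mem (d : F.ElemData H P E W) {a : Nat} (ha : Mdl.mem a = true) :
    F.ev a ∈ H ↔ a ∈ W := by
  refine ⟨fun h => ?_, fun h => (d.mem_iff _).2 ⟨a, h, rfl⟩⟩
  obtain ⟨b, hb, e⟩ := (d.mem_iff _).1 h
  rwa [F.inj b a (d.mem_code hb) ha e] at hb

theorem ElemData.card (d : F.ElemData H P E W) : Nat.card H = 64 :=
  (F.card_of_codes (X := (H : Set G)) W (Mdl.elem_facts d.elem).2.1 (fun _ ha => d.mem_code ha)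
    fun g => d.mem_iff g).trans (Mdl.elem_facts d.elem).1

theorem ElemData.sq (d : F.ElemData H P E W) : ∀ g ∈ H, g * g = 1 := by
  intro g hg
  obtain ⟨a, ha, rfl⟩ := (d.mem_iff _).1 hg
  rw [← F.map_mul a a (d.mem_code ha) (d.mem_code ha), ((Mdl.elem_facts d.elem).2.2.2.2.1 a ha).2.1,
    F.ev_one]

theorem ElemData.t_mem (d : F.ElemData H P E W) : t ∈ H :=
  (d.mem_iff _).2 ⟨_, (Mdl.elem_facts d.elem).2.2.2.1, F.ev_t⟩

theorem ElemData.le_syl (d : F.ElemData H P E W) : H ≤ F.syl := by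
  intro g hg
  obtain ⟨a, ha, rfl⟩ := (d.mem_iff _).1 hg
  exact ⟨a, ((Mdl.elem_facts d.elem).2.2.2.2.1 a ha).2.2.2, rfl⟩

theorem conj_mem_iff_of_le {H : Subgroup G} {n : G} (h : ∀ w ∈ H, n * w * n⁻¹ ∈ H) :
    n ∈ Subgroup.normalizer (H : Set G) := by
  rw [Subgroup.mem_normalizer_iff_map_conj_eq]
  refine Subgroup.eq_of_le_of_card_ge ?_ (le_of_eq ?_)
  · rintro _ ⟨w, hw, rfl⟩
    exact h w hw
  · exact (Subgroup.card_map_of_injective (MulEquiv.injective _)).symm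

theorem ElemData.over_le (d : F.ElemData H P E W) :
    F.over P d.sub ≤ Subgroup.normalizer (H : Set G) := by
  have hgen : ∀ n ∈ Mdl.normGens P, Mdl.mem n = true → F.ev n ∈ Subgroup.normalizer (H : Set G) := by
    intro n hn hm
    refine conj_mem_iff_of_le fun w hw => ?_
    obtain ⟨a, ha, rfl⟩ := (d.mem_iff _).1 hw
    have h := List.all_eq_true.1 (List.all_eq_true.1 d.norm n hn) a ha
    simp only [Bool.and_eq_true, List.contains_iff_mem, Nat.beq_eq] at h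
    rw [F.conj_of hm (d.mem_code ha) (d.mem_code h.1) h.2]
    exact (d.mem_iff _).2 ⟨_, h.1, rfl⟩
  rintro _ ⟨a, ha, rfl⟩
  have hm := mem_of_pair d.sub ha
  obtain ⟨e1, e2⟩ := Mdl.split_code hm
  have hlt := Mdl.subOk_lt d.sub _ ha
  obtain ⟨hv, hp, hc, -⟩ := Mdl.fields_lt a
  have hq : ∀ v p c : Nat, v < 8 → p < 8 → c < 2 →
      Mdl.mem (Mdl.mk v p c Mdl.mone Mdl.mone) = true := by
    intro v p c h1 h2 h3
    have := Mdl.mk_fields (h := Mdl.mone) h1 h2 h3 (show Mdl.mone < 512 by decide)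
    rw [Mdl.mem_iff_pair, this.2.2.2.1, this.2.2.2.2]
    exact Mdl.mone_mem
  have m0 := hq _ 0 0 hv (by decide) (by decide)
  have m1 := hq 0 _ 0 (by decide) hp (by decide)
  have m2 := hq 0 0 _ (by decide) (by decide) hc
  have mg : Mdl.mem (Mdl.atPair (Mdl.gOf a, Mdl.hOf a) 0) = true := by
    obtain ⟨-, g1, g2⟩ := Mdl.atPair_fields (x := (Mdl.gOf a, Mdl.hOf a)) hlt (q := 0) (by decide)
    rw [Mdl.mem_iff_pair, g1, g2]
    exact (Mdl.mem_iff_pair a).1 hm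
  have mq : Mdl.mem (Mdl.atPair (Mdl.mone, Mdl.mone) (a % 128)) = true := by
    rw [e2]; exact Mdl.mem_mulN m0 (Mdl.mem_mulN m1 m2)
  rw [e1, F.map_mul _ _ mq mg, e2, F.map_mul _ _ m0 (Mdl.mem_mulN m1 m2), F.map_mul _ _ m1 m2]
  refine mul_mem (mul_mem (hgen _ ?_ m0) (mul_mem (hgen _ ?_ m1) (hgen _ ?_ m2))) (hgen _ ?_ mg)
  · exact List.mem_append_left _ (List.mem_append_left _ (List.mem_append_left _
      (List.mem_map.2 ⟨_, List.mem_range.2 hv, rfl⟩)))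
  · exact List.mem_append_left _ (List.mem_append_left _ (List.mem_append_right _
      (List.mem_map.2 ⟨_, List.mem_range.2 hp, rfl⟩)))
  · refine List.mem_append_left _ (List.mem_append_right _ ?_)
    rcases (show Mdl.cOf a = 0 ∨ Mdl.cOf a = 1 by omega) with h | h <;> rw [h] <;> simp
  · exact List.mem_append_right _ (List.mem_map.2 ⟨_, ha, rfl⟩)

theorem ElemData.normalizer_inf (d : F.ElemData H P E W) :
    Subgroup.normalizer (H : Set G) ⊓ Subgroup.centralizer ({t} : Set G) = F.over P d.sub := by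
  refine le_antisymm ?_ (le_inf d.over_le (F.over_le_cent _ _))
  rintro g ⟨hn, hc⟩
  obtain ⟨n, hm, rfl⟩ := (F.mem_iff g).1 hc
  refine (F.ev_mem_over hm).2 ?_
  rcases (Mdl.elem_facts d.elem).2.2.2.2.2.2 _ ((Mdl.mem_iff_pair n).1 hm) with h | ⟨e, he, hne⟩
  · exact h
  obtain ⟨a, ha, hae⟩ := (Mdl.elem_facts d.elem).2.2.2.2.2.1 e he
  have h1 := (Subgroup.mem_normalizer_iff.1 hn (F.ev a)).1 ((d.mem_iff _).2 ⟨a, ha, rfl⟩)
  obtain ⟨b, hb, eb⟩ := (d.mem_iff _).1 h1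
  have e1 : F.ev n * F.ev a = F.ev b * F.ev n := by rw [eb, inv_mul_cancel_right]
  rw [← F.map_mul _ _ hm (d.mem_code ha), ← F.map_mul _ _ (d.mem_code hb) hm] at e1
  have e2 := congrArg Mdl.gOf (F.inj _ _ (Mdl.mem_mulN hm (d.mem_code ha))
    (Mdl.mem_mulN (d.mem_code hb) hm) e1)
  rw [(Mdl.mulN_fields _ _).2.2.1, (Mdl.mulN_fields _ _).2.2.1, hae] at e2
  exact absurd e2 (hne _ ((Mdl.elem_facts d.elem).2.2.2.2.1 b hb).2.2.1)

theorem ElemData.card_normalizer_inf (d : F.ElemData H P E W) :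
    Nat.card (Subgroup.normalizer (H : Set G) ⊓ Subgroup.centralizer ({t} : Set G) : Subgroup G) =
      P.length * 128 := by
  rw [d.normalizer_inf]; exact F.card_over _ _

theorem comm_of_sq {A : Subgroup G} (h : ∀ a ∈ A, a * a = 1) {a b : G} (ha : a ∈ A) (hb : b ∈ A) :
    a * b = b * a := by
  have e : (a * b)⁻¹ = a * b := inv_eq_of_mul_eq_one_right (h _ (A.mul_mem ha hb))
  rw [mul_inv_rev, inv_eq_of_mul_eq_one_right (h a ha), inv_eq_of_mul_eq_one_right (h b hb)] at e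
  exact e.symm

theorem forall_mem_of_length_le {K : Subgroup G} (L : List Nat)
    (hK : ∀ k ∈ K, ∃ c ∈ L, F.ev c = k) (hle : L.length ≤ Nat.card K) :
    ∀ c ∈ L, F.ev c ∈ K := by
  classical
  haveI := Fintype.ofFinite G
  intro c hc
  have hsub : (K : Set G).toFinset ⊆ (L.map F.ev).toFinset := by
    intro k hk
    obtain ⟨c, hc, rfl⟩ := hK k (Set.mem_toFinset.1 hk)
    exact List.mem_toFinset.2 (List.mem_map.2 ⟨c, hc, rfl⟩)
  have hcard : ((K : Set G).toFinset).card = Nat.card K := by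
    rw [← Set.ncard_eq_toFinset_card', ← Nat.card_coe_set_eq]; rfl
  have := Finset.eq_of_subset_of_card_le hsub (by
    rw [hcard]; exact le_trans (le_trans (List.toFinset_card_le _) (by rw [List.length_map])) hle)
  have hmem : F.ev c ∈ (L.map F.ev).toFinset := List.mem_toFinset.2 (List.mem_map.2 ⟨c, hc, rfl⟩)
  rw [← this] at hmem
  exact Set.mem_toFinset.1 hmem

variable (F)

theorem card_le_images {A : Subgroup G} (hA : A ≤ Subgroup.centralizer ({t} : Set G))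
    (I : List (Nat × Nat))
    (hI : ∀ a, Mdl.mem a = true → F.ev a ∈ A → (Mdl.gOf a, Mdl.hOf a) ∈ I) :
    Nat.card A ≤ I.length * Nat.card (A ⊓ F.over [(Mdl.mone, Mdl.mone)] Mdl.q_ok : Subgroup G) := by
  classical
  haveI := Fintype.ofFinite G
  have hc : ∀ x : A, ∃ a, Mdl.mem a = true ∧ F.ev a = (x : G) := fun x => (F.mem_iff _).1 (hA x.2)
  choose code hm hev using hc
  set f : A → Nat × Nat := fun x => (Mdl.gOf (code x), Mdl.hOf (code x)) with hf
  have h1 : ∀ i ∈ (Finset.univ : Finset A).image f, ((Finset.univ : Finset A).filter fun x => f x = i).card ≤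
      Nat.card (A ⊓ F.over [(Mdl.mone, Mdl.mone)] Mdl.q_ok : Subgroup G) := by
    intro i hi
    obtain ⟨x0, -, hx0⟩ := Finset.mem_image.1 hi
    rw [← Fintype.card_coe, ← Nat.card_eq_fintype_card]
    refine Nat.card_le_card_of_injective
      (fun x => ⟨((x0⁻¹ * x.1 : A) : G), (x0⁻¹ * x.1).2, ?_⟩) fun x y e => ?_
    · obtain ⟨c0, hc0, hec⟩ := (F.mem_iff _).1 (hA (x0⁻¹).2)
      refine ⟨Mdl.mulN c0 (code x.1), ?_, ?_⟩
      swap
      · rw [F.map_mul _ _ hc0 (hm _), hev, hec]; rfl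
      have e : Mdl.mulN c0 (code x0) = Mdl.one := by
        refine (F.eq_one_iff (Mdl.mem_mulN hc0 (hm _))).1 ?_
        rw [F.map_mul _ _ hc0 (hm _), hev, hec, Subgroup.coe_inv, inv_mul_cancel]
      have hx : f x.1 = f x0 := (Finset.mem_filter.1 x.2).2.trans hx0.symm
      simp only [hf] at hx
      obtain ⟨hxg, hxh⟩ := Prod.mk.injEq .. ▸ hx
      have eg := congrArg Mdl.gOf e
      have eh := congrArg Mdl.hOf e
      rw [(Mdl.mulN_fields _ _).2.2.1] at eg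
      rw [(Mdl.mulN_fields _ _).2.2.2] at eh
      rw [List.mem_singleton, (Mdl.mulN_fields _ _).2.2.1, (Mdl.mulN_fields _ _).2.2.2, hxg, hxh, eg, eh]
      rfl
    · exact Subtype.ext (mul_left_cancel (Subtype.ext (congrArg (fun z => (z.1 : G)) e) :
        x0⁻¹ * x.1 = x0⁻¹ * y.1))
  have h2 := Finset.card_le_mul_card_image (Finset.univ : Finset A) _ h1
  have h3 : ((Finset.univ : Finset A).image f).card ≤ I.length := by
    refine le_trans (Finset.card_le_card ?_) (List.toFinset_card_le I)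
    intro i hi
    obtain ⟨x, -, rfl⟩ := Finset.mem_image.1 hi
    exact List.mem_toFinset.2 (hI _ (hm x) (by rw [hev]; exact x.2))
  rw [Finset.card_univ, ← Nat.card_eq_fintype_card] at h2
  exact h2.trans (by rw [mul_comm]; exact Nat.mul_le_mul_right _ h3)

theorem not_all_in_q {A : Subgroup G} (hA : ∀ a ∈ A, a * a = 1) (hcard : Nat.card A = 64)
    (hle : A ≤ F.over [(Mdl.mone, Mdl.mone)] Mdl.q_ok) : False := by
  have hidx : (A.subgroupOf (F.over [(Mdl.mone, Mdl.mone)] Mdl.q_ok)).index = 2 := by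
    have h := Subgroup.card_mul_index (A.subgroupOf (F.over [(Mdl.mone, Mdl.mone)] Mdl.q_ok))
    rw [Nat.card_congr (Subgroup.subgroupOfEquivOfLe hle).toEquiv, hcard, F.card_over] at h
    simp only [List.length_singleton] at h
    omega
  have hq : ∀ a ∈ [Mdl.qx0, Mdl.qy0, Mdl.qx1, Mdl.qy1], Mdl.mem a = true ∧
      F.ev a ∈ F.over [(Mdl.mone, Mdl.mone)] Mdl.q_ok := by
    intro a ha
    have h := List.all_eq_true.1 Mdl.qBasic a ha
    simp only [Bool.and_eq_true, Nat.beq_eq] at h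
    exact ⟨h.1.1, a, by rw [h.1.2, h.2]; exact List.mem_singleton.2 rfl, rfl⟩
  obtain ⟨mx0, qx0⟩ := hq Mdl.qx0 (by simp)
  obtain ⟨my0, qy0⟩ := hq Mdl.qy0 (by simp)
  obtain ⟨mx1, qx1⟩ := hq Mdl.qx1 (by simp)
  obtain ⟨my1, qy1⟩ := hq Mdl.qy1 (by simp)
  have out : ∀ u v, u ∈ F.over [(Mdl.mone, Mdl.mone)] Mdl.q_ok →
      v ∈ F.over [(Mdl.mone, Mdl.mone)] Mdl.q_ok → (u * v ∈ A ↔ (u ∈ A ↔ v ∈ A)) := fun u v hu hv => by
    have h := Subgroup.mul_mem_iff_of_index_two hidx (a := ⟨u, hu⟩) (b := ⟨v, hv⟩)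
    simpa only [Subgroup.mem_subgroupOf, Subgroup.coe_mul] using h
  obtain ⟨-, n0, n1, s0, s1, c1, c2, c3, c4⟩ := Mdl.basic_chk
  have nc : ∀ a b, Mdl.mem a = true → Mdl.mem b = true → Mdl.commN a b = false →
      F.ev a ∈ A → F.ev b ∈ A → False := fun a b ha hb hab h1 h2 => by
    rw [(F.commN_iff ha hb).2 (comm_of_sq hA h1 h2)] at hab
    exact Bool.noConfusion hab
  have ns : ∀ a b, Mdl.mem a = true → Mdl.mem b = true →
      Mdl.mulN (Mdl.mulN a b) (Mdl.mulN a b) ≠ Mdl.one → F.ev a * F.ev b ∈ A → False :=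
    fun a b ha hb hab h1 => by
    have e := hA _ h1
    have hm := Mdl.mem_mulN ha hb
    rw [← F.map_mul a b ha hb, ← F.map_mul _ _ hm hm] at e
    exact hab ((F.eq_one_iff (Mdl.mem_mulN hm hm)).1 e)
  have pick : ∀ a b, Mdl.mem a = true → Mdl.mem b = true → F.ev a ∈ F.over [(Mdl.mone, Mdl.mone)] Mdl.q_ok →
      F.ev b ∈ F.over [(Mdl.mone, Mdl.mone)] Mdl.q_ok → Mdl.commN a b = false →
      Mdl.mulN (Mdl.mulN a b) (Mdl.mulN a b) ≠ Mdl.one →
      (F.ev a ∉ A ∧ F.ev b ∈ A) ∨ (F.ev b ∉ A ∧ F.ev a ∈ A) := by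
    intro a b ha hb qa qb hc hs
    by_cases h1 : F.ev a ∈ A
    · exact Or.inr ⟨fun h2 => nc a b ha hb hc h1 h2, h1⟩
    · by_cases h2 : F.ev b ∈ A
      · exact Or.inl ⟨h1, h2⟩
      · exact (ns a b ha hb hs ((out _ _ qa qb).2 ⟨fun h => absurd h h1, fun h => absurd h h2⟩)).elim
  have key : ∀ u v w, Mdl.mem u = true → Mdl.mem v = true → Mdl.mem w = true →
      F.ev u ∈ F.over [(Mdl.mone, Mdl.mone)] Mdl.q_ok → F.ev v ∈ F.over [(Mdl.mone, Mdl.mone)] Mdl.q_ok →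
      Mdl.commN (Mdl.mulN u v) w = false → F.ev u ∉ A → F.ev v ∉ A → F.ev w ∈ A → False := by
    intro u v w hu hv hw qu qv hc h1 h2 h3
    refine nc _ w (Mdl.mem_mulN hu hv) hw hc ?_ h3
    rw [F.map_mul u v hu hv]
    exact (out _ _ qu qv).2 ⟨fun h => absurd h h1, fun h => absurd h h2⟩
  rcases pick _ _ mx0 my0 qx0 qy0 n0 s0 with ⟨a1, a2⟩ | ⟨a1, a2⟩ <;>
    rcases pick _ _ mx1 my1 qx1 qy1 n1 s1 with ⟨b1, -⟩ | ⟨b1, -⟩
  · exact key _ _ _ mx0 mx1 my0 qx0 qx1 c1 a1 b1 a2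
  · exact key _ _ _ mx0 my1 my0 qx0 qy1 c2 a1 b1 a2
  · exact key _ _ _ my0 mx1 mx0 qy0 qx1 c3 a1 b1 a2
  · exact key _ _ _ my0 my1 mx0 qy0 qy1 c4 a1 b1 a2

theorem elem_eq {A : Subgroup G} (hle : A ≤ F.syl) (hA : ∀ a ∈ A, a * a = 1)
    (hcard : Nat.card A = 64) : A = F.w0 ∨ A = F.w3 := by
  classical
  have hC : A ≤ Subgroup.centralizer ({t} : Set G) := hle.trans F.syl_le
  have img : ∀ a, Mdl.mem a = true → F.ev a ∈ A →
      (Mdl.gOf a, Mdl.hOf a) = (Mdl.mone, Mdl.mone) ∨ (Mdl.gOf a, Mdl.hOf a) ∈ Mdl.eInv := by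
    intro a ha hm
    have hu := (F.ev_mem_over ha).1 (hle hm)
    have e := hA _ hm
    rw [← F.map_mul a a ha ha, F.eq_one_iff (Mdl.mem_mulN ha ha)] at e
    have eg := congrArg Mdl.gOf e
    rw [(Mdl.mulN_fields a a).2.2.1] at eg
    have h := List.all_eq_true.1 Mdl.inv_chk _ hu
    simp only [Bool.or_eq_true, beq_iff_eq, Bool.not_eq_true', List.contains_iff_mem] at h
    rcases h with (h | h) | h
    · exact Or.inl h
    · rw [Mdl.beq_of_eq (eg.trans (show Mdl.gOf Mdl.one = Mdl.mone from rfl))] at h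
      exact Bool.noConfusion h
    · exact Or.inr h
  set K : Subgroup G := A ⊓ F.over [(Mdl.mone, Mdl.mone)] Mdl.q_ok with hK
  have fixed : ∀ E : List (Nat × Nat),
      (∀ x ∈ E, ∃ a, Mdl.mem a = true ∧ F.ev a ∈ A ∧ (Mdl.gOf a, Mdl.hOf a) = x) →
      ∀ k ∈ K, ∃ c ∈ Mdl.fixOf E, F.ev c = k := by
    intro E hE k hk
    obtain ⟨q, hq, rfl⟩ := hk.2
    obtain ⟨e1, e2⟩ := Prod.ext_iff.1 (List.mem_singleton.1 hq)
    refine ⟨q, Mdl.mem_fixOf e1 e2 fun x hx => ?_, rfl⟩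
    obtain ⟨a, ha, haA, rfl⟩ := hE x hx
    exact Mdl.qFix_of_comm e1 e2 ((F.comm_iff (mem_of_pair Mdl.q_ok hq) ha).1 (comm_of_sq hA hk.1 haA))
  by_cases hx : ∃ a, Mdl.mem a = true ∧ F.ev a ∈ A ∧ (Mdl.gOf a, Mdl.hOf a) ≠ (Mdl.mone, Mdl.mone)
  swap
  · refine (F.not_all_in_q hA hcard fun g hg => ?_).elim
    obtain ⟨a, ha, rfl⟩ := (F.mem_iff g).1 (hC hg)
    refine ⟨a, List.mem_singleton.2 ?_, rfl⟩
    by_contra hne
    exact hx ⟨a, ha, hg, hne⟩
  obtain ⟨a, ha, haA, hane⟩ := hx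
  have hxI : (Mdl.gOf a, Mdl.hOf a) ∈ Mdl.eInv := (img a ha haA).resolve_left hane
  set x := (Mdl.gOf a, Mdl.hOf a) with hxdef
  by_cases hy : ∃ b, Mdl.mem b = true ∧ F.ev b ∈ A ∧
      (Mdl.gOf b, Mdl.hOf b) ≠ (Mdl.mone, Mdl.mone) ∧ (Mdl.gOf b, Mdl.hOf b) ≠ x
  swap
  · exfalso
    have h := F.card_le_images hC [(Mdl.mone, Mdl.mone), x] fun b hb hbA => by
      by_contra hne
      simp only [List.mem_cons, List.not_mem_nil, or_false, not_or] at hne
      exact hy ⟨b, hb, hbA, hne⟩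
    rw [hcard, ← hK] at h
    simp only [List.length_cons, List.length_nil] at h
    have h1 := List.all_eq_true.1 Mdl.single_chk x hxI
    simp only [Bool.and_eq_true, List.any_eq_true, Nat.ble_eq, Bool.not_eq_true'] at h1
    obtain ⟨h2, c, hc, d, hd, hcd⟩ := h1
    have hall := forall_mem_of_length_le (F := F) _
      (fixed [x] fun z hz => ⟨a, ha, haA, (List.mem_singleton.1 hz).symm⟩) (show _ ≤ Nat.card K by omega)
    rw [(F.commN_iff (Mdl.fixOf_mem hc) (Mdl.fixOf_mem hd)).2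
      (comm_of_sq hA (hall c hc).1 (hall d hd).1)] at hcd
    exact Bool.noConfusion hcd
  obtain ⟨b, hb, hbA, hbne, hbx⟩ := hy
  have hyI : (Mdl.gOf b, Mdl.hOf b) ∈ Mdl.eInv := (img b hb hbA).resolve_left hbne
  set y := (Mdl.gOf b, Mdl.hOf b) with hydef
  have gcomm : ∀ c d, Mdl.mem c = true → Mdl.mem d = true → F.ev c ∈ A → F.ev d ∈ A →
      Mdl.mmul (Mdl.gOf c) (Mdl.gOf d) = Mdl.mmul (Mdl.gOf d) (Mdl.gOf c) := by
    intro c d hc hd h1 h2
    have e := congrArg Mdl.gOf ((F.comm_iff hc hd).1 (comm_of_sq hA h1 h2))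
    rwa [(Mdl.mulN_fields c d).2.2.1, (Mdl.mulN_fields d c).2.2.1] at e
  have tri : ∀ c, Mdl.mem c = true → F.ev c ∈ A → (Mdl.gOf c, Mdl.hOf c) ≠ (Mdl.mone, Mdl.mone) →
      (x ∈ Mdl.e0Pairs ∧ y ∈ Mdl.e0Pairs ∧ (Mdl.gOf c, Mdl.hOf c) ∈ Mdl.e0Pairs ∧
        Mdl.fixOf [x, y] = Mdl.fixOf Mdl.e0Pairs) ∨
      (x ∈ Mdl.e3Pairs ∧ y ∈ Mdl.e3Pairs ∧ (Mdl.gOf c, Mdl.hOf c) ∈ Mdl.e3Pairs ∧
        Mdl.fixOf [x, y] = Mdl.fixOf Mdl.e3Pairs) := by
    intro c hc hcA hcne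
    have h := List.all_eq_true.1 (List.all_eq_true.1 (List.all_eq_true.1 Mdl.triple_chk x hxI) y hyI) _
      ((img c hc hcA).resolve_left hcne)
    simp only [Bool.or_eq_true, Bool.and_eq_true, beq_iff_eq, Bool.not_eq_true', List.contains_iff_mem,
      decide_eq_true_eq] at h
    rw [show Mdl.mmul x.1 y.1 = Mdl.mmul y.1 x.1 from gcomm a b ha hb haA hbA,
      show Mdl.mmul x.1 (Mdl.gOf c, Mdl.hOf c).1 = Mdl.mmul (Mdl.gOf c, Mdl.hOf c).1 x.1 from
        gcomm a c ha hc haA hcA,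
      show Mdl.mmul y.1 (Mdl.gOf c, Mdl.hOf c).1 = Mdl.mmul (Mdl.gOf c, Mdl.hOf c).1 y.1 from
        gcomm b c hb hc hbA hcA, Mdl.beq_of_eq rfl, Mdl.beq_of_eq rfl, Mdl.beq_of_eq rfl] at h
    rcases h with ((((h | h) | h) | h) | h) | h
    · exact absurd h (Ne.symm hbx)
    · exact Bool.noConfusion h
    · exact Bool.noConfusion h
    · exact Bool.noConfusion h
    · exact Or.inl ⟨h.1.1.1, h.1.1.2, h.1.2, h.2⟩
    · exact Or.inr ⟨h.1.1.1, h.1.1.2, h.1.2, h.2⟩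
  have finish : ∀ {H : Subgroup G} {P E : List (Nat × Nat)} {W : List Nat}, F.ElemData H P E W →
      Mdl.fibreOk E W = true → E.length = 4 → Mdl.fixOf [x, y] = Mdl.fixOf E →
      (∀ c, Mdl.mem c = true → F.ev c ∈ A → (Mdl.gOf c, Mdl.hOf c) ∈ E) → A = H := by
    intro H P E W d hfib hlen hfix hI
    simp only [Mdl.fibreOk, Bool.and_eq_true, decide_eq_true_eq] at hfib
    have h := F.card_le_images hC E hI
    rw [hcard, hlen, ← hK] at h
    have hall := forall_mem_of_length_le (F := F) (Mdl.fixOf E) (fun k hk => by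
      rw [← hfix]
      refine fixed [x, y] (fun z hz => ?_) k hk
      rcases List.mem_cons.1 hz with rfl | hz
      · exact ⟨a, ha, haA, rfl⟩
      · exact ⟨b, hb, hbA, (List.mem_singleton.1 hz).symm⟩) (show _ ≤ Nat.card K by
        rw [hfib.1]; have := List.length_take_le 16 W; omega)
    refine Subgroup.eq_of_le_of_card_ge (fun g hg => ?_) (le_of_eq (d.card.trans hcard.symm))
    obtain ⟨c, hc, rfl⟩ := (F.mem_iff g).1 (hC hg)
    have h' := List.all_eq_true.1 (List.all_eq_true.1 hfib.2 _ (hI c hc hg)) (c % 128)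
      (List.mem_range.2 (Nat.mod_lt _ (by decide)))
    rw [Mdl.atPair_self c] at h'
    simp only [Bool.or_eq_true, List.contains_iff_mem] at h'
    refine (d.ev_mem hc).2 (h'.resolve_left fun h0 => ?_)
    have hsq : Nat.beq (Mdl.mulN c c) Mdl.one = true := by
      refine Mdl.beq_of_eq ((F.eq_one_iff (Mdl.mem_mulN hc hc)).1 ?_)
      rw [F.map_mul c c hc hc]; exact hA _ hg
    have hcm : ((W.take 16).all fun f => Mdl.commN c f) = true := List.all_eq_true.2 fun f hf => by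
      rw [← hfib.1] at hf
      exact (F.commN_iff hc (Mdl.fixOf_mem hf)).2 (comm_of_sq hA hg (hall f hf).1)
    rw [hsq, hcm] at h0
    exact Bool.noConfusion h0
  rcases tri a ha haA hane with ⟨x0, y0, -, hf⟩ | ⟨x3, y3, -, hf⟩
  · refine Or.inl (finish F.w0_data Mdl.fibre0 Mdl.eInv_mone.2.2.1 hf fun c hc hcA => ?_)
    by_cases hne : (Mdl.gOf c, Mdl.hOf c) = (Mdl.mone, Mdl.mone)
    · rw [hne]; exact Mdl.eInv_mone.1
    rcases tri c hc hcA hne with ⟨-, -, h, -⟩ | ⟨x3, y3, -, -⟩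
    · exact h
    · exact absurd (Mdl.both_chk x hxI y hyI x0 y0 x3 y3) (Ne.symm hbx)
  · refine Or.inr (finish F.w3_data Mdl.fibre3 Mdl.eInv_mone.2.2.2 hf fun c hc hcA => ?_)
    by_cases hne : (Mdl.gOf c, Mdl.hOf c) = (Mdl.mone, Mdl.mone)
    · rw [hne]; exact Mdl.eInv_mone.2.1
    rcases tri c hc hcA hne with ⟨x0, y0, -, -⟩ | ⟨-, -, h, -⟩
    · exact absurd (Mdl.both_chk x hxI y hyI x0 y0 x3 y3) (Ne.symm hbx)
    · exact h

end Frame

end CfsgLib.HeldUniq
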