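import Cfsg.Agent.HeldUniq.FusionWeak
import Mathlib.Algebra.Group.Conj

/-!
Which kinds of involutions of `2^(1+6):L3(2)` can be conjugate to the central one.
-/

set_option autoImplicit false
set_option linter.unusedSectionVars false
set_option maxRecDepth 10000

namespace CfsgLib.HeldUniq

namespace Mdl

/-- The members of a list of orbits. -/
def members (orb : List (List (Nat × Nat))) : List Nat := orb.flatMap fun o => o.map Prod.fst

theorem orb_facts {P : List (Nat × Nat)} {W : List Nat} {orb : List (List (Nat × Nat))}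
    (h : orbOk P W orb = true) :
    (members orb).Nodup ∧ (∀ a ∈ W, a = one ∨ a ∈ members orb) ∧
      (∀ a ∈ members orb, a ∈ W ∧ a ≠ one) ∧
      ∀ o ∈ orb, ∀ y ∈ o, mem y.2 = true ∧ (gOf y.2, hOf y.2) ∈ P ∧
        mulN y.2 (o.headD (0, 0)).1 = mulN y.1 y.2 := by
  simp only [orbOk, Bool.and_eq_true, decide_eq_true_eq] at h
  obtain ⟨⟨⟨h1, h2⟩, h3⟩, h4⟩ := h
  refine ⟨h1, fun a ha => ?_, fun a ha => ?_, fun o ho y hy => ?_⟩
  · have := List.all_eq_true.1 h2 a ha
    rw [Bool.or_eq_true, Nat.beq_eq, List.contains_iff_mem] at this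
    exact this
  · have := List.all_eq_true.1 h3 a ha
    simp only [Bool.and_eq_true, List.contains_iff_mem, Bool.not_eq_true'] at this
    exact ⟨this.1, fun e => by rw [beq_of_eq e] at this; exact Bool.noConfusion this.2⟩
  · have := List.all_eq_true.1 (List.all_eq_true.1 h4 o ho) y hy
    simp only [Bool.and_eq_true, List.contains_iff_mem, Nat.beq_eq] at this
    exact ⟨this.1.1, this.1.2, this.2⟩

theorem reps0 : (orb0.map fun o => ((o.headD (0, 0)).1, o.length)) =
    [(17926336, 1), (17926276, 2), (17926280, 6), (17926284, 6), (18188928, 12), (18188940, 12),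
      (18188944, 24)] := by decide

theorem reps3 : (orb3.map fun o => ((o.headD (0, 0)).1, o.length)) =
    [(17926336, 1), (17926280, 2), (17926274, 6), (17926282, 6), (18057600, 12), (18057610, 12),
      (18057604, 24)] := by decide

end Mdl

namespace Frame

variable {G : Type*} [Group G] {t : G} (F : Frame t) [Finite G]

/-- The number of square roots of `p` commuting with `q`. -/
noncomputable def rootNum (p q : G) : ℕ := Nat.card {r : G // r * r = p ∧ r * q = q * r}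

theorem rootNum_conj (k p q : G) : rootNum (k * p * k⁻¹) (k * q * k⁻¹) = rootNum p q := by
  refine (Nat.card_congr ((MulAut.conj k).toEquiv.subtypeEquiv fun r => ?_)).symm
  show r * r = p ∧ r * q = q * r ↔
    k * r * k⁻¹ * (k * r * k⁻¹) = k * p * k⁻¹ ∧
      k * r * k⁻¹ * (k * q * k⁻¹) = k * q * k⁻¹ * (k * r * k⁻¹)
  rw [show k * r * k⁻¹ * (k * r * k⁻¹) = k * (r * r) * k⁻¹ by group,
    show k * r * k⁻¹ * (k * q * k⁻¹) = k * (r * q) * k⁻¹ by group,
    show k * q * k⁻¹ * (k * r * k⁻¹) = k * (q * r) * k⁻¹ by group]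
  simp only [mul_left_inj, mul_right_inj]

theorem rootNum_ev {y : Nat} (hy : Mdl.mem y = true) :
    rootNum (F.ev y) t = (Mdl.rootsOf y).length := by
  have hlt : ∀ x ∈ Mdl.sqPairs y, x.1 < 512 := fun x hx =>
    (Mdl.pair_facts (List.mem_filter.1 hx).1).2.2.1
  have hm : ∀ a ∈ Mdl.rootsOf y, Mdl.mem a = true := fun a ha => (Mdl.mem_iff_pair a).2
    (List.mem_filter.1 ((Mdl.mem_codesOf hlt a).1 (List.mem_filter.1 ha).1)).1
  refine F.card_of_codes (X := {r : G | r * r = F.ev y ∧ r * t = t * r}) _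
    ((Mdl.nodup_codesOf hlt (Mdl.sl_nodup.filter _)).filter _) hm fun r => ⟨?_, ?_⟩
  · rintro ⟨hr, hc⟩
    obtain ⟨a, ha, rfl⟩ := F.exists_code hc
    rw [← F.map_mul a a ha ha] at hr
    have e := F.inj _ _ (Mdl.mem_mulN ha ha) hy hr
    have eg := congrArg Mdl.gOf e
    rw [(Mdl.mulN_fields a a).2.2.1] at eg
    refine ⟨a, List.mem_filter.2 ⟨(Mdl.mem_codesOf hlt a).2 (List.mem_filter.2
      ⟨(Mdl.mem_iff_pair a).1 ha, Mdl.beq_of_eq eg⟩), Mdl.beq_of_eq e⟩, rfl⟩
  · rintro ⟨a, ha, rfl⟩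
    refine ⟨?_, F.mem_cent (hm a ha)⟩
    rw [← F.map_mul a a (hm a ha) (hm a ha), Nat.eq_of_beq_eq_true (List.mem_filter.1 ha).2]

theorem rootNum_t {y : Nat} (hy : Mdl.mem y = true) :
    rootNum t (F.ev y) = (Mdl.rootsT.filter fun r => Mdl.commN r y).length := by
  obtain ⟨h1, h2, h3⟩ := Mdl.rootsT_chk
  have hT : ∀ a ∈ Mdl.rootsT, Mdl.mem a = true ∧ Mdl.mulN a a = Mdl.tN := fun a ha => by
    have := List.all_eq_true.1 h2 a ha
    rw [Bool.and_eq_true, Nat.beq_eq] at this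
    exact this
  refine F.card_of_codes (X := {r : G | r * r = t ∧ r * F.ev y = F.ev y * r}) _ (h3.filter _)
    (fun a ha => (hT a (List.mem_filter.1 ha).1).1) fun r => ⟨?_, ?_⟩
  · rintro ⟨hr, hc⟩
    obtain ⟨a, ha, rfl⟩ := F.exists_code (g := r) (by rw [← hr, mul_assoc])
    have e := hr
    rw [← F.map_mul a a ha ha, F.eq_t_iff (Mdl.mem_mulN ha ha)] at e
    refine ⟨a, List.mem_filter.2 ⟨?_, (F.commN_iff ha hy).2 hc⟩, rfl⟩
    have hlt : ∀ x ∈ Mdl.sqPairs Mdl.tN, x.1 < 512 := fun x hx =>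
      (Mdl.pair_facts (List.mem_filter.1 hx).1).2.2.1
    have eg := congrArg Mdl.gOf e
    rw [(Mdl.mulN_fields a a).2.2.1] at eg
    exact List.contains_iff_mem.1 (List.all_eq_true.1 h1 a (List.mem_filter.2
      ⟨(Mdl.mem_codesOf hlt a).2 (List.mem_filter.2 ⟨(Mdl.mem_iff_pair a).1 ha, Mdl.beq_of_eq eg⟩),
        Mdl.beq_of_eq e⟩))
  · rintro ⟨a, ha, rfl⟩
    obtain ⟨hm, hs⟩ := hT a (List.mem_filter.1 ha).1
    refine ⟨?_, (F.commN_iff hm hy).1 (List.mem_filter.1 ha).2⟩
    rw [← F.map_mul a a hm hm, hs, F.ev_t]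

theorem isConj_member {P : List (Nat × Nat)} {W : List Nat} {orb : List (List (Nat × Nat))}
    {H : Subgroup G} {E : List (Nat × Nat)} (d : F.ElemData H P E W) (ho : Mdl.orbOk P W orb = true)
    {o : List (Nat × Nat)} (h : o ∈ orb) {y : Nat × Nat} (hy : y ∈ o) :
    ∃ c, c * t = t * c ∧ c * F.ev (o.headD (0, 0)).1 * c⁻¹ = F.ev y.1 := by
  obtain ⟨-, -, hW, hc⟩ := Mdl.orb_facts ho
  obtain ⟨hm, -, he⟩ := hc o h y hy
  have hyW : y.1 ∈ W := (hW y.1 (List.mem_flatMap.2 ⟨o, h, List.mem_map.2 ⟨y, hy, rfl⟩⟩)).1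
  have hrW : (o.headD (0, 0)).1 ∈ W := by
    refine (hW _ (List.mem_flatMap.2 ⟨o, h, List.mem_map.2 ⟨o.headD (0, 0), ?_, rfl⟩⟩)).1
    cases o with
    | nil => simp at hy
    | cons z l => simp
  exact ⟨F.ev y.2, F.mem_cent hm, F.conj_of hm (d.mem_code hrW) (d.mem_code hyW) he⟩

variable (hG : Nat.card G = 4030387200)

include hG in
theorem swap {y : G} (hy : y ∈ F.w0) (hc : IsConj t y) :
    ∃ z ∈ [17926336, 17926276, 17926280, 17926284, 18188928, 18188940, 18188944],
      Mdl.mem z = true ∧ rootNum y t = rootNum t (F.ev z) ∧ rootNum t y = rootNum (F.ev z) t := by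
  obtain ⟨g, hg⟩ := isConj_iff.1 hc
  obtain ⟨n, hn, he⟩ := F.control hG (Or.inl rfl) F.w0_data.t_mem hy hg
  have h1 : n⁻¹ * t * n ∈ F.w0 := (Subgroup.mem_normalizer_iff''.1 hn t).1 F.w0_data.t_mem
  have hne : n⁻¹ * t * n ≠ 1 := fun e => F.t_ne_one (by
    calc t = n * (n⁻¹ * t * n) * n⁻¹ := by group
      _ = 1 := by rw [e]; group)
  obtain ⟨a, ha, ea⟩ := (F.w0_data.mem_iff _).1 h1
  obtain ⟨-, hcov, -, -⟩ := Mdl.orb_facts Mdl.orb0_ok
  rcases hcov a ha with rfl | hmem
  · exact absurd (ea.symm.trans F.ev_one) hne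
  obtain ⟨o, ho, hao⟩ := List.mem_flatMap.1 hmem
  obtain ⟨p, hp, rfl⟩ := List.mem_map.1 hao
  obtain ⟨c, hc, hce⟩ := F.isConj_member F.w0_data Mdl.orb0_ok ho hp
  have hz : (o.headD (0, 0)).1 ∈ [17926336, 17926276, 17926280, 17926284, 18188928, 18188940, 18188944] := by
    have h := List.mem_map_of_mem (f := fun o => ((o.headD (0, 0)).1, o.length)) ho
    rw [Mdl.reps0] at h
    have h' := List.mem_map_of_mem (f := Prod.fst) h
    simpa using h'
  have hzm : Mdl.mem (o.headD (0, 0)).1 = true := by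
    have : ([17926336, 17926276, 17926280, 17926284, 18188928, 18188940, 18188944].all Mdl.mem) = true := by
      decide +kernel
    exact List.all_eq_true.1 this _ hz
  have hct : c * t * c⁻¹ = t := by rw [hc, mul_inv_cancel_right]
  have e1 : n⁻¹ * y * n = t := by rw [← he]; group
  refine ⟨_, hz, hzm, ?_, ?_⟩
  · have h3 := rootNum_conj c t (F.ev (o.headD (0, 0)).1)
    rw [hct, hce] at h3
    rw [← rootNum_conj n⁻¹ y t, inv_inv, e1, ← ea, h3]
  · have h3 := rootNum_conj c (F.ev (o.headD (0, 0)).1) t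
    rw [hct, hce] at h3
    rw [← rootNum_conj n⁻¹ t y, inv_inv, e1, ← ea, h3]

include hG in
theorem not_conj_m : ¬ IsConj t (F.ev 17926284) := by
  intro h
  have hm : Mdl.mem 17926284 = true := by decide +kernel
  obtain ⟨z, hz, hzm, e1, e2⟩ := F.swap hG ((F.w0_data.ev_mem hm).2 (by decide)) h
  rw [F.rootNum_ev hm, Mdl.rootsM.1, F.rootNum_t hzm] at e1
  rw [F.rootNum_t hm, Mdl.rootsM.2, F.rootNum_ev hzm] at e2
  have ht := Mdl.commT
  simp only [List.all_eq_true, Bool.not_eq_true'] at ht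
  have no : ∀ y ∈ [17926336, 17926276, 17926280, 17926284, 18188944], z = y → False := fun y hy hzy => by
    subst hzy
    have := ht z hy
    rw [Mdl.beq_of_eq e1.symm] at this
    exact Bool.noConfusion this
  simp only [List.mem_cons, List.not_mem_nil, or_false] at hz
  rcases hz with rfl | rfl | rfl | rfl | rfl | rfl | rfl
  · exact no _ (by simp) rfl
  · exact no _ (by simp) rfl
  · exact no _ (by simp) rfl
  · exact no _ (by simp) rfl
  · rw [Mdl.rootsA] at e2; omega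
  · rw [Mdl.rootsZ] at e2; omega
  · exact no _ (by simp) rfl

include hG in
theorem not_conj_z : ¬ IsConj t (F.ev 18188940) := by
  intro h
  have hm : Mdl.mem 18188940 = true := by decide +kernel
  obtain ⟨z, hz, hzm, e1, -⟩ := F.swap hG ((F.w0_data.ev_mem hm).2 (by decide)) h
  rw [F.rootNum_ev hm, Mdl.rootsZ, F.rootNum_t hzm, eq_comm, List.length_eq_zero_iff,
    List.filter_eq_nil_iff] at e1
  obtain ⟨r, hr, hc⟩ := List.any_eq_true.1 (List.all_eq_true.1 Mdl.witness_chk z hz)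
  exact e1 r hr hc

end Frame

end CfsgLib.HeldUniq
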