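import Cfsg.Agent.HeldUniq.FusionBasic
import Mathlib.Tactic.Group

/-!
The automorphism of the model exchanging the two normal elementary abelian subgroups of order 16,
and the frames obtained with it.
-/

set_option autoImplicit false
set_option linter.unusedSectionVars false
set_option maxRecDepth 100000

namespace CfsgLib.HeldUniq

namespace Mdl

/-- The transpose. -/
def trN (g : Nat) : Nat :=
  (bit g 0 + 2 * bit g 3 + 4 * bit g 6) + 8 * (bit g 1 + 2 * bit g 4 + 4 * bit g 7) +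
    64 * (bit g 2 + 2 * bit g 5 + 4 * bit g 8)

/-- The exchange automorphism. -/
def mir (a : Nat) : Nat :=
  mk (pOf a) (vOf a) (Nat.xor (cOf a) (dot (pOf a) (vOf a))) (trN (hOf a)) (trN (gOf a))

theorem trN_lt : ∀ g < 512, trN g < 512 ∧ trN (trN g) = g ∧
    (∀ q < 8, rapp q g = app (trN g) q) := by decide +kernel

theorem tr_mmul : (slPairs.all fun x => slPairs.all fun y =>
    Nat.beq (trN (mmul x.1 y.1)) (mmul (trN y.1) (trN x.1)) &&
      Nat.beq (trN (mmul y.2 x.2)) (mmul (trN x.2) (trN y.2))) = true := by decide +kernel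

theorem dot_act : (slPairs.all fun x => (List.range 8).all fun q => (List.range 8).all fun w =>
    Nat.beq (dot (rapp q x.2) (app x.1 w)) (dot q w)) = true := by decide +kernel

theorem dot_symm : ∀ p < 8, ∀ v < 8, dot p v = dot v p := by decide +kernel

theorem dot_add : ∀ a < 8, ∀ b < 8, ∀ v < 8,
    dot (Nat.xor a b) v = Nat.xor (dot a v) (dot b v) ∧
      dot v (Nat.xor a b) = Nat.xor (dot v a) (dot v b) := by decide +kernel

theorem bit_rearrange : ∀ c < 2, ∀ d < 2, ∀ e < 2, ∀ x < 2, ∀ y < 2, ∀ z < 2,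
    Nat.xor (Nat.xor (Nat.xor c d) e) (Nat.xor (Nat.xor x e) (Nat.xor y z)) =
      Nat.xor (Nat.xor (Nat.xor c x) (Nat.xor d z)) y := by decide +kernel

theorem mir_mir_fields {v p c g h : Nat} (hv : v < 8) (hp : p < 8) (hc : c < 2) (hg : g < 512)
    (hh : h < 512) : mir (mir (mk v p c g h)) = mk v p c g h := by
  obtain ⟨a1, a2, a3, a4, a5⟩ := mk_fields (h := h) hv hp hc hg
  obtain ⟨b1, b2, b3, b4, b5⟩ := mk_fields (h := trN g) hp hv (xor_lt2 hc (dot_lt p v))
    (trN_lt h hh).1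
  simp only [mir, a1, a2, a3, a4, a5, b1, b2, b3, b4, b5, (trN_lt g hg).2.1, (trN_lt h hh).2.1]
  have key : ∀ c < 2, ∀ e < 2, Nat.xor (Nat.xor c e) e = c := by decide
  rw [dot_symm v hv p hp, key c hc _ (dot_lt p v)]

theorem mir_fields {a : Nat} (ha : mem a = true) :
    vOf (mir a) = pOf a ∧ pOf (mir a) = vOf a ∧
      cOf (mir a) = Nat.xor (cOf a) (dot (pOf a) (vOf a)) ∧ gOf (mir a) = trN (hOf a) ∧
      hOf (mir a) = trN (gOf a) := by
  obtain ⟨hv, hp, hc, -⟩ := fields_lt a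
  have hh := (pair_facts ((mem_iff_pair a).1 ha)).2.2.2.1
  exact mk_fields hp hv (xor_lt2 hc (dot_lt _ _)) (trN_lt _ hh).1

theorem mem_mir {a : Nat} (ha : mem a = true) : mem (mir a) = true := by
  have hx := (mem_iff_pair a).1 ha
  obtain ⟨-, -, -, m4, m5⟩ := mir_fields ha
  rw [mem_iff_pair, m4, m5]
  have key : (slPairs.all fun x => slPairs.contains (trN x.2, trN x.1)) = true := by decide +kernel
  exact List.contains_iff_mem.1 (List.all_eq_true.1 key _ hx)

theorem mir_mir {a : Nat} (ha : mem a = true) : mir (mir a) = a := by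
  obtain ⟨hv, hp, hc, hg⟩ := fields_lt a
  rw [eq_mk a]
  exact mir_mir_fields hv hp hc hg (pair_facts ((mem_iff_pair a).1 ha)).2.2.2.1

theorem mir_mulN {a b : Nat} (ha : mem a = true) (hb : mem b = true) :
    mir (mulN a b) = mulN (mir a) (mir b) := by
  have hxa := (mem_iff_pair a).1 ha
  have hxb := (mem_iff_pair b).1 hb
  obtain ⟨-, -, hga, hha, -⟩ := pair_facts hxa
  obtain ⟨hva, hpa, hca, -⟩ := fields_lt a
  obtain ⟨hvb, hpb, hcb, -⟩ := fields_lt b
  obtain ⟨a1, a2, a3, a4, a5⟩ := mir_fields ha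
  obtain ⟨b1, b2, b3, b4, b5⟩ := mir_fields hb
  obtain ⟨m1, m2, m3, m4, m5⟩ := mk_fields (h := mmul (hOf b) (hOf a))
    (xor_lt8 hva (app_lt (gOf a) (vOf b))) (xor_lt8 hpa (rapp_lt (pOf b) (hOf a)))
    (xor_lt2 (xor_lt2 hca hcb) (dot_lt (pOf a) (app (gOf a) (vOf b))))
    (mmul_lt (gOf a) (gOf b))
  have hm := List.all_eq_true.1 (List.all_eq_true.1 tr_mmul _ hxa) _ hxb
  simp only [Bool.and_eq_true, Nat.beq_eq] at hm
  have hd : ∀ q < 8, ∀ w < 8, dot (rapp q (hOf a)) (app (gOf a) w) = dot q w := fun q hq w hw =>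
    Nat.eq_of_beq_eq_true (List.all_eq_true.1 (List.all_eq_true.1
      (List.all_eq_true.1 dot_act _ hxa) q (List.mem_range.2 hq)) w (List.mem_range.2 hw))
  have e1 : app (trN (hOf a)) (pOf b) = rapp (pOf b) (hOf a) := ((trN_lt _ hha).2.2 _ hpb).symm
  have e2 : rapp (vOf b) (trN (gOf a)) = app (gOf a) (vOf b) := by
    rw [(trN_lt _ (trN_lt _ hga).1).2.2 _ hvb, (trN_lt _ hga).2.1]
  have hG := app_lt (gOf a) (vOf b)
  have hR := rapp_lt (pOf b) (hOf a)
  show mk (pOf (mulN a b)) (vOf (mulN a b))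
      (Nat.xor (cOf (mulN a b)) (dot (pOf (mulN a b)) (vOf (mulN a b))))
      (trN (hOf (mulN a b))) (trN (gOf (mulN a b))) = _
  rw [show mulN a b = mk _ _ _ _ _ from rfl, m1, m2, m3, m4, m5]
  show _ = mk _ _ _ _ _
  rw [a1, a2, a3, a4, a5, b1, b2, b3, b4, b5, e1, e2, hm.1, hm.2]
  congr 1
  rw [(dot_add _ hpa _ hR _ (xor_lt8 hva hG)).1, (dot_add _ hva _ hG _ hpa).2,
    (dot_add _ hva _ hG _ hR).2, hd _ hpb _ hvb,
    bit_rearrange _ hca _ hcb _ (dot_lt _ _) _ (dot_lt _ _) _ (dot_lt _ _) _ (dot_lt _ _),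
    dot_symm _ hva _ hR]

theorem mir_tN : mir tN = tN := by decide +kernel

end Mdl

variable {G : Type*} [Group G] {t : G}

/-- The frame with the two elementary subgroups exchanged, twisted by an element of the centraliser. -/
def Frame.mirror (F : Frame t) (n : Nat) (hn : Mdl.mem n = true) : Frame t where
  ev a := F.ev n * F.ev (Mdl.mir a) * (F.ev n)⁻¹
  map_mul a b ha hb := by
    rw [Mdl.mir_mulN ha hb, F.map_mul _ _ (Mdl.mem_mir ha) (Mdl.mem_mir hb)]
    group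
  inj a b ha hb h := by
    have h' := F.inj _ _ (Mdl.mem_mir ha) (Mdl.mem_mir hb) (mul_left_cancel (mul_right_cancel h))
    rw [← Mdl.mir_mir ha, h', Mdl.mir_mir hb]
  mem_iff g := by
    constructor
    · intro hg
      have hn' : F.ev n ∈ Subgroup.centralizer ({t} : Set G) := (F.mem_iff _).2 ⟨n, hn, rfl⟩
      obtain ⟨a, ha, e⟩ := (F.mem_iff _).1
        (Subgroup.mul_mem _ (Subgroup.mul_mem _ (Subgroup.inv_mem _ hn') hg) hn')
      exact ⟨Mdl.mir a, Mdl.mem_mir ha, by rw [Mdl.mir_mir ha, e]; group⟩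
    · rintro ⟨a, ha, rfl⟩
      have hn' : F.ev n ∈ Subgroup.centralizer ({t} : Set G) := (F.mem_iff _).2 ⟨n, hn, rfl⟩
      exact Subgroup.mul_mem _ (Subgroup.mul_mem _ hn' ((F.mem_iff _).2 ⟨_, Mdl.mem_mir ha, rfl⟩))
        (Subgroup.inv_mem _ hn')
  ev_t := by
    rw [Mdl.mir_tN, F.ev_t, F.mem_cent hn, mul_inv_cancel_right]

theorem Frame.mirror_ev (F : Frame t) (n : Nat) (hn : Mdl.mem n = true) {a b : Nat}
    (h : (Mdl.mem a && Mdl.mem b &&
      Nat.beq (Mdl.mulN n (Mdl.mir a)) (Mdl.mulN b n)) = true) :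
    (F.mirror n hn).ev a = F.ev b := by
  simp only [Bool.and_eq_true, Nat.beq_eq] at h
  exact F.conj_of hn (Mdl.mem_mir h.1.1) h.1.2 h.2

end CfsgLib.HeldUniq
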