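import Cfsg.Agent.HeldUniq.TrioData
import Cfsg.Agent.HeldUniq.Mirror
import Cfsg.Agent.HeldUniq.FusionChecksW
import Cfsg.Agent.HeldUniq.ActChecks

/-!
Kernel checks for the case of two actions of the third kind: permutations of the elementary subgroup
of order 64 and the possible lifts of two of them.
-/

set_option autoImplicit false
set_option linter.unusedSectionVars false
set_option maxRecDepth 100000

namespace CfsgLib.HeldUniq.Mdl

/-- The member with given index. -/
def wAt (j : Nat) : Nat := w0List.getD j one

/-- Composite of permutations given by lists. -/
def cmpP (a b : List Nat) : List Nat := b.map fun j => a.getD j 0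

/-- The identity permutation. -/
def idP : List Nat := List.range 64

/-- The permutation induced by a word in the generators. -/
def permW : List Nat → List Nat
  | [] => idP
  | i :: w => cmpP (trioPerms.getD i []) (permW w)

/-- The permutation induced by a word in the two chosen elements. -/
def permAB : List Nat → List Nat
  | [] => idP
  | i :: w => cmpP ([permA, permB].getD i []) (permAB w)

/-- A permutation of the 64 indices. -/
def okP (p : List Nat) : Bool := p.length == 64 && p.all fun j => Nat.blt j 64

/-- The code induces the permutation. -/
def actsAs (c : Nat) (p : List Nat) : Bool :=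
  (List.range 64).all fun j => Nat.beq (mulN c (wAt j)) (mulN (wAt (p.getD j 0)) c)

/-- The permutation commutes with or inverts that of the element of order three. -/
def signOk (p : List Nat) : Bool :=
  cmpP p permU == cmpP permU p || cmpP p permU == cmpP (cmpP permU permU) p

/-- The possible lifts of a permutation in the centraliser. -/
def candOf (p : List Nat) : List Nat :=
  (codesOf p0Pairs).filter fun c => actsAs c p

/-- The image of a code under a table of words and images of the generators. -/
def imageBy (tb : List (Nat × List Nat)) (img : List Nat) (q : Nat) : Option Nat :=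
  (tb.find? fun e => Nat.beq e.1 q).map fun e => evalW img e.2

/-- The mirror composed with the chosen conjugation sends `a` to `b`. -/
def muTo (a b : Nat) : Bool :=
  mem a && mem b && Nat.beq (mulN muConj (mir a)) (mulN b muConj)

/-- The inverse of the mirror composed with the conjugation. -/
def muInv (e : Nat) : Nat := mir (mulN (mulN (invN muConj) e) muConj)

/-- The mirror composed with the conjugation. -/
def muMap (a : Nat) : Nat := conjN muConj (mir a)

/-- The condition from the action of the first exchanging involution. -/
def consTwo (a b : Nat) : Bool :=
  w0List.any fun w => domainTwo.all fun q =>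
    match imageBy tableTwo (actTable.getD 3 []) (evalW [a, b] q.1) with
    | some r => Nat.beq (mulN w (evalW [a, b] q.2)) (mulN r w)
    | none => true

/-- The condition from the action of the second exchanging involution. -/
def consOne (a b : Nat) : Bool :=
  w0List.any fun w => domainOne.all fun q =>
    match imageBy tableOne (actTable.getD 3 []) (muInv (evalW [a, b] q.1)) with
    | some r => Nat.beq (mulN w (evalW [a, b] q.2)) (mulN (muMap r) w)
    | none => true

/-- Conjugate to one of the two chosen involutions. -/
def isE (e : Nat) : Bool :=
  eWitness.any fun x => Nat.beq x.1 e && mem x.2.1 && mem e &&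
    (Nat.beq x.2.2 (mk 1 0 0 mone mone) || Nat.beq x.2.2 (mk 0 1 0 mone mone)) &&
    Nat.beq (mulN x.2.1 x.2.2) (mulN e x.2.1)

theorem trio_letters : (trioPerms.all okP && trioPerms.length == 9 &&
    (trioNorm.length == 7) &&
    ((List.range 7).all fun i => (p0Pairs.contains (gOf (trioNorm.getD i one), hOf (trioNorm.getD i one))) &&
      mem (trioNorm.getD i one) && actsAs (trioNorm.getD i one) (trioPerms.getD i [])) &&
    ((List.range 64).all fun j =>
      Nat.beq ((w0Images.getD 3 []).getD j one) (wAt ((trioPerms.getD 7 []).getD j 0))) &&
    ((List.range 64).all fun j =>
      ((preW0.getD j (0, [])).2.all fun i => Nat.blt i 3) &&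
      Nat.beq (evalW dGens (preW0.getD j (0, [])).2) (preW0.getD j (0, [])).1 &&
      muTo (preW0.getD j (0, [])).1 (wAt j) &&
      muTo (evalW (actTable.getD 3 []) (preW0.getD j (0, [])).2)
        (wAt ((trioPerms.getD 8 []).getD j 0)))) = true := by decide +kernel

theorem w0_at : (Nat.beq (wAt 0) one && Nat.beq (wAt 8) tN) = true := by decide +kernel

theorem permU_chk : (permW wordU == permU && cmpP permU (cmpP permU permU) == idP &&
    ((List.range 64).all fun j => Nat.beq j 0 || !Nat.beq (permU.getD j 0) j) &&
    trioPerms.all signOk && signOk permU) = true := by decide +kernel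

theorem perm_words : (permW wordA == permA && permW wordB == permB && permW wordY == permY &&
    permW wordI == permI && permW wordJ == permJ && permW wordG == permG) = true := by decide +kernel

theorem perm_rels : (cmpP permA permA == idP &&
    cmpP permB (cmpP permB (cmpP permB (cmpP permB (cmpP permB permB)))) == idP &&
    permAB relL == permAB relR &&
    cmpP permY (cmpP permY (cmpP permY (cmpP permY (cmpP permY (cmpP permY permY))))) == idP &&
    !(permY == idP) && !(permU == idP) &&
    cmpP permU permY == cmpP permY permU && cmpP permI permY == cmpP permY permI &&
    cmpP permI (cmpP permU permI) == cmpP permU permU && cmpP permI permI == idP &&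
    cmpP permJ permJ == idP && cmpP permJ permU == cmpP permU permJ &&
    cmpP permG permU == cmpP permU permG && cmpP permG permG == idP &&
    !(cmpP permG (cmpP permJ permG) == permJ) &&
    cmpP permJ (cmpP permG (cmpP permJ permG)) == cmpP (cmpP permG (cmpP permJ permG)) permJ &&
    permAB wordIab == permI && permAB wordJab == permJ &&
    permA.getD 8 0 == 8 && permB.getD 8 0 == 8 &&
    (domainTwo.all fun q => cmpP (trioPerms.getD 7 []) (permAB q.1) ==
      cmpP (permAB q.2) (trioPerms.getD 7 [])) &&
    (domainOne.all fun q => cmpP (trioPerms.getD 8 []) (permAB q.1) ==
      cmpP (permAB q.2) (trioPerms.getD 8 []))) = true := by decide +kernel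

theorem words_ab : (((relL :: relR :: wordIab :: wordJab :: domainTwo.map Prod.fst) ++ domainTwo.map Prod.snd ++
    domainOne.map Prod.fst ++ domainOne.map Prod.snd).all fun w => w.all fun i => Nat.blt i 2) = true := by
  decide +kernel

theorem tables_ok : ((tableTwo.all fun e => (e.2.all fun i => Nat.blt i 3) &&
      Nat.beq (evalW dGens e.2) e.1) &&
    (tableOne.all fun e => (e.2.all fun i => Nat.blt i 3) &&
      Nat.beq (evalW dGens e.2) e.1)) = true := by decide +kernel

theorem trivial_act : ((codesOf p0Pairs).all fun c => !actsAs c idP || w0List.contains c) = true := by
  decide +kernel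

theorem complements : ((candOf permA).all fun a => (candOf permB).all fun b =>
    !(Nat.beq (mulN a a) one && Nat.beq (mulN b (mulN b (mulN b (mulN b (mulN b b))))) one &&
      Nat.beq (evalW [a, b] relL) (evalW [a, b] relR) && consTwo a b && consOne a b) ||
    (isE (evalW [a, b] wordIab) && isE (evalW [a, b] wordJab))) = true := by decide +kernel

end CfsgLib.HeldUniq.Mdl
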