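import Cfsg.Agent.HeldUniq.FusionBasic
import Cfsg.Agent.Invol.Dihedral
import Cfsg.Agent.Bender.GSide
import Cfsg.Agent.S3035
import Mathlib.GroupTheory.Sylow
import Mathlib.GroupTheory.Transfer

/-!
No element of order 7 centralises an involution conjugate to the central one together with an element
of order 3 inverted by it, when the centraliser of that element of order 3 does not fuse trivially.
-/

set_option autoImplicit false
set_option linter.unusedSectionVars false
set_option linter.style.haveILetI false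
set_option maxRecDepth 100000

namespace CfsgLib.HeldUniq

open Subgroup

namespace Mdl

/-- An element of order three. -/
def triThree : Nat := 5614080
/-- An element of order seven. -/
def triSeven : Nat := 6224384
/-- An element of order four centralising `triThree`. -/
def triRot : Nat := 17926290
/-- An involution centralising `triThree` and inverting `triRot`. -/
def triRef : Nat := 17926274

theorem three_chk : mem triThree = true ∧ mem triRot = true ∧ mem triRef = true ∧
    mulN (mulN triThree triThree) triThree = one ∧ triThree ≠ one ∧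
    commN triRot triThree = true ∧ commN triRef triThree = true ∧
    mulN (mulN triRot triRot) (mulN triRot triRot) = one ∧ mulN triRot triRot ≠ one ∧
    mulN triRef triRef = one ∧ triRef ≠ one ∧
    mulN (mulN triRef triRot) (mulN triRef triRot) = one := by decide +kernel

theorem seven_chk : mem triSeven = true ∧
    prodN [triSeven, triSeven, triSeven, triSeven, triSeven, triSeven, triSeven] = one ∧
    triSeven ≠ one := by decide +kernel

theorem three_cent : ((codesOf slPairs).filter fun b => commN b triThree).length = 24 := by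
  decide +kernel

theorem seven_cent : ((codesOf slPairs).filter fun b => commN b triSeven).length = 14 ∧
    (((codesOf slPairs).filter fun b => commN b triSeven).all fun b =>
      !Nat.beq (mulN b b) one || Nat.beq b one || Nat.beq b tN) = true := by
  decide +kernel

end Mdl

section Group

variable {G : Type*} [Group G]

/-- Elements of prime order whose order divides a group order once generate conjugate subgroups. -/
theorem exists_conj_zpowers [Finite G] {p : ℕ} [Fact p.Prime] (C : Subgroup G) {m : ℕ}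
    (hm : Nat.card C = p * m) (hpm : ¬ p ∣ m) {a x : G} (ha : a ∈ C) (hx : x ∈ C)
    (hao : orderOf a = p) (hxo : orderOf x = p) :
    ∃ c ∈ C, x ∈ zpowers (c * a * c⁻¹) ∧ c * a * c⁻¹ ∈ zpowers x := by
  have hp : p.Prime := Fact.out
  have hf : (Nat.card C).factorization p = 1 := by
    rw [hm, Nat.factorization_mul hp.ne_zero (fun h => hpm (by rw [h]; exact dvd_zero p))]
    simp [hp.factorization_self, Nat.factorization_eq_zero_of_not_dvd hpm]
  have hc : ∀ z : C, orderOf z = p →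
      Nat.card (zpowers z) = p ^ (Nat.card C).factorization p := fun z hz => by
    rw [hf, pow_one, Nat.card_zpowers, hz]
  let P : Sylow p C := Sylow.ofCard _ (hc ⟨a, ha⟩ (by rw [orderOf_mk, hao]))
  let Q : Sylow p C := Sylow.ofCard _ (hc ⟨x, hx⟩ (by rw [orderOf_mk, hxo]))
  obtain ⟨c, hcPQ⟩ := MulAction.exists_smul_eq C P Q
  have e : (zpowers (⟨x, hx⟩ : C)) = (zpowers (⟨a, ha⟩ : C)).map (MulAut.conj c).toMonoidHom := by
    have e' := congrArg (fun S : Sylow p C => (S : Subgroup C)) hcPQ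
    exact e'.symm
  rw [MonoidHom.map_zpowers] at e
  have key : ∀ z w : C, z ∈ zpowers w → (z : G) ∈ zpowers (w : G) := by
    rintro _ w ⟨k, rfl⟩
    exact ⟨k, (SubgroupClass.coe_zpow w k).symm⟩
  refine ⟨c, c.2, ?_, ?_⟩
  · exact key ⟨x, hx⟩ (c * ⟨a, ha⟩ * c⁻¹) (e ▸ mem_zpowers _)
  · exact key (c * ⟨a, ha⟩ * c⁻¹) ⟨x, hx⟩ (e.symm ▸ mem_zpowers _)

/-- An element of odd order of a group of twice an odd order with an involution lies in the kernel
of a map onto two elements. -/
theorem exists_odd_normal [Finite G] {x : G} (hx : orderOf x = 2)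
    (h : ∀ y : G, Commute y x → y * y = 1 → y = 1 ∨ y = x)
    (h4 : ¬ 4 ∣ Nat.card (centralizer ({x} : Set G))) :
    ∃ O : Subgroup G, O.Normal ∧ Odd (Nat.card O) ∧ Nat.card G = 2 * Nat.card O ∧
      ∀ g : G, Odd (orderOf g) → g ∈ O := by
  haveI : Fact (Nat.Prime 2) := ⟨Nat.prime_two⟩
  have hxp : IsPGroup 2 (zpowers x) :=
    IsPGroup.of_card (n := 1) (by rw [Nat.card_zpowers, hx, pow_one])
  obtain ⟨P, hP⟩ := hxp.exists_le_sylow
  have hPx : (P : Subgroup G) = zpowers x := by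
    by_contra hne
    obtain ⟨Z, hlt, hZP, hZN⟩ :=
      Bender.GSide.exists_between (lt_of_le_of_ne hP (Ne.symm hne)) P.isPGroup'
    obtain ⟨z, hz, hzx⟩ := SetLike.exists_of_lt hlt
    have hcomm : Commute z x := by
      have h1 : z * x * z⁻¹ ∈ zpowers x := (mem_normalizer_iff.1 (hZN hz) x).1 (mem_zpowers x)
      have h2 : z * x * z⁻¹ * (z * x * z⁻¹) = 1 := by
        rw [show z * x * z⁻¹ * (z * x * z⁻¹) = z * (x * x) * z⁻¹ by group,
          Invol.mul_self_eq_one hx, mul_one, mul_inv_cancel]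
      obtain ⟨k, hk⟩ := mem_zpowers_iff.1 h1
      rcases h _ (hk ▸ (Commute.refl x).zpow_left k) h2 with e | e
      · rw [conj_eq_one_iff.1 e, orderOf_one] at hx
        exact absurd hx (by decide)
      · exact mul_inv_eq_iff_eq_mul.1 e
    obtain ⟨k, hk⟩ := (P.isPGroup'.to_le hZP) ⟨z, hz⟩
    have hk' : orderOf z ∣ 2 ^ k := orderOf_dvd_of_pow_eq_one (congrArg Subtype.val hk)
    have hz2 : orderOf z ∣ 2 := by
      obtain ⟨j, -, hj⟩ := (Nat.dvd_prime_pow Nat.prime_two).1 hk'
      rcases Nat.lt_or_ge j 2 with hlt2 | hge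
      · rw [hj]; interval_cases j <;> simp
      · refine absurd ((pow_dvd_pow 2 hge).trans (hj ▸ ?_)) h4
        exact Subgroup.orderOf_dvd_natCard _ (mem_centralizer_singleton_iff.2 hcomm.eq)
    rcases h z hcomm (by rw [← sq]; exact orderOf_dvd_iff_pow_eq_one.1 hz2) with rfl | rfl
    · exact hzx (one_mem _)
    · exact hzx (mem_zpowers _)
  have hc2 : Nat.card P = 2 := by rw [hPx, Nat.card_zpowers, hx]
  have hle : normalizer ((P : Subgroup G) : Set G) ≤ centralizer ((P : Subgroup G) : Set G) := by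
    intro n hn p hp
    have h1 : n * p * n⁻¹ ∈ (P : Subgroup G) := (mem_normalizer_iff.1 hn p).1 hp
    by_cases hp1 : p = 1
    · rw [hp1, one_mul, mul_one]
    have h2 : ∀ q ∈ (P : Subgroup G), q ≠ 1 → q = x := by
      intro q hq hq1
      rw [hPx] at hq
      have hq2 : q * q = 1 := by
        have := orderOf_dvd_iff_pow_eq_one.1 (hx ▸ orderOf_dvd_of_mem_zpowers hq)
        rwa [sq] at this
      obtain ⟨k, rfl⟩ := hq
      exact ((h _ ((Commute.refl x).zpow_left k) hq2).resolve_left hq1)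
    have h3 := h2 _ h1 (fun e => hp1 (conj_eq_one_iff.1 e))
    rw [← h2 p hp hp1] at h3
    exact (mul_inv_eq_iff_eq_mul.1 h3).symm
  have hcompl := MonoidHom.ker_transferSylow_isComplement' P hle
  refine ⟨(MonoidHom.transferSylow P hle).ker, inferInstance, ?_, ?_, fun g hg => ?_⟩
  · rw [Nat.odd_iff, ← Nat.two_dvd_ne_zero]
    intro h2
    have := P.not_dvd_index
    rw [hcompl.index_eq_card] at this
    exact this h2
  · rw [← hcompl.card_mul_card, hc2, mul_comm]
  · rw [MonoidHom.mem_ker, ← orderOf_eq_one_iff]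
    refine Nat.eq_one_of_dvd_coprimes (Nat.coprime_two_left.2 hg) ?_ (orderOf_map_dvd _ g)
    exact (_root_.orderOf_dvd_natCard _).trans hc2.dvd

/-- The image of a subgroup containing the kernel. -/
theorem card_map_mk' [Finite G] (N L : Subgroup G) [N.Normal] (h : N ≤ L) :
    Nat.card N * Nat.card (L.map (QuotientGroup.mk' N)) = Nat.card L := by
  have h1 : (L.map (QuotientGroup.mk' N)).index = L.index :=
    index_map_eq L (QuotientGroup.mk'_surjective N) (by rwa [QuotientGroup.ker_mk'])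
  have h2 := card_mul_index (L.map (QuotientGroup.mk' N))
  have h3 := card_mul_index L
  have h4 : Nat.card (G ⧸ N) * Nat.card N = Nat.card G := (card_eq_card_quotient_mul_card_subgroup N).symm
  rw [h1] at h2
  rw [← h4, ← h2] at h3
  refine Nat.eq_of_mul_eq_mul_right (Nat.pos_of_ne_zero L.index_ne_zero_of_finite) ?_
  rw [h3]
  ring

end Group

namespace Frame

variable {G : Type*} [Group G] [Finite G] {t : G} (F : Frame t)

theorem card_cent_ev {a : Nat} (ha : Mdl.mem a = true) {n : ℕ}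
    (hl : ((Mdl.codesOf Mdl.slPairs).filter fun b => Mdl.commN b a).length = n) :
    Nat.card ↥(centralizer ({t} : Set G) ⊓ centralizer ({F.ev a} : Set G)) = n := by
  have hlt : ∀ x ∈ Mdl.slPairs, x.1 < 512 := fun x hx => (Mdl.pair_facts hx).2.2.1
  have hmem : ∀ b, Mdl.mem b = true ↔ b ∈ Mdl.codesOf Mdl.slPairs := fun b =>
    (Mdl.mem_iff_pair b).trans (Mdl.mem_codesOf hlt b).symm
  rw [← hl]
  refine F.card_of_codes (X := ((centralizer ({t} : Set G) ⊓ centralizer ({F.ev a} : Set G) :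
    Subgroup G) : Set G)) _ ((Mdl.nodup_codesOf hlt Mdl.sl_nodup).filter _)
    (fun b hb => (hmem b).2 (List.mem_filter.1 hb).1) fun g => ?_
  constructor
  · rintro ⟨h1, h2⟩
    obtain ⟨b, hb, rfl⟩ := (F.mem_iff g).1 h1
    exact ⟨b, List.mem_filter.2 ⟨(hmem b).1 hb,
      (F.commN_iff hb ha).2 (mem_centralizer_singleton_iff.1 h2)⟩, rfl⟩
  · rintro ⟨b, hb, rfl⟩
    obtain ⟨hb1, hb2⟩ := List.mem_filter.1 hb
    have hb' := (hmem b).2 hb1
    exact ⟨(F.mem_iff _).2 ⟨b, hb', rfl⟩,
      mem_centralizer_singleton_iff.2 ((F.commN_iff hb' ha).1 hb2)⟩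

theorem orderOf_three : orderOf (F.ev Mdl.triThree) = 3 := by
  obtain ⟨h1, -, -, h4, h5, -⟩ := Mdl.three_chk
  haveI : Fact (Nat.Prime 3) := ⟨Nat.prime_three⟩
  refine orderOf_eq_prime ?_ fun e => h5 ((F.eq_one_iff h1).1 e)
  rw [show (3 : ℕ) = 2 + 1 from rfl, pow_succ, pow_two, ← F.map_mul _ _ h1 h1,
    ← F.map_mul _ _ (Mdl.mem_mulN h1 h1) h1, h4, F.ev_one]

theorem ev_prodN : ∀ l : List Nat, (∀ a ∈ l, Mdl.mem a = true) →
    Mdl.mem (Mdl.prodN l) = true ∧ F.ev (Mdl.prodN l) = (l.map F.ev).prod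
  | [], _ => ⟨Mdl.mem_one, F.ev_one⟩
  | a :: l, h => by
    obtain ⟨h1, h2⟩ := ev_prodN l fun b hb => h b (List.mem_cons_of_mem a hb)
    have ha := h a (List.mem_cons_self ..)
    exact ⟨Mdl.mem_mulN ha h1, by
      rw [List.map_cons, List.prod_cons, ← h2, ← F.map_mul _ _ ha h1]; rfl⟩

theorem orderOf_seven : orderOf (F.ev Mdl.triSeven) = 7 := by
  obtain ⟨h1, h2, h3⟩ := Mdl.seven_chk
  haveI : Fact (Nat.Prime 7) := ⟨by norm_num⟩
  refine orderOf_eq_prime ?_ fun e => h3 ((F.eq_one_iff h1).1 e)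
  have := (F.ev_prodN (List.replicate 7 Mdl.triSeven) fun b hb =>
    (List.eq_of_mem_replicate hb) ▸ h1).2
  rw [List.map_replicate, List.prod_replicate] at this
  rw [← this, show List.replicate 7 Mdl.triSeven = [Mdl.triSeven, Mdl.triSeven, Mdl.triSeven,
    Mdl.triSeven, Mdl.triSeven, Mdl.triSeven, Mdl.triSeven] from rfl, h2, F.ev_one]

/-- A pair of a conjugate of `t` and a commuting element of prime order is carried to the model. -/
theorem exists_transport {p m : ℕ} [Fact p.Prime] (hm : 21504 = p * m) (hpm : ¬ p ∣ m) {a : Nat}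
    (ha : Mdl.mem a = true) (hao : orderOf (F.ev a) = p) {i y : G} (hi : IsConj t i)
    (hy : orderOf y = p) (hiy : Commute i y) :
    ∃ T : G, T * t * T⁻¹ = i ∧ ∀ g : G, Commute g (F.ev a) ↔ Commute (T * g * T⁻¹) y := by
  obtain ⟨k, hk⟩ := isConj_iff.1 hi
  have hyC : k⁻¹ * y * k ∈ centralizer ({t} : Set G) := by
    have ht : t = k⁻¹ * i * k := by rw [← hk]; group
    rw [mem_centralizer_singleton_iff, ht]
    calc k⁻¹ * y * k * (k⁻¹ * i * k) = k⁻¹ * (y * i) * k := by group
      _ = k⁻¹ * (i * y) * k := by rw [hiy.eq]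
      _ = _ := by group
  obtain ⟨c, hc, h1, h2⟩ := exists_conj_zpowers (centralizer ({t} : Set G))
    (F.card_cent.trans hm) hpm ((F.mem_iff _).2 ⟨a, ha, rfl⟩) hyC hao
    (by have h := Invol.orderOf_conj_eq k⁻¹ y; rw [inv_inv] at h; rw [h, hy])
  refine ⟨k * c, ?_, fun g => ?_⟩
  · rw [← hk, mul_inv_rev]
    calc k * c * t * (c⁻¹ * k⁻¹) = k * (c * t) * c⁻¹ * k⁻¹ := by group
      _ = k * (t * c) * c⁻¹ * k⁻¹ := by rw [mem_centralizer_singleton_iff.1 hc]
      _ = _ := by group
  · obtain ⟨n, hn⟩ := h1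
    obtain ⟨n', hn'⟩ := h2
    simp only at hn hn'
    have hy' : y = (k * c) * F.ev a ^ n * (k * c)⁻¹ := by
      rw [conj_zpow] at hn
      rw [show y = k * (k⁻¹ * y * k) * k⁻¹ by group, ← hn]
      group
    constructor
    · intro h
      rw [hy']
      exact (Commute.conj_iff _).2 (h.zpow_right n)
    · intro h
      have h' : Commute (c * g * c⁻¹) (k⁻¹ * y * k) := by
        have e1 : c * g * c⁻¹ = k⁻¹ * (k * c * g * (k * c)⁻¹) * k := by group
        rw [e1]
        show _ * _ = _ * _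
        calc k⁻¹ * (k * c * g * (k * c)⁻¹) * k * (k⁻¹ * y * k)
            = k⁻¹ * (k * c * g * (k * c)⁻¹ * y) * k := by group
          _ = k⁻¹ * (y * (k * c * g * (k * c)⁻¹)) * k := by rw [h.eq]
          _ = _ := by group
      have h'' := h'.zpow_right n'
      rw [hn'] at h''
      exact (Commute.conj_iff _).1 h''

theorem map_cent_eq {i y T : G} {a : Nat} (hT : T * t * T⁻¹ = i)
    (hTc : ∀ g : G, Commute g (F.ev a) ↔ Commute (T * g * T⁻¹) y) :
    (centralizer ({t} : Set G) ⊓ centralizer ({F.ev a} : Set G)).map (MulAut.conj T).toMonoidHom =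
      centralizer ({i} : Set G) ⊓ centralizer ({y} : Set G) := by
  have key : ∀ g, g ∈ centralizer ({t} : Set G) ⊓ centralizer ({F.ev a} : Set G) ↔
      T * g * T⁻¹ ∈ centralizer ({i} : Set G) ⊓ centralizer ({y} : Set G) := fun g => by
    rw [mem_inf, mem_inf, mem_centralizer_singleton_iff, mem_centralizer_singleton_iff,
      mem_centralizer_singleton_iff, mem_centralizer_singleton_iff, ← hT]
    exact and_congr (Commute.conj_iff _).symm (hTc g)
  ext x
  constructor
  · rintro ⟨g, hg, rfl⟩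
    exact (key g).1 hg
  · intro hx
    refine ⟨T⁻¹ * x * T, (key _).2 ?_, ?_⟩
    · rwa [show T * (T⁻¹ * x * T) * T⁻¹ = x by group]
    · show T * (T⁻¹ * x * T) * T⁻¹ = x
      group

include F in
/-- The centraliser of a conjugate of `t` and of a commuting element of order 7. -/
theorem seven_fact {i y : G} (hi : IsConj t i) (hy : orderOf y = 7) (hiy : Commute i y) :
    Nat.card ↥(centralizer ({i} : Set G) ⊓ centralizer ({y} : Set G)) = 14 ∧
      ∀ x : G, Commute x i → Commute x y → x * x = 1 → x = 1 ∨ x = i := by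
  haveI : Fact (Nat.Prime 7) := ⟨by norm_num⟩
  obtain ⟨h1, -, -⟩ := Mdl.seven_chk
  obtain ⟨hl, hall⟩ := Mdl.seven_cent
  obtain ⟨T, hT, hTc⟩ := F.exists_transport (m := 3072) (by norm_num) (by norm_num) h1
    F.orderOf_seven hi hy hiy
  rw [← F.map_cent_eq hT hTc, card_map_of_injective (MulAut.conj T).injective]
  refine ⟨F.card_cent_ev h1 hl, fun x hxi hxy hx2 => ?_⟩
  have hx : x ∈ (centralizer ({t} : Set G) ⊓ centralizer ({F.ev Mdl.triSeven} : Set G)).map
      (MulAut.conj T).toMonoidHom := by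
    rw [F.map_cent_eq hT hTc]
    exact ⟨mem_centralizer_singleton_iff.2 hxi.eq, mem_centralizer_singleton_iff.2 hxy.eq⟩
  obtain ⟨g, ⟨hg1, hg2⟩, rfl⟩ := hx
  obtain ⟨b, hb, rfl⟩ := (F.mem_iff g).1 hg1
  rw [MulEquiv.coe_toMonoidHom, show MulAut.conj T (F.ev b) * MulAut.conj T (F.ev b) =
      MulAut.conj T (F.ev b * F.ev b) from (_root_.map_mul (MulAut.conj T) _ _).symm, map_eq_one_iff _ (MulAut.conj T).injective, ← F.map_mul _ _ hb hb,
    F.eq_one_iff (Mdl.mem_mulN hb hb)] at hx2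
  have hbl : b ∈ (Mdl.codesOf Mdl.slPairs).filter fun b => Mdl.commN b Mdl.triSeven :=
    List.mem_filter.2 ⟨(Mdl.mem_codesOf (fun z hz => (Mdl.pair_facts hz).2.2.1) b).2
      ((Mdl.mem_iff_pair b).1 hb), (F.commN_iff hb h1).2 (mem_centralizer_singleton_iff.1 hg2)⟩
  have := List.all_eq_true.1 hall b hbl
  rw [Bool.or_eq_true, Bool.or_eq_true, Bool.not_eq_true', Mdl.beq_of_eq hx2] at this
  rcases this with (h | h) | h
  · exact absurd h (by decide)
  · left
    rw [Nat.beq_eq.mp h, F.ev_one, map_one]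
  · right
    rw [Nat.beq_eq.mp h, F.ev_t]
    exact hT

include F in
/-- The centraliser of a conjugate of `t` and of a commuting element of order 3. -/
theorem three_fact {j u : G} (hj : IsConj t j) (hu : orderOf u = 3) (hju : Commute j u) :
    Nat.card ↥(centralizer ({j} : Set G) ⊓ centralizer ({u} : Set G)) = 24 ∧
      ∃ r s : G, r ∈ centralizer ({j} : Set G) ⊓ centralizer ({u} : Set G) ∧
        s ∈ centralizer ({j} : Set G) ⊓ centralizer ({u} : Set G) ∧
        (r * r) * (r * r) = 1 ∧ r * r ≠ 1 ∧ s * s = 1 ∧ s ≠ 1 ∧ (s * r) * (s * r) = 1 := by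
  haveI : Fact (Nat.Prime 3) := ⟨Nat.prime_three⟩
  obtain ⟨h1, h2, h3, -, -, h6, h7, h8, h9, h10, h11, h12⟩ := Mdl.three_chk
  obtain ⟨T, hT, hTc⟩ := F.exists_transport (m := 7168) (by norm_num) (by norm_num) h1
    F.orderOf_three hj hu hju
  have hc : ∀ p q : G, MulAut.conj T p * MulAut.conj T q = MulAut.conj T (p * q) :=
    fun p q => (_root_.map_mul (MulAut.conj T) p q).symm
  rw [← F.map_cent_eq hT hTc, card_map_of_injective (MulAut.conj T).injective]
  refine ⟨F.card_cent_ev h1 Mdl.three_cent, MulAut.conj T (F.ev Mdl.triRot),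
    MulAut.conj T (F.ev Mdl.triRef), ⟨_, ⟨(F.mem_iff _).2 ⟨_, h2, rfl⟩, ?_⟩, rfl⟩,
    ⟨_, ⟨(F.mem_iff _).2 ⟨_, h3, rfl⟩, ?_⟩, rfl⟩, ?_, ?_, ?_, ?_, ?_⟩
  · exact mem_centralizer_singleton_iff.2 ((F.commN_iff h2 h1).1 h6)
  · exact mem_centralizer_singleton_iff.2 ((F.commN_iff h3 h1).1 h7)
  · rw [hc, hc, ← F.map_mul _ _ h2 h2,
      ← F.map_mul _ _ (Mdl.mem_mulN h2 h2) (Mdl.mem_mulN h2 h2), h8, F.ev_one, map_one]
  · rw [hc, Ne, map_eq_one_iff _ (MulAut.conj T).injective, ← F.map_mul _ _ h2 h2,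
      F.eq_one_iff (Mdl.mem_mulN h2 h2)]
    exact h9
  · rw [hc, ← F.map_mul _ _ h3 h3, h10, F.ev_one, map_one]
  · rw [Ne, map_eq_one_iff _ (MulAut.conj T).injective, F.eq_one_iff h3]
    exact h11
  · rw [hc, hc, ← F.map_mul _ _ h3 h2,
      ← F.map_mul _ _ (Mdl.mem_mulN h3 h2) (Mdl.mem_mulN h3 h2), h12, F.ev_one, map_one]

end Frame

variable {G : Type*} [Group G] [Finite G]

/-- In a group of order `4030387200` an element of order 7 commutes with a subgroup of order 49. -/
theorem fortynine_dvd (hG : Nat.card G = 4030387200) {y : G} (hy : orderOf y = 7) :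
    49 ∣ Nat.card (centralizer ({y} : Set G)) := by
  haveI : Fact (Nat.Prime 7) := ⟨by norm_num⟩
  obtain ⟨P, hP⟩ := (IsPGroup.of_card (p := 7) (n := 1)
    (by rw [Nat.card_zpowers, hy, pow_one]) : IsPGroup 7 (zpowers y)).exists_le_sylow
  have h343 : 343 ∣ Nat.card P := by
    have := P.pow_dvd_card_of_pow_dvd_card (n := 3) (by rw [hG]; norm_num)
    simpa using this
  let y' : (P : Subgroup G) := ⟨y, hP (mem_zpowers y)⟩
  have hy' : orderOf y' = 7 := by rw [← Subgroup.orderOf_coe]; exact hy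
  haveI : Nontrivial (P : Subgroup G) := ⟨⟨y', 1, fun h => by
    rw [h, orderOf_one] at hy'; omega⟩⟩
  haveI := P.isPGroup'.center_nontrivial
  set A := centralizer ({y'} : Set (P : Subgroup G))
  obtain ⟨k, hk⟩ := IsPGroup.iff_card.1 (P.isPGroup'.to_subgroup A)
  have hAC : Nat.card A ∣ Nat.card (centralizer ({y} : Set G)) := by
    rw [← card_map_of_injective (P : Subgroup G).subtype_injective]
    refine card_dvd_of_le ?_
    rintro _ ⟨a, ha, rfl⟩
    exact mem_centralizer_singleton_iff.2 (congrArg Subtype.val (mem_centralizer_singleton_iff.1 ha))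
  rcases Nat.lt_or_ge k 2 with hlt | hge
  · exfalso
    have hA7 : Nat.card A ≤ 7 := by rw [hk]; interval_cases k <;> norm_num
    have hyA : zpowers y' ≤ A := zpowers_le.2 (mem_centralizer_singleton_iff.2 rfl)
    have hcA : center (P : Subgroup G) ≤ A := fun z hz =>
      mem_centralizer_singleton_iff.2 ((mem_center_iff.1 hz y').symm)
    have h1 : zpowers y' = A := eq_of_le_of_card_ge hyA (by rwa [Nat.card_zpowers, hy'])
    have h2 : center (P : Subgroup G) = zpowers y' := by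
      refine eq_of_le_of_card_ge (h1 ▸ hcA) ?_
      rw [Nat.card_zpowers, hy']
      obtain ⟨l, hl, hl'⟩ :=
        ((P.isPGroup'.to_subgroup (center (P : Subgroup G))).nontrivial_iff_card).1 inferInstance
      rw [hl']
      calc (7 : ℕ) = 7 ^ 1 := (pow_one 7).symm
        _ ≤ _ := Nat.pow_le_pow_right (by norm_num) hl
    have hy'c : y' ∈ center (P : Subgroup G) := h2 ▸ mem_zpowers y'
    have hAtop : A = ⊤ := eq_top_iff.2 fun z _ =>
      mem_centralizer_singleton_iff.2 (mem_center_iff.1 hy'c z)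
    rw [hAtop, Subgroup.card_top] at hA7
    have := Nat.le_of_dvd Nat.card_pos h343
    omega
  · refine dvd_trans ?_ hAC
    rw [hk]
    exact (show 49 = 7 ^ 2 by norm_num) ▸ pow_dvd_pow 7 hge

/-- With these elements no group of the order of the Held group has this centraliser. -/
theorem false_of_trio {t : G} (F : Frame t) (_ht : orderOf t = 2) (hG : Nat.card G = 4030387200)
    (u y i j g : G) (hu : orderOf u = 3) (hy : orderOf y = 7) (huy : Commute u y)
    (hi : IsConj t i) (hiy : Commute i y) (_hiu : i * u * i⁻¹ = u⁻¹) (hj : IsConj t j)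
    (hju : Commute j u) (hgu : Commute g u) (hjg : g * j * g⁻¹ ≠ j)
    (hjg2 : Commute j (g * j * g⁻¹)) : False := by
  obtain ⟨h14, hinv⟩ := F.seven_fact hi hy hiy
  have hi2 : orderOf i = 2 := by
    obtain ⟨k, hk⟩ := isConj_iff.1 hi
    rw [← hk, Invol.orderOf_conj_eq, F.orderOf_t]
  -- the centraliser of `y`
  set H := centralizer ({y} : Set G)
  let i' : H := ⟨i, mem_centralizer_singleton_iff.2 hiy.eq⟩
  have hcard14 : Nat.card (centralizer ({i'} : Set H)) = 14 := by
    rw [← h14, ← card_map_of_injective (K := centralizer ({i'} : Set H)) H.subtype_injective]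
    refine congrArg (fun K : Subgroup G => Nat.card K) ?_
    ext z
    constructor
    · rintro ⟨z', hz', rfl⟩
      exact ⟨mem_centralizer_singleton_iff.2
        (congrArg Subtype.val (mem_centralizer_singleton_iff.1 hz')), z'.2⟩
    · rintro ⟨h1, h2⟩
      exact ⟨⟨z, h2⟩,
        mem_centralizer_singleton_iff.2 (Subtype.ext (mem_centralizer_singleton_iff.1 h1)), rfl⟩
  obtain ⟨O, hOn, hOodd, hHO, hoddO⟩ := exists_odd_normal (x := i')
    (by rw [← Subgroup.orderOf_coe]; exact hi2)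
    (fun z hz hz2 => by
      rcases hinv z (congrArg Subtype.val hz) (mem_centralizer_singleton_iff.1 z.2)
        (congrArg Subtype.val hz2) with h | h
      · exact Or.inl (Subtype.ext h)
      · exact Or.inr (Subtype.ext h))
    (by rw [hcard14]; norm_num)
  let y' : H := ⟨y, mem_centralizer_singleton_iff.2 rfl⟩
  let u' : H := ⟨u, mem_centralizer_singleton_iff.2 huy.eq⟩
  have hycen : ∀ z : H, ∀ w ∈ zpowers y', Commute w z := by
    rintro z _ ⟨k, rfl⟩
    exact (show Commute y' z from Subtype.ext (mem_centralizer_singleton_iff.1 z.2).symm).zpow_left k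
  have hii : i' * i' = 1 := Invol.mul_self_eq_one (by rw [← Subgroup.orderOf_coe]; exact hi2)
  -- every element of `O` is central times inverted
  have hdec : ∀ o ∈ O, ∃ c ∈ zpowers y', ∃ d ∈ O, i' * d * i' = d⁻¹ ∧ o = c * d := by
    intro o ho
    have hio : i' * o * i' ∈ O := by
      have := hOn.conj_mem o ho i'
      rwa [inv_eq_of_mul_eq_one_right hii] at this
    obtain ⟨c, hc, d, hd, hci, hdi, rfl⟩ := Bender.GSide.split hOodd hii ho hio
    refine ⟨c, ?_, d, hd, hdi, rfl⟩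
    -- `c` is an element of odd order in a group of order 14 containing `y`
    have hcC : c ∈ centralizer ({i'} : Set H) := mem_centralizer_singleton_iff.2 hci.eq.symm
    have hyC : y' ∈ centralizer ({i'} : Set H) :=
      mem_centralizer_singleton_iff.2 (Subtype.ext hiy.eq.symm)
    let Y := zpowers (⟨y', hyC⟩ : centralizer ({i'} : Set H))
    have hY2 : Y.index = 2 := by
      have h7 : Nat.card Y = 7 := by
        rw [Nat.card_zpowers, ← Subgroup.orderOf_coe, ← Subgroup.orderOf_coe]; exact hy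
      have := card_mul_index Y
      rw [h7, hcard14] at this
      omega
    have hsq : ((⟨c, hcC⟩ : centralizer ({i'} : Set H)) * ⟨c, hcC⟩) ∈ Y :=
      mul_self_mem_of_index_two hY2 _
    obtain ⟨m, hm⟩ := hOodd.of_dvd_nat (Subgroup.orderOf_dvd_natCard O hc)
    have h2 : c * c ∈ zpowers y' := by
      obtain ⟨l, hl⟩ := hsq
      exact ⟨l, by simpa using congrArg Subtype.val hl⟩
    have h3 := pow_mem h2 (m + 1)
    rwa [← sq, ← pow_mul, show 2 * (m + 1) = orderOf c + 1 by omega, pow_succ, pow_orderOf_eq_one,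
      one_mul] at h3
  -- commutators of `O` are powers of `y`
  have hcomm : ∀ a ∈ O, ∀ b ∈ O, a * b * a⁻¹ * b⁻¹ ∈ zpowers y' := by
    intro a ha b hb
    obtain ⟨c1, hc1, d1, hd1, he1, rfl⟩ := hdec a ha
    obtain ⟨c2, hc2, d2, hd2, he2, rfl⟩ := hdec b hb
    obtain ⟨c3, hc3, d3, hd3, he3, h12⟩ := hdec _ (mul_mem (inv_mem hd1) (inv_mem hd2))
    have e1 : i' * d1⁻¹ * i' = d1 := by
      have := congrArg Inv.inv he1
      simpa [mul_inv_rev, inv_eq_of_mul_eq_one_right hii, mul_assoc] using this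
    have e2 : i' * d2⁻¹ * i' = d2 := by
      have := congrArg Inv.inv he2
      simpa [mul_inv_rev, inv_eq_of_mul_eq_one_right hii, mul_assoc] using this
    have e4 : i' * c3 * i' = c3 := by
      rw [← (hycen i' c3 hc3).eq, mul_assoc, hii, mul_one]
    have e5 : d1 * d2 = c3 * d3⁻¹ := by
      calc d1 * d2 = (i' * d1⁻¹ * i') * (i' * d2⁻¹ * i') := by rw [e1, e2]
        _ = i' * (d1⁻¹ * ((i' * i') * d2⁻¹)) * i' := by group
        _ = i' * (c3 * d3) * i' := by rw [hii, one_mul, h12]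
        _ = i' * c3 * (i' * i') * d3 * i' := by rw [hii, mul_one]; group
        _ = (i' * c3 * i') * (i' * d3 * i') := by group
        _ = _ := by rw [e4, he3]
    have e6 : d3⁻¹ = d2 * d1 * c3 := by
      rw [show d3 = c3⁻¹ * (d1⁻¹ * d2⁻¹) by rw [h12]; group]
      group
    rw [e6] at e5
    have key : d1 * d2 * d1⁻¹ * d2⁻¹ = c3 * c3 := by
      calc d1 * d2 * d1⁻¹ * d2⁻¹ = c3 * (d2 * d1 * c3) * d1⁻¹ * d2⁻¹ := by rw [e5]
        _ = c3 * (d2 * (d1 * c3)) * d1⁻¹ * d2⁻¹ := by group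
        _ = c3 * (d2 * (c3 * d1)) * d1⁻¹ * d2⁻¹ := by rw [(hycen d1 c3 hc3).eq]
        _ = c3 * ((d2 * c3) * d2⁻¹) := by group
        _ = c3 * ((c3 * d2) * d2⁻¹) := by rw [(hycen d2 c3 hc3).eq]
        _ = _ := by group
    have : c1 * d1 * (c2 * d2) * (c1 * d1)⁻¹ * (c2 * d2)⁻¹ = d1 * d2 * d1⁻¹ * d2⁻¹ := by
      calc c1 * d1 * (c2 * d2) * (c1 * d1)⁻¹ * (c2 * d2)⁻¹
          = c1 * (d1 * c2) * d2 * d1⁻¹ * c1⁻¹ * d2⁻¹ * c2⁻¹ := by group
        _ = c1 * (c2 * d1) * d2 * d1⁻¹ * c1⁻¹ * d2⁻¹ * c2⁻¹ := by rw [(hycen d1 c2 hc2).eq]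
        _ = (c1 * c2) * (d1 * d2 * d1⁻¹) * (c1⁻¹ * d2⁻¹) * c2⁻¹ := by group
        _ = (c1 * c2) * (d1 * d2 * d1⁻¹) * (d2⁻¹ * c1⁻¹) * c2⁻¹ := by
            rw [(hycen d2⁻¹ c1⁻¹ (inv_mem hc1)).eq]
        _ = (c1 * c2) * (d1 * d2 * d1⁻¹ * d2⁻¹) * (c1⁻¹ * c2⁻¹) := by group
        _ = (d1 * d2 * d1⁻¹ * d2⁻¹) * (c1 * c2) * (c1⁻¹ * c2⁻¹) := by
            rw [(hycen (d1 * d2 * d1⁻¹ * d2⁻¹) _ (mul_mem hc1 hc2)).eq]
        _ = (d1 * d2 * d1⁻¹ * d2⁻¹) * (c1 * (c2 * c1⁻¹) * c2⁻¹) := by group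
        _ = (d1 * d2 * d1⁻¹ * d2⁻¹) * (c1 * (c1⁻¹ * c2) * c2⁻¹) := by
            rw [(hycen c1⁻¹ c2 hc2).eq]
        _ = _ := by group
    rw [this, key]
    exact mul_mem hc3 hc3
  have hu' : orderOf u' = 3 := by rw [← Subgroup.orderOf_coe]; exact hu
  have huO : u' ∈ O := hoddO u' (by rw [hu']; decide)
  -- `u` centralises `O`
  have huc : ∀ a ∈ O, Commute u' a := by
    intro a ha
    have hw := hcomm u' huO a ha
    set w := u' * a * u'⁻¹ * a⁻¹ with hwdef
    have hwu := hycen u' w hw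
    have e : u' * a * u'⁻¹ = w * a := by rw [hwdef]; group
    have e3 : ∀ n : ℕ, u' ^ n * a * (u' ^ n)⁻¹ = w ^ n * a := by
      intro n
      induction n with
      | zero => simp
      | succ n ih =>
        calc u' ^ (n + 1) * a * (u' ^ (n + 1))⁻¹ = u' * (u' ^ n * a * (u' ^ n)⁻¹) * u'⁻¹ := by
              rw [pow_succ']; group
          _ = (u' * w ^ n) * a * u'⁻¹ := by rw [ih]; group
          _ = (w ^ n * u') * a * u'⁻¹ := by rw [(hwu.pow_left n).eq]
          _ = w ^ n * (u' * a * u'⁻¹) := by group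
          _ = _ := by rw [e, pow_succ]; exact (mul_assoc _ _ _).symm
    have h3 : w ^ 3 = 1 := by
      have := e3 3
      rw [← hu', pow_orderOf_eq_one, one_mul, inv_one, mul_one, eq_comm, mul_eq_right] at this
      rwa [hu'] at this
    have h7 : w ^ 7 = 1 := by
      have : orderOf y' = 7 := by rw [← Subgroup.orderOf_coe]; exact hy
      exact orderOf_dvd_iff_pow_eq_one.1 (this ▸ orderOf_dvd_of_mem_zpowers hw)
    have hw1 : w = 1 := by
      have := Nat.dvd_gcd (orderOf_dvd_of_pow_eq_one h3) (orderOf_dvd_of_pow_eq_one h7)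
      exact orderOf_eq_one_iff.1 (Nat.dvd_one.1 this)
    rw [hw1, one_mul] at e
    exact mul_inv_eq_iff_eq_mul.1 e
  -- the centraliser of `u`
  set Cu := centralizer ({u} : Set G)
  have h49 : 49 ∣ Nat.card Cu := by
    refine dvd_trans ?_ (card_dvd_of_le (H := O.map H.subtype) (K := Cu) ?_)
    · rw [card_map_of_injective H.subtype_injective]
      refine (Nat.Coprime.dvd_of_dvd_mul_left (m := 2) (by norm_num) ?_)
      exact hHO ▸ fortynine_dvd hG hy
    · rintro _ ⟨a, ha, rfl⟩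
      exact mem_centralizer_singleton_iff.2 (congrArg Subtype.val (huc a ha).eq.symm)
  let v : Cu := ⟨u, mem_centralizer_singleton_iff.2 rfl⟩
  let N := zpowers v
  have hNc : ∀ z : Cu, ∀ n ∈ N, Commute n z := by
    rintro z _ ⟨k, rfl⟩
    exact (show Commute v z from Subtype.ext (mem_centralizer_singleton_iff.1 z.2).symm).zpow_left k
  haveI hNn : N.Normal := ⟨fun n hn z => by rwa [← (hNc z n hn).eq, mul_inv_cancel_right]⟩
  have hN3 : Nat.card N = 3 := by rw [Nat.card_zpowers, ← Subgroup.orderOf_coe]; exact hu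
  have hN2 : ∀ n ∈ N, n * n = 1 → n = 1 := by
    intro n hn h2
    have h3 : n ^ 3 = 1 := by
      have h := congrArg Subtype.val (pow_card_eq_one' (x := (⟨n, hn⟩ : N)))
      rwa [hN3] at h
    rwa [pow_succ, pow_two, h2, one_mul] at h3
  set π := QuotientGroup.mk' N
  have hπ : ∀ z : Cu, π z = 1 ↔ z ∈ N := fun z => QuotientGroup.eq_one_iff z
  have hπ2 : ∀ z : Cu, z * z = 1 → π z = 1 → z = 1 := fun z h1 h2 => hN2 z ((hπ z).1 h2) h1
  -- an involution of the quotient with dihedral centraliser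
  obtain ⟨h24, r, s, hr, hs, hr4, hr2, hs2, hs1, hsr⟩ := F.three_fact hj hu hju
  let j' : Cu := ⟨j, mem_centralizer_singleton_iff.2 hju.eq⟩
  have hj2 : orderOf j = 2 := by
    obtain ⟨k, hk⟩ := isConj_iff.1 hj
    rw [← hk, Invol.orderOf_conj_eq, F.orderOf_t]
  have hj'1 : j' * j' = 1 := Subtype.ext (Invol.mul_self_eq_one hj2)
  have hj'ne : j' ≠ 1 := fun h => by
    rw [show j = 1 from congrArg Subtype.val h, orderOf_one] at hj2
    omega
  set jb := π j'
  have hjb : orderOf jb = 2 :=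
    Invol.orderOf_eq_two (by rw [← map_mul, hj'1, map_one]) fun h => hj'ne (hπ2 _ hj'1 h)
  let L := (centralizer ({j} : Set G) ⊓ Cu).subgroupOf Cu
  have hNL : N ≤ L := zpowers_le.2
    (mem_inf.2 ⟨mem_centralizer_singleton_iff.2 hju.eq.symm, v.2⟩)
  have hCK : centralizer ({jb} : Set (Cu ⧸ N)) = L.map π := by
    ext z
    obtain ⟨z, rfl⟩ := QuotientGroup.mk'_surjective N z
    constructor
    · intro hz
      have h1 : π (z * j' * z⁻¹) = jb := by
        rw [map_mul, map_mul, map_inv, mem_centralizer_singleton_iff.1 hz, mul_inv_cancel_right]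
      have hn : j'⁻¹ * (z * j' * z⁻¹) ∈ N := QuotientGroup.eq.1 h1.symm
      have hn1 : j'⁻¹ * (z * j' * z⁻¹) = 1 := by
        refine hN2 _ hn ?_
        set n := j'⁻¹ * (z * j' * z⁻¹) with hndef
        have hq : j' * n = z * j' * z⁻¹ := by rw [hndef]; group
        have hq2 : (z * j' * z⁻¹) * (z * j' * z⁻¹) = 1 := by
          rw [show (z * j' * z⁻¹) * (z * j' * z⁻¹) = z * (j' * j') * z⁻¹ by group, hj'1, mul_one,
            mul_inv_cancel]
        rw [← hq, mul_assoc j' n, ← mul_assoc n j', (hNc j' n hn).eq, mul_assoc j' n n,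
          ← mul_assoc j' j', hj'1, one_mul] at hq2
        exact hq2
      refine ⟨z, mem_inf.2 ⟨mem_centralizer_singleton_iff.2 ?_, z.2⟩, rfl⟩
      exact mul_inv_eq_iff_eq_mul.1 (congrArg Subtype.val (inv_mul_eq_one.1 hn1).symm)
    · rintro ⟨w, hw, hwz⟩
      rw [← hwz, mem_centralizer_singleton_iff, ← map_mul, ← map_mul]
      exact congrArg π (Subtype.ext (mem_centralizer_singleton_iff.1 hw.1))
  have h8 : Nat.card (centralizer ({jb} : Set (Cu ⧸ N))) = 8 := by
    have h1 : Nat.card N * Nat.card (L.map π) = Nat.card L := card_map_mk' N L hNL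
    rw [hN3, Nat.card_congr (subgroupOfEquivOfLe inf_le_right).toEquiv, h24] at h1
    rw [hCK]
    omega
  -- generators
  let r' : Cu := ⟨r, hr.2⟩
  let s' : Cu := ⟨s, hs.2⟩
  have hrr : π r' * π r' ≠ 1 := fun h => hr2 (congrArg Subtype.val
    (hπ2 (r' * r') (Subtype.ext hr4) (by rwa [map_mul])))
  have hr1 : π r' ≠ 1 := fun h => hrr (by rw [h, one_mul])
  have hss : π s' * π s' = 1 := by
    rw [← map_mul, show s' * s' = 1 from Subtype.ext hs2, map_one]
  have hbb : π (s' * r') * π (s' * r') = 1 := by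
    rw [← map_mul, show (s' * r') * (s' * r') = 1 from Subtype.ext hsr, map_one]
  have hso : orderOf (π s') = 2 := Invol.orderOf_eq_two hss fun h =>
    hs1 (congrArg Subtype.val (hπ2 s' (Subtype.ext hs2) h))
  have hbo : orderOf (π (s' * r')) = 2 := Invol.orderOf_eq_two hbb fun h => by
    have e : s * r = 1 := congrArg Subtype.val (hπ2 _ (Subtype.ext hsr) h)
    refine hr2 ?_
    rw [show r = s⁻¹ from (inv_eq_of_mul_eq_one_right e).symm, ← mul_inv_rev, hs2, inv_one]
  have hord : orderOf (π s' * π (s' * r')) = 4 := by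
    rw [map_mul π s' r', ← mul_assoc, hss, one_mul]
    haveI : Fact (Nat.Prime 2) := ⟨Nat.prime_two⟩
    refine orderOf_eq_prime_pow (p := 2) (n := 1) (by rwa [pow_one, pow_two]) ?_
    rw [← map_pow, show r' ^ 2 ^ (1 + 1) = 1 from Subtype.ext (by
      show r ^ 4 = 1
      rw [show (4 : ℕ) = 2 + 2 from rfl, pow_add, pow_two, hr4]), map_one]
  have hne : π s' ≠ π (s' * r') := fun h => hr1 (by rwa [map_mul, left_eq_mul] at h)
  obtain ⟨e⟩ := Invol.nonempty_dihedral_equiv hso hbo hne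
  rw [hord] at e
  have hclos : closure ({π s', π (s' * r')} : Set (Cu ⧸ N)) = centralizer ({jb} : Set (Cu ⧸ N)) := by
    refine eq_of_le_of_card_ge ((closure_le _).2 ?_) ?_
    · rintro z (rfl | rfl) <;> rw [hCK]
      · exact ⟨s', hs, rfl⟩
      · exact ⟨s' * r', mul_mem (show s' ∈ L from hs) (show r' ∈ L from hr), rfl⟩
    · rw [h8, Nat.card_congr e.toEquiv, DihedralGroup.nat_card]
  rw [hclos] at e
  have h49K : 49 ∣ Nat.card (Cu ⧸ N) := by
    have := card_eq_card_quotient_mul_card_subgroup N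
    rw [hN3] at this
    exact Nat.Coprime.dvd_of_dvd_mul_right (by norm_num) (this ▸ h49)
  rcases Cfsg.Agent.S3035.result jb hjb ⟨e⟩ with hK | ⟨⟨f⟩⟩ | ⟨⟨f⟩⟩ | ⟨⟨f⟩⟩ | ⟨⟨f⟩⟩
  · -- the involution is isolated modulo the odd core
    haveI : (Cfsg.oddCore (Cu ⧸ N)).Normal := Solvable.pPrimeCore_normal 2
    let g' : Cu := ⟨g, mem_centralizer_singleton_iff.2 hgu.eq⟩
    have hg' : π g' ∈ centralizer ({jb} : Set (Cu ⧸ N)) ⊔ Cfsg.oddCore (Cu ⧸ N) :=
      hK ▸ mem_top _
    obtain ⟨c, hc, o, ho, hco⟩ := mem_sup_of_normal_right.1 hg'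
    have ho' : c * o * c⁻¹ ∈ Cfsg.oddCore (Cu ⧸ N) :=
      (inferInstance : (Cfsg.oddCore (Cu ⧸ N)).Normal).conj_mem o ho c
    have hq : π (g' * j' * g'⁻¹) = c * o * c⁻¹ * jb * (c * o * c⁻¹)⁻¹ := by
      rw [map_mul, map_mul, map_inv, ← hco]
      calc c * o * jb * (c * o)⁻¹ = c * o * c⁻¹ * (c * jb) * c⁻¹ * (c * o * c⁻¹)⁻¹ := by group
        _ = c * o * c⁻¹ * (jb * c) * c⁻¹ * (c * o * c⁻¹)⁻¹ := by
            rw [mem_centralizer_singleton_iff.1 hc]
        _ = _ := by group
    set p := π (g' * j' * g'⁻¹) * jb with hp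
    have hpO : p ∈ Cfsg.oddCore (Cu ⧸ N) := by
      rw [hp, hq, show c * o * c⁻¹ * jb * (c * o * c⁻¹)⁻¹ * jb =
        c * o * c⁻¹ * (jb * (c * o * c⁻¹)⁻¹ * jb) by group]
      refine mul_mem ho' ?_
      have := (inferInstance : (Cfsg.oddCore (Cu ⧸ N)).Normal).conj_mem _ (inv_mem ho') jb
      rwa [Invol.inv_eq_self hjb] at this
    have hp2 : (g' * j' * g'⁻¹ * j') * (g' * j' * g'⁻¹ * j') = 1 := by
      refine Subtype.ext ?_
      show (g * j * g⁻¹ * j) * (g * j * g⁻¹ * j) = 1
      have hq1 : orderOf (g * j * g⁻¹) = 2 := by rw [Invol.orderOf_conj_eq, hj2]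
      rw [hjg2.mul_mul_mul_comm, Invol.mul_self_eq_one hq1, Invol.mul_self_eq_one hj2, one_mul]
    have hp1 : p = 1 := by
      have hpp : p ^ 2 = 1 := by rw [hp, ← map_mul, ← map_pow, pow_two, hp2, map_one]
      have h1 := Subgroup.orderOf_dvd_natCard (Cfsg.oddCore (Cu ⧸ N)) hpO
      exact orderOf_eq_one_iff.1 (Nat.eq_one_of_dvd_coprimes
        (Nat.coprime_two_left.2 IsoApps.odd_oddCore) (orderOf_dvd_of_pow_eq_one hpp) h1)
    rw [hp, ← map_mul] at hp1
    have h1 : g * j * g⁻¹ * j = 1 := congrArg Subtype.val (hπ2 _ hp2 hp1)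
    exact hjg (by rw [mul_eq_one_iff_eq_inv.1 h1, Invol.inv_eq_self hj2])
  all_goals rw [Nat.card_congr f.toEquiv, Nat.card_eq_fintype_card] at h49K
  · rw [Fintype.card_perm, Fintype.card_fin] at h49K
    revert h49K; decide
  · rw [Fintype.card_perm, Fintype.card_fin] at h49K
    revert h49K; decide
  · rw [show Fintype.card (Matrix.SpecialLinearGroup (Fin 3) (ZMod 2)) = 168 by decide +kernel]
      at h49K
    norm_num at h49K
  · rw [← Nat.card_eq_fintype_card, nat_card_alternatingGroup, Nat.card_eq_fintype_card,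
      Fintype.card_fin] at h49K
    revert h49K; decide

end CfsgLib.HeldUniq
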