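import Cfsg.Agent.HeldUniq.ActKill
import Cfsg.Agent.HeldUniq.TrioChecks
import Cfsg.Agent.HeldUniq.TrioKill

/-!
Two exchanging involutions with the third kind of action, one for each of the normal elementary
subgroups of order 16, cannot both exist.
-/

set_option autoImplicit false
set_option linter.unusedSectionVars false
set_option maxRecDepth 100000

namespace CfsgLib.HeldUniq

namespace Mdl

theorem cmpP_getD {a b : List Nat} {j : Nat} (hj : j < b.length) :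
    (cmpP a b).getD j 0 = a.getD (b.getD j 0) 0 := by
  rw [List.getD_eq_getElem _ _ (show j < (cmpP a b).length by simpa [cmpP] using hj),
    List.getD_eq_getElem _ _ hj]
  simp [cmpP, List.getD_eq_getElem?_getD]

theorem okP_facts {p : List Nat} (h : okP p = true) : p.length = 64 ∧ ∀ j, p.getD j 0 < 64 := by
  simp only [okP, Bool.and_eq_true, beq_iff_eq, List.all_eq_true, Nat.blt_eq] at h
  refine ⟨h.1, fun j => ?_⟩
  by_cases hj : j < p.length
  · rw [List.getD_eq_getElem _ _ hj]; exact h.2 _ (List.getElem_mem hj)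
  · rw [List.getD_eq_default _ _ (Nat.not_lt.1 hj)]; decide

theorem idP_getD {j : Nat} (hj : j < 64) : idP.getD j 0 = j := by
  rw [List.getD_eq_getElem _ _ (by simpa [idP] using hj)]
  simp [idP]

theorem wAt_mem {j : Nat} (hj : j < 64) : wAt j ∈ w0List := by
  have hl : j < w0List.length := by rw [(elem_facts w0_elem).1]; exact hj
  rw [wAt, List.getD_eq_getElem _ _ hl]
  exact List.getElem_mem hl

theorem wAt_surj {a : Nat} (ha : a ∈ w0List) : ∃ j < 64, wAt j = a := by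
  have hl : w0List.idxOf a < w0List.length := List.idxOf_lt_length_iff.2 ha
  refine ⟨w0List.idxOf a, by rw [← (elem_facts w0_elem).1]; exact hl, ?_⟩
  rw [wAt, List.getD_eq_getElem _ _ hl, List.getElem_idxOf]

theorem wAt_inj {i j : Nat} (hi : i < 64) (hj : j < 64) (h : wAt i = wAt j) : i = j := by
  have hl : w0List.length = 64 := (elem_facts w0_elem).1
  rw [wAt, wAt, List.getD_eq_getElem _ _ (by omega), List.getD_eq_getElem _ _ (by omega)] at h
  exact (elem_facts w0_elem).2.1.getElem_inj_iff.1 h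

theorem norm_gen {i : Nat} (hi : i < 7) : mem (trioNorm.getD i one) = true ∧
    (gOf (trioNorm.getD i one), hOf (trioNorm.getD i one)) ∈ p0Pairs ∧
    actsAs (trioNorm.getD i one) (trioPerms.getD i []) = true := by
  have h := trio_letters
  simp only [Bool.and_eq_true, List.all_eq_true, List.contains_iff_mem, List.mem_range] at h
  have := h.1.1.2 i hi
  exact ⟨this.1.2, this.1.1, this.2⟩

theorem perms_ok (i : Nat) (hi : i < 9) : okP (trioPerms.getD i []) = true := by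
  have h := trio_letters
  simp only [Bool.and_eq_true, List.all_eq_true, beq_iff_eq] at h
  have hl : i < trioPerms.length := by rw [h.1.1.1.1.2]; exact hi
  rw [List.getD_eq_getElem _ _ hl]
  exact h.1.1.1.1.1 _ (List.getElem_mem hl)

theorem preW0_facts {j : Nat} (hj : j < 64) :
    (∀ i ∈ (preW0.getD j (0, [])).2, i < 3) ∧
      evalW dGens (preW0.getD j (0, [])).2 = (preW0.getD j (0, [])).1 ∧
      muTo (preW0.getD j (0, [])).1 (wAt j) = true ∧
      muTo (evalW (actTable.getD 3 []) (preW0.getD j (0, [])).2)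
        (wAt ((trioPerms.getD 8 []).getD j 0)) = true := by
  have h := trio_letters
  simp only [Bool.and_eq_true, List.all_eq_true, List.mem_range, Nat.blt_eq, Nat.beq_eq] at h
  have := h.2 j hj
  exact ⟨this.1.1.1, this.1.1.2, this.1.2, this.2⟩

theorem act_three {i : Nat} : mem ((actTable.getD 3 []).getD i one) = true := by
  have h : ((List.range 3).all fun i => mem ((actTable.getD 3 []).getD i one)) = true := by decide +kernel
  by_cases hi : i < 3
  · exact List.all_eq_true.1 h i (List.mem_range.2 hi)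
  · have hl : (actTable.getD 3 []).length = 3 := by decide +kernel
    rw [List.getD_eq_default _ _ (by omega)]
    exact mem_one

theorem muConj_inv : (mem (invN muConj) && Nat.beq (mulN muConj (invN muConj)) one) = true := by
  decide +kernel

theorem mem_muMap (hm : mem muConj = true) {r : Nat} (hr : mem r = true) : mem (muMap r) = true :=
  mem_mulN (mem_mulN hm (mem_mir hr)) (Bool.and_eq_true _ _ ▸ muConj_inv).1

end Mdl

namespace Frame

variable {G : Type*} [Group G] {t : G} (F : Frame t) [Finite G]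

theorem ev_muConj_inv (hm : Mdl.mem Mdl.muConj = true) :
    F.ev (Mdl.invN Mdl.muConj) = (F.ev Mdl.muConj)⁻¹ := by
  have h := Mdl.muConj_inv
  simp only [Bool.and_eq_true, Nat.beq_eq] at h
  exact eq_inv_of_mul_eq_one_right (by rw [← F.map_mul _ _ hm h.1, h.2, F.ev_one])

theorem ev_conjN (hm : Mdl.mem Mdl.muConj = true) {a : Nat} (ha : Mdl.mem a = true) :
    F.ev (Mdl.conjN Mdl.muConj a) = F.ev Mdl.muConj * F.ev a * (F.ev Mdl.muConj)⁻¹ := by
  have hi := (Bool.and_eq_true _ _ ▸ Mdl.muConj_inv).1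
  rw [Mdl.conjN, F.map_mul _ _ (Mdl.mem_mulN hm ha) hi, F.map_mul _ _ hm ha, F.ev_muConj_inv hm]

theorem ev_muInv (hm : Mdl.mem Mdl.muConj = true) {e : Nat} (he : Mdl.mem e = true) :
    F.ev Mdl.muConj * F.ev (Mdl.mir (Mdl.muInv e)) * (F.ev Mdl.muConj)⁻¹ = F.ev e := by
  have hi := (Bool.and_eq_true _ _ ▸ Mdl.muConj_inv).1
  have h1 := Mdl.mem_mulN hi he
  rw [Mdl.muInv, Mdl.mir_mir (Mdl.mem_mulN h1 hm), F.map_mul _ _ h1 hm, F.map_mul _ _ hi he,
    F.ev_muConj_inv hm]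
  group

/-- Conjugation by the element permutes the elementary subgroup by the given list. -/
def Acts (m : G) (p : List Nat) : Prop :=
  Mdl.okP p = true ∧ ∀ j < 64, m * F.ev (Mdl.wAt j) * m⁻¹ = F.ev (Mdl.wAt (p.getD j 0))

theorem acts_one : F.Acts 1 Mdl.idP :=
  ⟨by decide, fun j hj => by rw [Mdl.idP_getD hj, one_mul, inv_one, mul_one]⟩

variable {F}

theorem Acts.mul {m n : G} {p q : List Nat} (hm : F.Acts m p) (hn : F.Acts n q) :
    F.Acts (m * n) (Mdl.cmpP p q) := by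
  obtain ⟨hp, hp'⟩ := Mdl.okP_facts hm.1
  obtain ⟨hq, hq'⟩ := Mdl.okP_facts hn.1
  refine ⟨?_, fun j hj => ?_⟩
  · simp only [Mdl.okP, Mdl.cmpP, Bool.and_eq_true, beq_iff_eq, List.length_map, List.all_eq_true,
      List.mem_map, Nat.blt_eq]
    exact ⟨hq, fun x ⟨y, _, e⟩ => e ▸ hp' y⟩
  · rw [Mdl.cmpP_getD (by omega), ← hm.2 _ (hq' j), ← hn.2 j hj]
    group

theorem Acts.mem_normalizer {m : G} {p : List Nat} (hm : F.Acts m p) :
    m ∈ Subgroup.normalizer (F.w0 : Set G) := by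
  refine conj_mem_iff_of_le fun w hw => ?_
  obtain ⟨a, ha, rfl⟩ := (F.w0_data.mem_iff _).1 hw
  obtain ⟨j, hj, rfl⟩ := Mdl.wAt_surj ha
  rw [hm.2 j hj]
  exact (F.w0_data.mem_iff _).2 ⟨_, Mdl.wAt_mem ((Mdl.okP_facts hm.1).2 j), rfl⟩

theorem Acts.unique {m : G} {p q : List Nat} (hp : F.Acts m p) (hq : F.Acts m q) : p = q := by
  obtain ⟨l1, b1⟩ := Mdl.okP_facts hp.1
  obtain ⟨l2, b2⟩ := Mdl.okP_facts hq.1
  refine List.ext_getElem (l1.trans l2.symm) fun j h1 h2 => ?_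
  have e := (hp.2 j (by omega)).symm.trans (hq.2 j (by omega))
  have := Mdl.wAt_inj (b1 j) (b2 j) (F.inj _ _ (F.w0_data.mem_code (Mdl.wAt_mem (b1 j)))
    (F.w0_data.mem_code (Mdl.wAt_mem (b2 j))) e)
  rwa [List.getD_eq_getElem _ _ h1, List.getD_eq_getElem _ _ h2] at this

theorem comm_w0 {a b : G} (ha : a ∈ F.w0) (hb : b ∈ F.w0) : a * b = b * a :=
  comm_of_sq F.w0_data.sq ha hb

theorem inv_w0 {a : G} (ha : a ∈ F.w0) : a⁻¹ = a :=
  inv_eq_of_mul_eq_one_right (F.w0_data.sq a ha)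

theorem acts_w0 {w : G} (hw : w ∈ F.w0) : F.Acts w Mdl.idP := by
  refine ⟨by decide, fun j hj => ?_⟩
  rw [Mdl.idP_getD hj, comm_w0 hw ((F.w0_data.mem_iff _).2 ⟨_, Mdl.wAt_mem hj, rfl⟩), mul_inv_cancel_right]

theorem code_of_fix {m : G} {p : List Nat} (hm : F.Acts m p) (h8 : p.getD 8 0 = 8) :
    ∃ c ∈ Mdl.candOf p, F.ev c = m := by
  have e8 : Mdl.wAt 8 = Mdl.tN := Nat.eq_of_beq_eq_true ((Bool.and_eq_true _ _ ▸ Mdl.w0_at).2)
  have ht : m * t * m⁻¹ = t := by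
    have := hm.2 8 (by decide)
    rwa [h8, e8, F.ev_t] at this
  have hmem : m ∈ F.over Mdl.p0Pairs F.w0_data.sub := by
    rw [← F.w0_data.normalizer_inf]
    exact ⟨hm.mem_normalizer, Subgroup.mem_centralizer_singleton_iff.2 (mul_inv_eq_iff_eq_mul.1 ht)⟩
  obtain ⟨c, hc, rfl⟩ := hmem
  have hcm := mem_of_pair F.w0_data.sub hc
  refine ⟨c, List.mem_filter.2 ⟨(Mdl.mem_codesOf (Mdl.subOk_lt F.w0_data.sub) c).2 hc,
    List.all_eq_true.2 fun j hj => ?_⟩, rfl⟩
  have hj' := List.mem_range.1 hj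
  have e := hm.2 j hj'
  have hwj := F.w0_data.mem_code (Mdl.wAt_mem hj')
  have hwp := F.w0_data.mem_code (Mdl.wAt_mem ((Mdl.okP_facts hm.1).2 j))
  rw [mul_inv_eq_iff_eq_mul, ← F.map_mul _ _ hcm hwj, ← F.map_mul _ _ hwp hcm] at e
  exact Mdl.beq_of_eq (F.inj _ _ (Mdl.mem_mulN hcm hwj) (Mdl.mem_mulN hwp hcm) e)

theorem trivial_act {m : G} (hm : F.Acts m Mdl.idP) : m ∈ F.w0 := by
  obtain ⟨c, hc, rfl⟩ := code_of_fix hm (Mdl.idP_getD (by decide))
  obtain ⟨hc1, hc2⟩ := List.mem_filter.1 hc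
  have h := List.all_eq_true.1 Mdl.trivial_act c hc1
  rw [hc2, Bool.not_true, Bool.false_or, List.contains_iff_mem] at h
  exact (F.w0_data.mem_iff _).2 ⟨c, h, rfl⟩

theorem Acts.inv_mul {m n : G} {p : List Nat} (hm : F.Acts m p) (hn : F.Acts n p) :
    m⁻¹ * n ∈ F.w0 := by
  refine trivial_act ⟨by decide, fun j hj => ?_⟩
  rw [Mdl.idP_getD hj]
  calc m⁻¹ * n * F.ev (Mdl.wAt j) * (m⁻¹ * n)⁻¹
      = m⁻¹ * (n * F.ev (Mdl.wAt j) * n⁻¹) * m := by group
    _ = F.ev (Mdl.wAt j) := by rw [hn.2 j hj, ← hm.2 j hj]; group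

variable (F)

/-- An element of order three acting without fixed points, with its permutation. -/
structure Pivot (u : G) : Prop where
  acts : F.Acts u Mdl.permU
  cube : u * u * u = 1

variable {F} {u : G}

theorem Pivot.fix (hu : F.Pivot u) {w : G} (hw : w ∈ F.w0) (h : u * w = w * u) : w = 1 := by
  obtain ⟨a, ha, rfl⟩ := (F.w0_data.mem_iff _).1 hw
  obtain ⟨j, hj, rfl⟩ := Mdl.wAt_surj ha
  have e := hu.acts.2 j hj
  rw [h, mul_inv_cancel_right] at e
  have hb := (Mdl.okP_facts hu.acts.1).2 j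
  have hp := Mdl.wAt_inj hj hb (F.inj _ _ (F.w0_data.mem_code (Mdl.wAt_mem hj))
    (F.w0_data.mem_code (Mdl.wAt_mem hb)) e)
  have h' := Mdl.permU_chk
  simp only [Bool.and_eq_true, List.all_eq_true, List.mem_range, Bool.or_eq_true, Nat.beq_eq,
    Bool.not_eq_true'] at h'
  rcases h'.1.1.2 j hj with rfl | hne
  · rw [show Mdl.wAt 0 = Mdl.one from Nat.eq_of_beq_eq_true ((Bool.and_eq_true _ _ ▸ Mdl.w0_at).1), F.ev_one]
  · rw [Mdl.beq_of_eq hp.symm] at hne
    exact Bool.noConfusion hne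

theorem Pivot.inv_eq (hu : F.Pivot u) : u⁻¹ = u * u :=
  inv_eq_of_mul_eq_one_right (by rw [← mul_assoc]; exact hu.cube)

/-- The elements of the complement: they commute with or invert the pivot. -/
def InL (u m : G) (p : List Nat) : Prop :=
  F.Acts m p ∧ (m * u * m⁻¹ = u ∨ m * u * m⁻¹ = u⁻¹)

theorem InL.mul {m n : G} {p q : List Nat} (hm : InL (F := F) u m p) (hn : InL (F := F) u n q) :
    InL (F := F) u (m * n) (Mdl.cmpP p q) := by
  refine ⟨hm.1.mul hn.1, ?_⟩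
  have e : m * n * u * (m * n)⁻¹ = m * (n * u * n⁻¹) * m⁻¹ := by group
  rw [e]
  rcases hn.2 with h | h <;> rw [h]
  · exact hm.2
  · have e2 : m * u⁻¹ * m⁻¹ = (m * u * m⁻¹)⁻¹ := by group
    rcases hm.2 with h' | h'
    · exact Or.inr (by rw [e2, h'])
    · exact Or.inl (by rw [e2, h', inv_inv])

theorem Pivot.inL_one (hu : F.Pivot u) : InL (F := F) u 1 Mdl.idP :=
  ⟨F.acts_one, Or.inl (by simp)⟩

theorem Pivot.inL_self (hu : F.Pivot u) : InL (F := F) u u Mdl.permU :=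
  ⟨hu.acts, Or.inl (by group)⟩

theorem Pivot.not_inverse (hu : F.Pivot u) : ¬ F.Acts (u * u) Mdl.permU := by
  intro h
  have h3 := h.mul hu.acts
  rw [hu.cube] at h3
  have e := (F.acts_one.unique h3)
  have h4 : F.Acts (u * u) (Mdl.cmpP Mdl.permU Mdl.permU) := hu.acts.mul hu.acts
  rw [← h.unique h4] at h4
  have h5 : Mdl.cmpP Mdl.permU Mdl.permU = Mdl.permU := (h.unique (hu.acts.mul hu.acts)).symm
  exact absurd h5 (by decide +kernel)

theorem Pivot.eq_of_acts (hu : F.Pivot u) {m n : G} {p : List Nat} (hm : InL (F := F) u m p)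
    (hn : InL (F := F) u n p) : m = n := by
  have hd := hm.1.inv_mul hn.1
  refine (mul_inv_eq_one.1 ?_).symm
  set d := m⁻¹ * n with hdef
  have hsame : n * u * n⁻¹ = m * u * m⁻¹ := by
    have key : ∀ x : G, x * u * x⁻¹ = u → ∀ y : G, y * u * y⁻¹ = u⁻¹ → F.Acts x p → F.Acts y p → False := by
      intro x hx y hy ax ay
      have hxy := ax.inv_mul ay
      have e : x⁻¹ * y * u * (x⁻¹ * y)⁻¹ = u⁻¹ := by
        calc x⁻¹ * y * u * (x⁻¹ * y)⁻¹ = x⁻¹ * (y * u * y⁻¹) * x := by group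
          _ = (x⁻¹ * (x * u * x⁻¹) * x)⁻¹ := by rw [hy, hx]; group
          _ = u⁻¹ := by group
      apply hu.not_inverse
      rw [← hu.inv_eq, ← e, inv_w0 hxy]
      have h3 := ((acts_w0 hxy).mul hu.acts).mul (acts_w0 hxy)
      refine ⟨hu.acts.1, fun j hj => ?_⟩
      have h4 := h3.2 j hj
      obtain ⟨hl, hb⟩ := Mdl.okP_facts hu.acts.1
      rwa [Mdl.cmpP_getD (by simpa [Mdl.idP] using hj), Mdl.idP_getD hj, Mdl.cmpP_getD (by omega),
        Mdl.idP_getD (hb j)] at h4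
    rcases hm.2 with h | h <;> rcases hn.2 with h' | h'
    · rw [h, h']
    · exact (key m h n h' hm.1 hn.1).elim
    · exact (key n h' m h hn.1 hm.1).elim
    · rw [h, h']
  have hd1 : d = 1 := by
    refine hu.fix hd ?_
    have e : d * u * d⁻¹ = u := by
      calc d * u * d⁻¹ = m⁻¹ * (n * u * n⁻¹) * m := by rw [hdef]; group
        _ = u := by rw [hsame]; group
    exact (mul_inv_eq_iff_eq_mul.1 e).symm
  rw [hdef] at hd1
  rw [← inv_mul_eq_one.1 hd1, mul_inv_cancel]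

theorem Pivot.exists_lift (hu : F.Pivot u) {m : G} {p : List Nat} (hm : F.Acts m p)
    (hs : Mdl.signOk p = true) : ∃ w ∈ F.w0, InL (F := F) u (w * m) p := by
  obtain ⟨v, hv, hvact⟩ : ∃ v, (v = u ∨ v = u⁻¹) ∧ ∃ q, F.Acts v q ∧
      Mdl.cmpP p Mdl.permU = Mdl.cmpP q p := by
    simp only [Mdl.signOk, Bool.or_eq_true, beq_iff_eq] at hs
    rcases hs with h | h
    · exact ⟨u, Or.inl rfl, _, hu.acts, h⟩
    · exact ⟨u⁻¹, Or.inr rfl, _, by rw [hu.inv_eq]; exact hu.acts.mul hu.acts, h⟩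
  obtain ⟨q, hq, hpq⟩ := hvact
  have hmu : F.Acts (m * u) (Mdl.cmpP p Mdl.permU) := hm.mul hu.acts
  have hvm : F.Acts (v * m) (Mdl.cmpP p Mdl.permU) := hpq ▸ hq.mul hm
  have hc : m * u * m⁻¹ * v⁻¹ ∈ F.w0 := by
    have h := hvm.inv_mul hmu
    have h' := (Subgroup.mem_normalizer_iff.1 ((hq.mul hm).mem_normalizer) _).1 h
    have e : v * m * ((v * m)⁻¹ * (m * u)) * (v * m)⁻¹ = m * u * m⁻¹ * v⁻¹ := by group
    rwa [e] at h'
  set φ : F.w0 → F.w0 := fun w => ⟨(w : G) * (v * w * v⁻¹),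
    mul_mem w.2 ((Subgroup.mem_normalizer_iff.1 hq.mem_normalizer _).1 w.2)⟩ with hφ
  have hinj : Function.Injective φ := by
    intro a b hab
    have e : (a : G) * (v * a * v⁻¹) = b * (v * b * v⁻¹) := congrArg Subtype.val hab
    have hab' : (b : G) * a ∈ F.w0 := mul_mem b.2 a.2
    have hfix : v * ((b : G) * a) * v⁻¹ = (b : G) * a := by
      have e2 : (b : G) * a * (v * a * v⁻¹) = v * b * v⁻¹ := by
        rw [mul_assoc, e, ← mul_assoc, F.w0_data.sq _ b.2, one_mul]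
      calc v * ((b : G) * a) * v⁻¹ = v * b * v⁻¹ * (v * a * v⁻¹) := by group
        _ = (b : G) * a * ((v * a * v⁻¹) * (v * a * v⁻¹)) := by rw [← e2]; group
        _ = (b : G) * a := by
          rw [show (v * a * v⁻¹) * (v * a * v⁻¹) = v * ((a : G) * a) * v⁻¹ by group,
            F.w0_data.sq _ a.2]
          group
    have hcomm : u * ((b : G) * a) = (b : G) * a * u := by
      rcases hv with rfl | rfl
      · exact mul_inv_eq_iff_eq_mul.1 hfix
      · have h1 := mul_inv_eq_iff_eq_mul.1 hfix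
        calc u * ((b : G) * a) = u * ((b : G) * a * u⁻¹) * u := by group
          _ = u * (u⁻¹ * ((b : G) * a)) * u := by rw [h1]
          _ = _ := by group
    have h1 := hu.fix hab' hcomm
    refine Subtype.ext ?_
    rw [← inv_w0 a.2]
    exact inv_eq_of_mul_eq_one_left h1
  obtain ⟨w, hw⟩ := (Finite.injective_iff_surjective.1 hinj) ⟨_, hc⟩
  have hw' : (w : G) * (v * w * v⁻¹) = m * u * m⁻¹ * v⁻¹ := congrArg Subtype.val hw
  refine ⟨w, w.2, ?_, ?_⟩
  · have h := (acts_w0 w.2).mul hm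
    refine ⟨hm.1, fun j hj => ?_⟩
    rw [h.2 j hj, Mdl.cmpP_getD (by rw [(Mdl.okP_facts hm.1).1]; exact hj),
      Mdl.idP_getD ((Mdl.okP_facts hm.1).2 j)]
  · have hmv : m * u * m⁻¹ = (w : G) * (v * w * v⁻¹) * v := by rw [hw']; group
    have e : (w : G) * m * u * ((w : G) * m)⁻¹ = v := by
      calc (w : G) * m * u * ((w : G) * m)⁻¹ = w * (m * u * m⁻¹) * (w : G)⁻¹ := by group
        _ = ((w : G) * w) * v * ((w : G) * (w : G)⁻¹) := by rw [hmv]; group
        _ = v := by rw [F.w0_data.sq _ w.2, mul_inv_cancel, one_mul, mul_one]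
    rw [e]
    exact hv

theorem acts_word (x : Nat → G) (hx : ∀ i < 9, F.Acts (x i) (Mdl.trioPerms.getD i [])) :
    ∀ w : List Nat, (∀ i ∈ w, i < 9) → F.Acts (w.map x).prod (Mdl.permW w)
  | [], _ => F.acts_one
  | i :: w, h => by
    rw [List.map_cons, List.prod_cons]
    exact (hx i (h i List.mem_cons_self)).mul (acts_word x hx w fun j hj => h j (List.mem_cons_of_mem _ hj))

theorem inL_prod (hu : F.Pivot u) {a b : Nat} (ha : Mdl.mem a = true) (hb : Mdl.mem b = true)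
    (hA : InL (F := F) u (F.ev a) Mdl.permA) (hB : InL (F := F) u (F.ev b) Mdl.permB) :
    ∀ w : List Nat, (∀ i ∈ w, i < 2) →
      InL (F := F) u (F.ev (Mdl.evalW [a, b] w)) (Mdl.permAB w) ∧ Mdl.mem (Mdl.evalW [a, b] w) = true
  | [], _ => ⟨by rw [show Mdl.evalW [a, b] [] = Mdl.one from rfl, F.ev_one]; exact hu.inL_one, Mdl.mem_one⟩
  | i :: w, h => by
    obtain ⟨h1, h2⟩ := inL_prod hu ha hb hA hB w fun j hj => h j (List.mem_cons_of_mem _ hj)
    have hi : i < 2 := h i List.mem_cons_self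
    have key : ∀ c q, Mdl.mem c = true → InL (F := F) u (F.ev c) q →
        InL (F := F) u (F.ev (Mdl.mulN c (Mdl.evalW [a, b] w))) (Mdl.cmpP q (Mdl.permAB w)) ∧
          Mdl.mem (Mdl.mulN c (Mdl.evalW [a, b] w)) = true := fun c q hc hq =>
      ⟨by rw [F.map_mul _ _ hc h2]; exact hq.mul h1, Mdl.mem_mulN hc h2⟩
    interval_cases i
    · exact key a _ ha hA
    · exact key b _ hb hB

theorem isConj_of_isE (hx : IsConj t (F.ev (Mdl.mk 1 0 0 Mdl.mone Mdl.mone)))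
    (hy : IsConj t (F.ev (Mdl.mk 0 1 0 Mdl.mone Mdl.mone))) {e : Nat} (h : Mdl.isE e = true) :
    IsConj t (F.ev e) := by
  simp only [Mdl.isE, List.any_eq_true, Bool.and_eq_true, Bool.or_eq_true, Nat.beq_eq] at h
  obtain ⟨⟨e', c, b⟩, -, ⟨⟨⟨he, hc⟩, hem⟩, hb⟩, heq⟩ := h
  obtain rfl : e' = e := he
  have hbm : Mdl.mem b = true := by rcases hb with rfl | rfl <;> decide +kernel
  have hbt : IsConj t (F.ev b) := by rcases hb with rfl | rfl <;> assumption
  exact hbt.trans (isConj_iff.2 ⟨F.ev c, F.conj_of hc hbm hem heq⟩)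

theorem acts_letters {n₂ n₁ : G} (hn2 : n₂ * n₂ = 1)
    (h2 : ∀ i < 3, n₂ * F.ev (Mdl.dGens.getD i Mdl.one) * n₂ =
      F.ev ((Mdl.actTable.getD 3 []).getD i Mdl.one))
    (hn1 : n₁ * n₁ = 1) {hm : Mdl.mem Mdl.muConj = true}
    (h1 : ∀ i < 3, n₁ * (F.mirror Mdl.muConj hm).ev (Mdl.dGens.getD i Mdl.one) * n₁ =
      (F.mirror Mdl.muConj hm).ev ((Mdl.actTable.getD 3 []).getD i Mdl.one)) :
    ∀ i < 9, F.Acts ([n₂, n₁].getD (i - 7) 1 |> fun g => if i < 7 then F.ev (Mdl.trioNorm.getD i Mdl.one) else g)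
      (Mdl.trioPerms.getD i []) := by
  intro i hi
  refine ⟨Mdl.perms_ok i hi, fun j hj => ?_⟩
  have hb := (Mdl.okP_facts (Mdl.perms_ok i hi)).2 j
  by_cases hi7 : i < 7
  · simp only [hi7, if_true]
    obtain ⟨hm', -, ha⟩ := Mdl.norm_gen hi7
    have e := List.all_eq_true.1 ha j (List.mem_range.2 hj)
    rw [Nat.beq_eq] at e
    exact F.conj_of hm' (F.w0_data.mem_code (Mdl.wAt_mem hj)) (F.w0_data.mem_code (Mdl.wAt_mem hb)) e
  · simp only [hi7, if_false]
    obtain rfl | rfl : i = 7 ∨ i = 8 := by omega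
    · have h := Mdl.trio_letters
      simp only [Bool.and_eq_true, List.all_eq_true, List.mem_range, Nat.beq_eq] at h
      have e := (F.act_w0 (n := n₂) (k := 3) (by decide) hn2 h2 hj).1
      rw [h.1.2 j hj] at e
      exact e
    · obtain ⟨hw, hev, hm1, hm2⟩ := Mdl.preW0_facts hj
      have e := (F.mirror Mdl.muConj hm).conj_evalW (n := n₁) (b := Mdl.actTable.getD 3 [])
        (w := (Mdl.preW0.getD j (0, [])).2) fun l hl => ⟨Mdl.act_three, by
          rw [inv_eq_of_mul_eq_one_right hn1]; exact h1 l (hw l hl)⟩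
      rw [hev, F.mirror_ev _ hm hm1, F.mirror_ev _ hm hm2] at e
      exact e

theorem exists_pivot {x : Nat → G} (hx : ∀ i < 9, F.Acts (x i) (Mdl.trioPerms.getD i [])) :
    ∃ u : G, F.Pivot u := by
  have hU := Mdl.permU_chk
  simp only [Bool.and_eq_true, beq_iff_eq] at hU
  set u := (Mdl.wordU.map x).prod with hu
  have hw : F.Acts u Mdl.permU := by
    have h := acts_word x hx Mdl.wordU (by decide)
    rwa [hU.1.1.1.1] at h
  refine ⟨u, hw, ?_⟩
  have h3 : F.Acts (u * u * u) Mdl.idP := by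
    have h := hw.mul (hw.mul hw)
    rwa [hU.1.1.1.2, ← mul_assoc] at h
  -- the cube lies in the elementary subgroup and is fixed
  have hm := trivial_act h3
  obtain ⟨a, ha, ea⟩ := (F.w0_data.mem_iff _).1 hm
  obtain ⟨j, hj, rfl⟩ := Mdl.wAt_surj ha
  have e := hw.2 j hj
  rw [ea, show u * (u * u * u) * u⁻¹ = u * u * u by group, ← ea] at e
  have hb := (Mdl.okP_facts hw.1).2 j
  have hp := Mdl.wAt_inj hj hb (F.inj _ _ (F.w0_data.mem_code (Mdl.wAt_mem hj))
    (F.w0_data.mem_code (Mdl.wAt_mem hb)) e)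
  have h' := Mdl.permU_chk
  simp only [Bool.and_eq_true, List.all_eq_true, List.mem_range, Bool.or_eq_true, Nat.beq_eq,
    Bool.not_eq_true'] at h'
  rcases h'.1.1.2 j hj with rfl | hne
  · rw [← ea, show Mdl.wAt 0 = Mdl.one from Nat.eq_of_beq_eq_true ((Bool.and_eq_true _ _ ▸ Mdl.w0_at).1),
      F.ev_one]
  · rw [Mdl.beq_of_eq hp.symm] at hne
    exact Bool.noConfusion hne

variable (F)

/-- Actions of the third kind do not occur on both sides. -/
theorem false_of_two_trio (hG : Nat.card G = 4030387200)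
    (hx : IsConj t (F.ev (Mdl.mk 1 0 0 Mdl.mone Mdl.mone)))
    (hy : IsConj t (F.ev (Mdl.mk 0 1 0 Mdl.mone Mdl.mone)))
    {n₂ n₁ : G} (hn2 : n₂ * n₂ = 1)
    (h2 : ∀ i < 3, n₂ * F.ev (Mdl.dGens.getD i Mdl.one) * n₂ =
      F.ev ((Mdl.actTable.getD 3 []).getD i Mdl.one))
    (hn1 : n₁ * n₁ = 1) {hm : Mdl.mem Mdl.muConj = true}
    (h1 : ∀ i < 3, n₁ * (F.mirror Mdl.muConj hm).ev (Mdl.dGens.getD i Mdl.one) * n₁ =
      (F.mirror Mdl.muConj hm).ev ((Mdl.actTable.getD 3 []).getD i Mdl.one)) : False := by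
  set x : Nat → G := fun i => [n₂, n₁].getD (i - 7) 1 |>
    fun g => if i < 7 then F.ev (Mdl.trioNorm.getD i Mdl.one) else g
  have hx9 : ∀ i < 9, F.Acts (x i) (Mdl.trioPerms.getD i []) := acts_letters hn2 h2 hn1 h1
  obtain ⟨u, hu⟩ := exists_pivot hx9
  have hU := Mdl.permU_chk
  simp only [Bool.and_eq_true, beq_iff_eq] at hU
  have lift_word : ∀ (w p : List Nat), (∀ i ∈ w, i < 9) → Mdl.permW w = p → Mdl.signOk p = true →
      ∃ m, InL (F := F) u m p := fun w p hw e hs => by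
    have h := acts_word x hx9 w hw
    rw [e] at h
    obtain ⟨w', -, h'⟩ := hu.exists_lift h hs
    exact ⟨_, h'⟩
  obtain ⟨⟨⟨⟨⟨eA, eB⟩, eY⟩, eI⟩, eJ⟩, eG⟩ :
      ((((Mdl.permW Mdl.wordA = Mdl.permA ∧ Mdl.permW Mdl.wordB = Mdl.permB) ∧
        Mdl.permW Mdl.wordY = Mdl.permY) ∧ Mdl.permW Mdl.wordI = Mdl.permI) ∧
        Mdl.permW Mdl.wordJ = Mdl.permJ) ∧ Mdl.permW Mdl.wordG = Mdl.permG := by
    have h := Mdl.perm_words
    simp only [Bool.and_eq_true, beq_iff_eq] at h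
    exact h
  obtain ⟨A, hA⟩ := lift_word _ _ (by decide) eA (by decide +kernel)
  obtain ⟨B, hB⟩ := lift_word _ _ (by decide) eB (by decide +kernel)
  obtain ⟨y, hy'⟩ := lift_word _ _ (by decide) eY (by decide +kernel)
  obtain ⟨i, hi⟩ := lift_word _ _ (by decide) eI (by decide +kernel)
  obtain ⟨j, hj⟩ := lift_word _ _ (by decide) eJ (by decide +kernel)
  obtain ⟨g, hg⟩ := lift_word _ _ (by decide) eG (by decide +kernel)
  obtain ⟨L7, hL7⟩ := lift_word [7] (Mdl.cmpP (Mdl.trioPerms.getD 7 []) Mdl.idP) (by decide) rfl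
    (by decide +kernel)
  obtain ⟨L8, hL8⟩ := lift_word [8] (Mdl.cmpP (Mdl.trioPerms.getD 8 []) Mdl.idP) (by decide) rfl
    (by decide +kernel)
  obtain ⟨⟨⟨⟨⟨⟨⟨⟨⟨⟨⟨⟨⟨⟨⟨⟨⟨⟨⟨⟨⟨rA, rB⟩, rR⟩, rY⟩, nY⟩, nU⟩, rUY⟩, rIY⟩, rIU⟩, rI⟩, rJ⟩, rJU⟩, rGU⟩,
      rG⟩, nGJ⟩, rJG⟩, rIab⟩, rJab⟩, a8⟩, b8⟩, d2⟩, d1⟩ := by
    have h := Mdl.perm_rels
    simp only [Bool.and_eq_true, beq_iff_eq, Bool.not_eq_true', beq_eq_false_iff_ne, ne_eq,
      List.all_eq_true] at h
    exact h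
  have hab := Mdl.words_ab
  simp only [List.all_eq_true, Nat.blt_eq, List.mem_append, List.mem_cons, List.mem_map] at hab
  -- codes for the two generators of the complement in the centraliser
  obtain ⟨a, haC, ea⟩ := code_of_fix hA.1 a8
  obtain ⟨b, hbC, eb⟩ := code_of_fix hB.1 b8
  have ham := mem_of_pair F.w0_data.sub ((Mdl.mem_codesOf (Mdl.subOk_lt F.w0_data.sub) a).1
    (List.mem_filter.1 haC).1)
  have hbm := mem_of_pair F.w0_data.sub ((Mdl.mem_codesOf (Mdl.subOk_lt F.w0_data.sub) b).1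
    (List.mem_filter.1 hbC).1)
  rw [← ea] at hA
  rw [← eb] at hB
  have hword := fun w hw => inL_prod hu ham hbm hA hB w hw
  -- the relations
  have hAA : Mdl.mulN a a = Mdl.one := by
    refine (F.eq_one_iff (Mdl.mem_mulN ham ham)).1 (hu.eq_of_acts (p := Mdl.idP) ?_ hu.inL_one)
    rw [F.map_mul _ _ ham ham, ← rA]
    exact hA.mul hA
  have hBB : Mdl.mulN b (Mdl.mulN b (Mdl.mulN b (Mdl.mulN b (Mdl.mulN b b)))) = Mdl.one := by
    have m2 := Mdl.mem_mulN hbm hbm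
    have m3 := Mdl.mem_mulN hbm m2
    have m4 := Mdl.mem_mulN hbm m3
    have m5 := Mdl.mem_mulN hbm m4
    refine (F.eq_one_iff (Mdl.mem_mulN hbm m5)).1 (hu.eq_of_acts (p := Mdl.idP) ?_ hu.inL_one)
    rw [F.map_mul _ _ hbm m5, F.map_mul _ _ hbm m4, F.map_mul _ _ hbm m3, F.map_mul _ _ hbm m2,
      F.map_mul _ _ hbm hbm, ← rB]
    exact hB.mul (hB.mul (hB.mul (hB.mul (hB.mul hB))))
  have hRel : Mdl.evalW [a, b] Mdl.relL = Mdl.evalW [a, b] Mdl.relR := by
    obtain ⟨h1', m1⟩ := hword Mdl.relL fun k hk => hab _ (by simp) k hk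
    obtain ⟨h2', m2⟩ := hword Mdl.relR fun k hk => hab _ (by simp) k hk
    rw [rR] at h1'
    exact F.inj _ _ m1 m2 (hu.eq_of_acts h1' h2')
  -- the conditions from the two actions
  have split7 : ∀ n k L, x k = n → k < 9 →
      InL (F := F) u L (Mdl.cmpP (Mdl.trioPerms.getD k []) Mdl.idP) →
      ∃ w ∈ F.w0, n = w * L := by
    intro n k L hn hk hL
    refine ⟨n * L⁻¹, ?_, by group⟩
    have h2' : F.Acts n (Mdl.cmpP (Mdl.trioPerms.getD k []) Mdl.idP) := by
      have := acts_word x hx9 [k] (by simpa using hk)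
      simpa [Mdl.permW, hn] using this
    have h3 := hL.1.inv_mul h2'
    have := (Subgroup.mem_normalizer_iff.1 hL.1.mem_normalizer _).1 h3
    rwa [show L * (L⁻¹ * n) * L⁻¹ = n * L⁻¹ by group] at this
  have cons : ∀ n k L, x k = n → k < 9 → n * n = 1 →
      InL (F := F) u L (Mdl.cmpP (Mdl.trioPerms.getD k []) Mdl.idP) →
      ∃ wc ∈ Mdl.w0List, ∀ q : List Nat × List Nat, (∀ l ∈ q.1, l < 2) → (∀ l ∈ q.2, l < 2) →
        Mdl.cmpP (Mdl.trioPerms.getD k []) (Mdl.permAB q.1) =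
          Mdl.cmpP (Mdl.permAB q.2) (Mdl.trioPerms.getD k []) →
        ∀ r, Mdl.mem r = true → n * F.ev (Mdl.evalW [a, b] q.1) * n⁻¹ = F.ev r →
          Mdl.mulN wc (Mdl.evalW [a, b] q.2) = Mdl.mulN r wc := by
    intro n k L hn hk hn2 hL
    obtain ⟨w, hw, rfl⟩ := split7 n k L hn hk hL
    obtain ⟨wc, hwc, rfl⟩ := (F.w0_data.mem_iff _).1 hw
    refine ⟨wc, hwc, fun q hq1 hq2 hq r hr her => ?_⟩
    obtain ⟨k1, m1⟩ := hword q.1 hq1
    obtain ⟨k2, m2⟩ := hword q.2 hq2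
    have hP : Mdl.cmpP (Mdl.trioPerms.getD k []) Mdl.idP = Mdl.trioPerms.getD k [] := by
      have h : ((List.range 9).all fun k =>
          Mdl.cmpP (Mdl.trioPerms.getD k []) Mdl.idP == Mdl.trioPerms.getD k []) = true := by decide +kernel
      exact eq_of_beq (List.all_eq_true.1 h k (List.mem_range.2 hk))
    rw [hP] at hL
    have e : L * F.ev (Mdl.evalW [a, b] q.1) = F.ev (Mdl.evalW [a, b] q.2) * L :=
      hu.eq_of_acts (hq ▸ hL.mul k1) (k2.mul hL)
    have hwm := F.w0_data.mem_code hwc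
    refine F.inj _ _ (Mdl.mem_mulN hwm m2) (Mdl.mem_mulN hr hwm) ?_
    rw [F.map_mul _ _ hwm m2, F.map_mul _ _ hr hwm, ← her]
    calc F.ev wc * F.ev (Mdl.evalW [a, b] q.2)
        = F.ev wc * (F.ev (Mdl.evalW [a, b] q.2) * L) * L⁻¹ := by group
      _ = F.ev wc * (L * F.ev (Mdl.evalW [a, b] q.1)) * L⁻¹ := by rw [e]
      _ = _ := by group
  have hct : Mdl.consTwo a b = true := by
    obtain ⟨wc, hwc, h⟩ := cons n₂ 7 L7 rfl (by decide) hn2 hL7
    refine List.any_eq_true.2 ⟨wc, hwc, List.all_eq_true.2 fun q hq => ?_⟩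
    have hq1 : ∀ l ∈ q.1, l < 2 := fun l hl =>
      hab q.1 (Or.inl (Or.inl (Or.inl (Or.inr (Or.inr (Or.inr (Or.inr ⟨q, hq, rfl⟩))))))) l hl
    have hq2 : ∀ l ∈ q.2, l < 2 := fun l hl =>
      hab q.2 (Or.inl (Or.inl (Or.inr ⟨q, hq, rfl⟩))) l hl
    unfold Mdl.imageBy
    cases hfind : Mdl.tableTwo.find? (fun e => Nat.beq e.1 (Mdl.evalW [a, b] q.1)) with
    | none => rfl
    | some e =>
      have he1 : e.1 = Mdl.evalW [a, b] q.1 := Nat.eq_of_beq_eq_true
        (List.find?_some (p := fun e : Nat × List Nat => Nat.beq e.1 (Mdl.evalW [a, b] q.1)) hfind)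
      have ht := Mdl.tables_ok
      simp only [Bool.and_eq_true, List.all_eq_true, Nat.blt_eq, Nat.beq_eq] at ht
      obtain ⟨hwl, hev⟩ := ht.1 e (List.mem_of_find?_eq_some hfind)
      have hc := F.conj_evalW (n := n₂) (b := Mdl.actTable.getD 3 []) (w := e.2) fun l hl =>
        ⟨Mdl.act_three, by rw [inv_eq_of_mul_eq_one_right hn2]; exact h2 l (hwl l hl)⟩
      rw [hev, he1] at hc
      exact Mdl.beq_of_eq (h q hq1 hq2 (d2 q hq) _
        (mem_evalW (fun _ _ => Mdl.act_three) hwl) hc)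
  have hco : Mdl.consOne a b = true := by
    obtain ⟨wc, hwc, h⟩ := cons n₁ 8 L8 rfl (by decide) hn1 hL8
    refine List.any_eq_true.2 ⟨wc, hwc, List.all_eq_true.2 fun q hq => ?_⟩
    have hq1 : ∀ l ∈ q.1, l < 2 := fun l hl => hab q.1 (Or.inl (Or.inr ⟨q, hq, rfl⟩)) l hl
    have hq2 : ∀ l ∈ q.2, l < 2 := fun l hl => hab q.2 (Or.inr ⟨q, hq, rfl⟩) l hl
    unfold Mdl.imageBy
    cases hfind : Mdl.tableOne.find? (fun e => Nat.beq e.1 (Mdl.muInv (Mdl.evalW [a, b] q.1))) with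
    | none => rfl
    | some e =>
      have he1 : e.1 = Mdl.muInv (Mdl.evalW [a, b] q.1) := Nat.eq_of_beq_eq_true
        (List.find?_some (p := fun e : Nat × List Nat => Nat.beq e.1 (Mdl.muInv (Mdl.evalW [a, b] q.1))) hfind)
      have ht := Mdl.tables_ok
      simp only [Bool.and_eq_true, List.all_eq_true, Nat.blt_eq, Nat.beq_eq] at ht
      obtain ⟨hwl, hev⟩ := ht.2 e (List.mem_of_find?_eq_some hfind)
      have hc := (F.mirror Mdl.muConj hm).conj_evalW (n := n₁) (b := Mdl.actTable.getD 3 []) (w := e.2)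
        fun l hl => ⟨Mdl.act_three, by rw [inv_eq_of_mul_eq_one_right hn1]; exact h1 l (hwl l hl)⟩
      rw [hev, he1] at hc
      have hrm := mem_evalW (b := Mdl.actTable.getD 3 []) (fun _ _ => Mdl.act_three) hwl
      obtain ⟨-, m1⟩ := hword q.1 hq1
      have hmir : ∀ c, Mdl.mem c = true →
          (F.mirror Mdl.muConj hm).ev c = F.ev (Mdl.muMap c) := fun c hc => by
        show F.ev Mdl.muConj * F.ev (Mdl.mir c) * (F.ev Mdl.muConj)⁻¹ = _
        exact (F.ev_conjN hm (Mdl.mem_mir hc)).symm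
      have hcan : (F.mirror Mdl.muConj hm).ev (Mdl.muInv (Mdl.evalW [a, b] q.1)) =
          F.ev (Mdl.evalW [a, b] q.1) := by
        show F.ev Mdl.muConj * F.ev (Mdl.mir (Mdl.muInv _)) * (F.ev Mdl.muConj)⁻¹ = _
        exact F.ev_muInv hm m1
      rw [hcan, hmir _ hrm] at hc
      exact Mdl.beq_of_eq (h q hq1 hq2 (d1 q hq) _ (Mdl.mem_muMap hm hrm) hc)
  -- conclusion
  have hmain := List.all_eq_true.1 (List.all_eq_true.1 Mdl.complements a haC) b hbC
  rw [hAA, hBB, hRel, hct, hco, Mdl.beq_of_eq rfl, Mdl.beq_of_eq rfl] at hmain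
  simp only [Bool.and_self, Bool.not_true, Bool.false_or, Bool.and_eq_true] at hmain
  obtain ⟨hIE, hJE⟩ := hmain
  have eqI : F.ev (Mdl.evalW [a, b] Mdl.wordIab) = i := by
    obtain ⟨h, -⟩ := hword Mdl.wordIab fun k hk => hab _ (by simp) k hk
    rw [rIab] at h
    exact hu.eq_of_acts h hi
  have eqJ : F.ev (Mdl.evalW [a, b] Mdl.wordJab) = j := by
    obtain ⟨h, -⟩ := hword Mdl.wordJab fun k hk => hab _ (by simp) k hk
    rw [rJab] at h
    exact hu.eq_of_acts h hj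
  have eqLift : ∀ {m n : G} {p q : List Nat}, InL (F := F) u m p → InL (F := F) u n q → p = q → m = n :=
    fun h1 h2 e => hu.eq_of_acts (e ▸ h1) h2
  have hu1 : u ≠ 1 := fun e => nU (hu.acts.unique (e ▸ F.acts_one))
  have hy1 : y ≠ 1 := fun e => nY (hy'.1.unique (e ▸ F.acts_one))
  have hy7 : y ^ 7 = 1 := by
    rw [show y ^ 7 = y * (y * (y * (y * (y * (y * y))))) by simp only [pow_succ, pow_zero, one_mul, mul_assoc]]
    exact eqLift (hy'.mul (hy'.mul (hy'.mul (hy'.mul (hy'.mul (hy'.mul hy')))))) hu.inL_one rY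
  haveI : Fact (Nat.Prime 3) := ⟨Nat.prime_three⟩
  haveI : Fact (Nat.Prime 7) := ⟨by norm_num⟩
  have ou : orderOf u = 3 :=
    orderOf_eq_prime (by rw [pow_succ, pow_two]; exact hu.cube) hu1
  have oy : orderOf y = 7 := orderOf_eq_prime hy7 hy1
  have huy : Commute u y := eqLift (hu.inL_self.mul hy') (hy'.mul hu.inL_self) rUY
  have hiy : Commute i y := eqLift (hi.mul hy') (hy'.mul hi) rIY
  have hii : i * i = 1 := eqLift (hi.mul hi) hu.inL_one rI
  have hiu : i * u * i⁻¹ = u⁻¹ := by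
    rw [hu.inv_eq, inv_eq_of_mul_eq_one_right hii, mul_assoc]
    exact eqLift (hi.mul (hu.inL_self.mul hi)) (hu.inL_self.mul hu.inL_self) rIU
  have hju : Commute j u := eqLift (hj.mul hu.inL_self) (hu.inL_self.mul hj) rJU
  have hgu : Commute g u := eqLift (hg.mul hu.inL_self) (hu.inL_self.mul hg) rGU
  have hgg : g * g = 1 := eqLift (hg.mul hg) hu.inL_one rG
  have hgjg : InL (F := F) u (g * j * g⁻¹) (Mdl.cmpP Mdl.permG (Mdl.cmpP Mdl.permJ Mdl.permG)) := by
    rw [inv_eq_of_mul_eq_one_right hgg, mul_assoc]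
    exact hg.mul (hj.mul hg)
  exact false_of_trio F F.orderOf_t hG u y i j g ou oy huy (eqI ▸ isConj_of_isE hx hy hIE) hiy hiu
    (eqJ ▸ isConj_of_isE hx hy hJE) hju hgu (fun e => nGJ ((hgjg.1).unique (e.symm ▸ hj.1)))
    (eqLift (hj.mul hgjg) (hgjg.mul hj) rJG)

end Frame

end CfsgLib.HeldUniq
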