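import Cfsg.Agent.HeldUniq.ActWData

/-! Tables for the case of two actions of the third kind. -/

set_option autoImplicit false

namespace CfsgLib.HeldUniq.Mdl

/-- The element composed with the mirror automorphism. -/
def muConj : Nat := 5515776

/-- Elements of the normaliser inside the centraliser. -/
def trioNorm : List Nat := [17466624, 17466625, 17466628, 17466632, 17466656, 18515328, 19564288]

/-- The permutations induced by the generators. -/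
def trioPerms : List (List Nat) := [
  [0, 1, 4, 5, 2, 3, 6, 7, 8, 9, 12, 13, 10, 11, 14, 15, 32, 33, 36, 37, 34, 35, 38, 39, 40, 41, 44, 45, 42, 43, 46, 47, 16, 17, 20, 21, 18, 19, 22, 23, 24, 25, 28, 29, 26, 27, 30, 31, 48, 49, 52, 53, 50, 51, 54, 55, 56, 57, 60, 61, 58, 59, 62, 63],
  [0, 1, 4, 5, 10, 11, 14, 15, 8, 9, 12, 13, 2, 3, 6, 7, 32, 33, 36, 37, 42, 43, 46, 47, 40, 41, 44, 45, 34, 35, 38, 39, 17, 16, 21, 20, 27, 26, 31, 30, 25, 24, 29, 28, 19, 18, 23, 22, 49, 48, 53, 52, 59, 58, 63, 62, 57, 56, 61, 60, 51, 50, 55, 54],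
  [0, 1, 4, 5, 2, 3, 6, 7, 8, 9, 12, 13, 10, 11, 14, 15, 32, 33, 36, 37, 34, 35, 38, 39, 40, 41, 44, 45, 42, 43, 46, 47, 16, 17, 20, 21, 18, 19, 22, 23, 24, 25, 28, 29, 26, 27, 30, 31, 48, 49, 52, 53, 50, 51, 54, 55, 56, 57, 60, 61, 58, 59, 62, 63],
  [0, 1, 4, 5, 2, 3, 6, 7, 8, 9, 12, 13, 10, 11, 14, 15, 32, 33, 36, 37, 34, 35, 38, 39, 40, 41, 44, 45, 42, 43, 46, 47, 16, 17, 20, 21, 18, 19, 22, 23, 24, 25, 28, 29, 26, 27, 30, 31, 48, 49, 52, 53, 50, 51, 54, 55, 56, 57, 60, 61, 58, 59, 62, 63],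
  [0, 9, 4, 13, 2, 11, 6, 15, 8, 1, 12, 5, 10, 3, 14, 7, 36, 45, 32, 41, 38, 47, 34, 43, 44, 37, 40, 33, 46, 39, 42, 35, 18, 27, 22, 31, 16, 25, 20, 29, 26, 19, 30, 23, 24, 17, 28, 21, 54, 63, 50, 59, 52, 61, 48, 57, 62, 55, 58, 51, 60, 53, 56, 49],
  [0, 1, 4, 5, 6, 7, 2, 3, 8, 9, 12, 13, 14, 15, 10, 11, 32, 33, 36, 37, 38, 39, 34, 35, 40, 41, 44, 45, 46, 47, 42, 43, 48, 49, 52, 53, 54, 55, 50, 51, 56, 57, 60, 61, 62, 63, 58, 59, 16, 17, 20, 21, 22, 23, 18, 19, 24, 25, 28, 29, 30, 31, 26, 27],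
  [0, 1, 4, 5, 2, 3, 6, 7, 8, 9, 12, 13, 10, 11, 14, 15, 32, 33, 36, 37, 34, 35, 38, 39, 40, 41, 44, 45, 42, 43, 46, 47, 16, 17, 20, 21, 18, 19, 22, 23, 24, 25, 28, 29, 26, 27, 30, 31, 48, 49, 52, 53, 50, 51, 54, 55, 56, 57, 60, 61, 58, 59, 62, 63],
  [0, 16, 8, 24, 14, 30, 6, 22, 2, 18, 10, 26, 12, 28, 4, 20, 1, 17, 9, 25, 15, 31, 7, 23, 3, 19, 11, 27, 13, 29, 5, 21, 49, 33, 57, 41, 63, 47, 55, 39, 51, 35, 59, 43, 61, 45, 53, 37, 48, 32, 56, 40, 62, 46, 54, 38, 50, 34, 58, 42, 60, 44, 52, 36],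
  [0, 8, 16, 24, 48, 56, 32, 40, 1, 9, 17, 25, 49, 57, 33, 41, 2, 10, 18, 26, 50, 58, 34, 42, 3, 11, 19, 27, 51, 59, 35, 43, 6, 14, 22, 30, 54, 62, 38, 46, 7, 15, 23, 31, 55, 63, 39, 47, 4, 12, 20, 28, 52, 60, 36, 44, 5, 13, 21, 29, 53, 61, 37, 45]]

/-- A permutation of the elementary subgroup. -/
def permU : List Nat := [0, 8, 18, 26, 36, 44, 54, 62, 9, 1, 27, 19, 45, 37, 63, 55, 2, 10, 16, 24, 38, 46, 52, 60, 11, 3, 25, 17, 47, 39, 61, 53, 4, 12, 22, 30, 32, 40, 50, 58, 13, 5, 31, 23, 41, 33, 59, 51, 6, 14, 20, 28, 34, 42, 48, 56, 15, 7, 29, 21, 43, 35, 57, 49]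

/-- A word for it. -/
def wordU : List Nat := [4, 5, 8]

/-- A permutation of the elementary subgroup. -/
def permA : List Nat := [0, 9, 4, 13, 2, 11, 6, 15, 8, 1, 12, 5, 10, 3, 14, 7, 36, 45, 32, 41, 38, 47, 34, 43, 44, 37, 40, 33, 46, 39, 42, 35, 18, 27, 22, 31, 16, 25, 20, 29, 26, 19, 30, 23, 24, 17, 28, 21, 54, 63, 50, 59, 52, 61, 48, 57, 62, 55, 58, 51, 60, 53, 56, 49]

/-- A word for it. -/
def wordA : List Nat := [4]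

/-- A permutation of the elementary subgroup. -/
def permB : List Nat := [0, 9, 6, 15, 10, 3, 12, 5, 8, 1, 14, 7, 2, 11, 4, 13, 54, 63, 48, 57, 60, 53, 58, 51, 62, 55, 56, 49, 52, 61, 50, 59, 27, 18, 29, 20, 17, 24, 23, 30, 19, 26, 21, 28, 25, 16, 31, 22, 45, 36, 43, 34, 39, 46, 33, 40, 37, 44, 35, 42, 47, 38, 41, 32]

/-- A word for it. -/
def wordB : List Nat := [4, 5, 1]

/-- A permutation of the elementary subgroup. -/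
def permY : List Nat := [0, 32, 8, 40, 6, 38, 14, 46, 4, 36, 12, 44, 2, 34, 10, 42, 1, 33, 9, 41, 7, 39, 15, 47, 5, 37, 13, 45, 3, 35, 11, 43, 48, 16, 56, 24, 54, 22, 62, 30, 52, 20, 60, 28, 50, 18, 58, 26, 49, 17, 57, 25, 55, 23, 63, 31, 53, 21, 61, 29, 51, 19, 59, 27]

/-- A word for it. -/
def wordY : List Nat := [1, 7]

/-- A permutation of the elementary subgroup. -/
def permI : List Nat := [0, 9, 2, 11, 4, 13, 6, 15, 8, 1, 10, 3, 12, 5, 14, 7, 18, 27, 16, 25, 22, 31, 20, 29, 26, 19, 24, 17, 30, 23, 28, 21, 36, 45, 38, 47, 32, 41, 34, 43, 44, 37, 46, 39, 40, 33, 42, 35, 54, 63, 52, 61, 50, 59, 48, 57, 62, 55, 60, 53, 58, 51, 56, 49]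

/-- A word for it. -/
def wordI : List Nat := [0, 4]

/-- A permutation of the elementary subgroup. -/
def permJ : List Nat := [0, 1, 2, 3, 12, 13, 14, 15, 8, 9, 10, 11, 4, 5, 6, 7, 16, 17, 18, 19, 28, 29, 30, 31, 24, 25, 26, 27, 20, 21, 22, 23, 33, 32, 35, 34, 45, 44, 47, 46, 41, 40, 43, 42, 37, 36, 39, 38, 49, 48, 51, 50, 61, 60, 63, 62, 57, 56, 59, 58, 53, 52, 55, 54]

/-- A word for it. -/
def wordJ : List Nat := [0, 1]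

/-- A permutation of the elementary subgroup. -/
def permG : List Nat := [0, 1, 4, 5, 2, 3, 6, 7, 8, 9, 12, 13, 10, 11, 14, 15, 32, 33, 36, 37, 34, 35, 38, 39, 40, 41, 44, 45, 42, 43, 46, 47, 16, 17, 20, 21, 18, 19, 22, 23, 24, 25, 28, 29, 26, 27, 30, 31, 48, 49, 52, 53, 50, 51, 54, 55, 56, 57, 60, 61, 58, 59, 62, 63]

/-- A word for it. -/
def wordG : List Nat := [0]

/-- A word in the two chosen generators. -/
def wordIab : List Nat := [1, 1, 1]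

/-- A word in the two chosen generators. -/
def wordJab : List Nat := [1, 0, 1, 0]

/-- One side of the relation. -/
def relL : List Nat := [1, 1, 1, 0]

/-- The other side. -/
def relR : List Nat := [0, 1, 1, 1]

/-- Elements of the common centraliser and their images, as words. -/
def domainTwo : List (List Nat × List Nat) := [([0, 1, 0, 1, 1, 0], [0, 1, 0, 1, 1, 0]), ([1, 0, 1, 0], [1, 1, 0, 1]), ([0, 1, 0, 1, 0, 1, 1], [1, 0, 1, 0, 1, 1, 1])]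

/-- Words for the possible codes. -/
def tableTwo : List (Nat × List Nat) := [
  (17926274, [0, 0, 1, 2, 1, 2, 0]),
  (17926278, [1, 2, 1, 2]),
  (17926282, [1, 2, 0, 1, 0, 2, 1]),
  (17926286, [1, 0, 2, 1, 1, 2, 0]),
  (17926338, [1, 2, 1, 1, 2, 1]),
  (17926342, [0, 0, 2, 1, 2, 1, 0]),
  (17926346, [1, 0, 1, 1, 2, 1, 2, 0]),
  (17926350, [2, 0, 1, 0, 2, 1, 1]),
  (18057602, [0, 1, 2, 0, 1, 2]),
  (18057610, [0, 2, 1, 0, 0, 1, 2, 1]),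
  (18057632, [1, 2, 0, 2, 0, 1, 1]),
  (18057640, [0, 2, 0, 0, 2, 0]),
  (18057666, [0, 2, 0, 1, 1, 0, 2, 1]),
  (18057674, [0, 1, 2, 1, 1, 0, 0, 2]),
  (18057696, [0, 2, 1, 0, 1, 2, 0]),
  (18057704, [1, 2, 0, 2, 0, 0, 1, 0]),
  (18320262, [1, 0, 0, 2, 0, 1, 2, 1]),
  (18320270, [0, 1, 1, 0, 2, 1, 0, 2]),
  (18320304, [1, 0, 2, 0, 2, 1, 1]),
  (18320312, [0, 0, 2, 1, 0, 1, 2]),
  (18320326, [1, 0, 0, 1, 2, 1, 0, 2]),
  (18320334, [0, 2, 0, 1, 2, 1, 1, 0]),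
  (18320368, [2, 0, 2, 0]),
  (18320376, [1, 2, 0, 0, 2, 1, 0])]

/-- Elements of the common centraliser and their images, as words. -/
def domainOne : List (List Nat × List Nat) := [([1, 0, 1, 1, 1, 1], [0, 1, 0, 1, 0, 1]), ([1, 1, 0, 1], [1, 1, 0, 1])]

/-- Words for the possible codes. -/
def tableOne : List (Nat × List Nat) := [
  (10571920, [2, 0, 2, 1, 0, 1, 2, 1]),
  (10571922, [0, 1, 1, 0, 2, 0]),
  (10571924, [1, 1, 0, 2, 1, 0]),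
  (10571926, [1, 0, 0, 2, 0, 1, 0, 0]),
  (10571928, [2, 0, 0, 1, 0, 2, 0, 2]),
  (10571930, [1, 1, 0, 2, 0, 0, 2, 1, 2]),
  (10571932, [0, 1, 2, 0, 1, 2, 0, 0, 2]),
  (10571934, [1, 2, 0, 0, 1, 2, 0, 2]),
  (10571984, [0, 2, 1, 2, 0, 2, 0]),
  (10571986, [0, 1, 2, 0, 2, 0, 1, 2]),
  (10571988, [2, 0, 1, 2, 1, 1, 0, 2]),
  (10571990, [2, 1, 2, 0, 1, 1, 2, 0]),
  (10571992, [2, 0, 2, 0, 0, 2, 1]),
  (10571994, [1, 0, 0, 1, 2, 0]),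
  (10571996, [0, 1, 0, 0, 2, 1, 0]),
  (10571998, [1, 0, 0, 2, 1, 1, 0]),
  (10965904, [1, 2, 0, 2, 1, 1, 2]),
  (10965906, [1, 2, 0, 1]),
  (10965908, [2, 1, 1, 0, 1]),
  (10965910, [2, 1, 1, 0, 2, 1, 1, 2]),
  (10965912, [1, 1, 2, 0, 0]),
  (10965914, [2, 1, 0, 0, 1, 2, 1, 2]),
  (10965916, [0, 2, 0, 1, 2, 0, 0, 2, 0]),
  (10965918, [2, 1, 1, 2, 1, 2, 0, 0]),
  (10965968, [0, 1, 0, 2, 0, 0]),
  (10965970, [2, 0, 1, 1, 0, 2, 1, 2]),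
  (10965972, [1, 2, 0, 1, 1, 2, 1, 2]),
  (10965974, [1, 2, 0, 2, 1, 2, 1, 1]),
  (10965976, [1, 2, 0, 2, 0, 1, 0, 2]),
  (10965978, [1, 2, 1, 1, 0, 0]),
  (10965980, [2, 1, 0, 0]),
  (10965982, [2, 1, 0, 0, 2, 1, 2, 1]),
  (20027520, [0, 1, 2, 0, 2, 1, 2, 1, 0]),
  (20027524, [0, 1, 1, 2, 1, 0, 0]),
  (20027584, [0, 1, 2, 0, 0, 1, 2, 1, 2]),
  (20027588, [0, 1, 2, 0, 1, 2, 1, 2, 0]),
  (20290176, [1, 1, 0, 2, 0, 0, 1]),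
  (20290180, [2, 0, 2, 0, 0, 2]),
  (20290240, [2, 0, 2, 0, 0, 1, 2, 1]),
  (20290244, [2, 1, 2, 0, 2, 0, 0, 1])]

/-- Elements conjugate to the chosen ones, with conjugators. -/
def eWitness : List (Nat × Nat × Nat) := [
  (17926274, 9187584, 17926273),
  (17926278, 13904640, 17926273),
  (17926304, 5515776, 17926280),
  (17926312, 14767232, 17926280),
  (17926320, 13383936, 17926280),
  (17926328, 15299712, 17926280),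
  (17926338, 9187600, 17926273),
  (17926342, 13904656, 17926273),
  (17926368, 5515780, 17926280),
  (17926376, 14767233, 17926280),
  (17926384, 13383938, 17926280),
  (17926392, 15299713, 17926280)]

/-- The preimages of the members under the exchanged coordinates, with words. -/
def preW0 : List (Nat × List Nat) := [
  (17926272, []),
  (17926280, [0, 0, 2, 1, 2, 0, 0, 2, 1, 2]),
  (17926276, [0, 1, 2, 1, 2, 0, 0]),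
  (17926284, [0, 1, 0, 2, 1, 1, 2]),
  (17926274, [0, 0, 1, 2, 1, 2, 0]),
  (17926282, [1, 2, 0, 1, 0, 2, 1]),
  (17926278, [1, 2, 1, 2]),
  (17926286, [1, 0, 2, 1, 1, 2, 0]),
  (17926336, [0, 0, 2, 1, 2, 1, 0, 1, 2, 1, 2]),
  (17926344, [0, 1, 0, 1]),
  (17926340, [2, 1, 2, 1]),
  (17926348, [0, 2, 1, 1, 2, 0, 1]),
  (17926338, [1, 2, 1, 1, 2, 1]),
  (17926346, [1, 0, 1, 1, 2, 1, 2, 0]),
  (17926342, [0, 0, 2, 1, 2, 1, 0]),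
  (17926350, [2, 0, 1, 0, 2, 1, 1]),
  (18188928, [0, 0, 1, 2, 0, 0, 1, 2]),
  (18188936, [0, 0, 2, 0, 2, 1, 1, 2, 1, 2]),
  (18188932, [1, 2, 0, 1, 2, 0]),
  (18188940, [0, 0, 1, 2, 1, 0, 2, 1]),
  (18188930, [2, 1, 1, 0, 1, 2, 0]),
  (18188938, [0, 2, 1, 0, 2, 0, 2, 1, 2]),
  (18188934, [1, 2, 0, 2, 1, 1, 0]),
  (18188942, [0, 0, 2, 0, 2, 1]),
  (18188992, [0, 2, 0, 0, 1, 2, 0, 1, 1, 0]),
  (18189000, [0, 0, 1, 2, 1, 0, 1, 1, 2]),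
  (18188996, [1, 0, 2, 0, 1, 1, 0, 2]),
  (18189004, [0, 0, 2, 0, 1, 2, 1, 1]),
  (18188994, [1, 2, 0, 1, 1, 2, 1, 0]),
  (18189002, [2, 1, 0, 0, 2, 0]),
  (18188998, [1, 0, 1, 2, 0, 2, 1]),
  (18189006, [1, 2, 0, 2, 0, 1, 0, 0]),
  (18057600, [0, 2, 1, 1, 0, 2, 1, 1]),
  (18057608, [0, 2, 1, 1, 2, 1, 2, 0, 0, 2]),
  (18057604, [0, 1, 2, 0, 2, 1, 1]),
  (18057612, [2, 0, 2, 1, 0, 0]),
  (18057602, [0, 1, 2, 0, 1, 2]),
  (18057610, [0, 2, 1, 0, 0, 1, 2, 1]),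
  (18057606, [0, 2, 1, 1, 0, 1, 2]),
  (18057614, [0, 1, 2, 0, 0, 1, 0, 2, 1]),
  (18057664, [1, 0, 0, 2, 1, 1, 0, 2, 0]),
  (18057672, [0, 1, 1, 2, 0, 0, 1, 2, 1]),
  (18057668, [2, 0, 2, 1, 1, 0, 1]),
  (18057676, [1, 2, 0, 0, 2, 0, 1]),
  (18057666, [0, 2, 0, 1, 1, 0, 2, 1]),
  (18057674, [0, 1, 2, 1, 1, 0, 0, 2]),
  (18057670, [0, 1, 2, 0, 1, 1, 2, 1]),
  (18057678, [0, 2, 1, 0, 0, 2]),
  (18320256, [0, 1, 2, 0, 0, 1, 2, 0]),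
  (18320264, [1, 1, 0, 2, 1, 1, 0, 2]),
  (18320260, [0, 2, 0, 0, 1, 0, 2, 0]),
  (18320268, [2, 1, 0, 1, 2, 0, 2, 1, 2]),
  (18320258, [0, 1, 1, 0, 2, 0, 0, 2, 1]),
  (18320266, [0, 2, 0, 2, 1, 0]),
  (18320262, [1, 0, 0, 2, 0, 1, 2, 1]),
  (18320270, [0, 1, 1, 0, 2, 1, 0, 2]),
  (18320320, [0, 1, 0, 0, 2, 1, 1, 0, 2]),
  (18320328, [0, 0, 2, 1, 1, 0, 2, 0, 1]),
  (18320324, [2, 0, 0, 2, 0, 2, 1, 2]),
  (18320332, [0, 2, 0, 1, 1, 2, 0]),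
  (18320322, [1, 0, 0, 2, 0, 2]),
  (18320330, [0, 0, 1, 2, 0, 2, 0, 1]),
  (18320326, [1, 0, 0, 1, 2, 1, 0, 2]),
  (18320334, [0, 2, 0, 1, 2, 1, 1, 0])]

end CfsgLib.HeldUniq.Mdl
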